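import Cfsg.Agent.Lib.Classical.OrthEven.Basic
import Cfsg.Agent.Lib.Classical.OrthPrime.Main

/-!
# The geometric stabilisers do not contain `Ω`
-/

set_option autoImplicit false
set_option linter.unusedSectionVars false

namespace CfsgLib.Classical.OrthEven

open Matrix Cfsg Cfsg.Geo QuadraticMap CfsgLib.Orth CfsgLib.Classical CfsgLib.Classical.AschPrime
  CfsgLib.Classical.AschForm
open scoped MatrixGroups Kronecker

variable {F : Type*} [Field F] {n : ℕ} {Q : (Fin n → F) → F}
variable (hQ : IsNondegenerateQuadraticForm Q) [Fintype F] (hn : 7 ≤ n)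
include hQ hn

/-- The vectors orthogonal to two given ones. -/
theorem meets (d u : Fin n → F) {W : Submodule F (Fin n → F)} (hW : 3 ≤ Module.finrank F W) :
    ∃ v ∈ W, v ≠ 0 ∧ polar Q d v = 0 ∧ polar Q u v = 0 := by
  let L : W →ₗ[F] F × F := LinearMap.prod ((QuadraticMap.polarBilin (qf hQ) d).comp W.subtype)
    ((QuadraticMap.polarBilin (qf hQ) u).comp W.subtype)
  obtain ⟨w, hw, hw0⟩ := Submodule.exists_mem_ne_zero_of_ne_bot (p := LinearMap.ker L) (fun h => by
    have h1 := LinearMap.finrank_range_add_finrank_ker L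
    have h2 := (LinearMap.range L).finrank_le
    rw [h, finrank_bot] at h1
    rw [Module.finrank_prod, Module.finrank_self] at h2
    omega)
  rw [LinearMap.mem_ker] at hw
  exact ⟨w, w.2, fun e => hw0 (Subtype.ext e), congrArg Prod.fst hw, congrArg Prod.snd hw⟩

theorem exists_anisotropic_perp (d u : Fin n → F) :
    ∃ v, Q v ≠ 0 ∧ polar Q d v = 0 ∧ polar Q u v = 0 := by
  by_contra! hall
  let L : (Fin n → F) →ₗ[F] F × F := LinearMap.prod (QuadraticMap.polarBilin (qf hQ) d)
    (QuadraticMap.polarBilin (qf hQ) u)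
  have hU : ∀ v ∈ LinearMap.ker L, qf hQ v = 0 := fun v hv => by
    by_contra h
    rw [LinearMap.mem_ker] at hv
    exact hall v h (congrArg Prod.fst hv) (congrArg Prod.snd hv)
  have h1 := LinearMap.finrank_range_add_finrank_ker L
  have h2 := (LinearMap.range L).finrank_le
  have h3 := CfsgLib.Orth.singular_finrank_le (qf_nondeg hQ) _ hU
  rw [Module.finrank_prod, Module.finrank_self] at h2
  simp only [Module.finrank_fin_fun] at h1 h3
  omega

/-- A subspace family permuted by `Ω` whose members are at least two-dimensional, non-degenerate and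
pairwise orthogonal when two-dimensional: impossible. -/
theorem not_le_decomp {t m : ℕ} {D : Fin t → Submodule F (Fin n → F)} (hD : IsMDecomposition m D) (hm : 2 ≤ m)
    (horth : m = 2 → ∀ i j, i ≠ j → AreOrthogonalFor (polar Q) (D i) (D j)) :
    ¬ omegaGL Q ≤ decompositionStabilizer D := by
  classical
  intro hle
  have hb := hQ.polar_bilinear
  have hdisj : ∀ i j, i ≠ j → Disjoint (D i) (D j) := fun i j h => hD.indep.pairwiseDisjoint h
  -- elements with an anisotropic second vector fix every member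
  have key : ∀ d u g, g ∈ omegaGL Q → IsRoot Q g d u → (m = 2 → Q u ≠ 0) →
      ∀ i, (D i).map (Matrix.toLin' (g : Mat n F)) = D i := by
    intro d u g hg hr hu i
    obtain ⟨σ, hσ⟩ := hle hg
    suffices ∀ k, σ k = k by rw [hσ, this]
    by_contra! hk
    obtain ⟨k, hk⟩ := hk
    have hmem : ∀ a, ∀ v ∈ D a, (g : Mat n F) *ᵥ v ∈ D (σ a) := fun a v hv => by
      rw [← hσ a]; exact ⟨v, hv, by simp⟩
    have hnofix : ∀ a, σ a ≠ a → ∀ v ∈ D a, polar Q d v = 0 → polar Q u v = 0 → v = 0 := by
      intro a ha v hv h1 h2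
      have := hmem a v hv
      rw [hr.fix h1 h2] at this
      exact Submodule.disjoint_def.1 (hdisj a (σ a) (Ne.symm ha)) v hv this
    by_cases hm3 : 3 ≤ m
    · obtain ⟨v, hv, hv0, h1, h2⟩ := meets hQ hn d u (W := D k) (by rw [hD.finrank_eq]; exact hm3)
      exact hv0 (hnofix k hk v hv h1 h2)
    have hm2 : m = 2 := by omega
    have ho := horth hm2
    -- every element of `span {d, u}` is a difference of `g v` and `v`
    let L : D k →ₗ[F] F × F := LinearMap.prod ((QuadraticMap.polarBilin (qf hQ) d).comp (D k).subtype)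
      ((QuadraticMap.polarBilin (qf hQ) u).comp (D k).subtype)
    have hinj : Function.Injective L := (injective_iff_map_eq_zero _).2 fun v hv =>
      Subtype.ext (hnofix k hk v v.2 (congrArg Prod.fst hv) (congrArg Prod.snd hv))
    have hsurj : Function.Surjective L := (LinearMap.injective_iff_surjective_of_finrank_eq_finrank (by
      rw [hD.finrank_eq, Module.finrank_prod, Module.finrank_self, hm2])).1 hinj
    obtain ⟨⟨v, hv⟩, hvL⟩ := hsurj (1, -Q u)
    have h1 : polar Q d v = 1 := congrArg Prod.fst hvL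
    have h2 : polar Q u v = -Q u := congrArg Prod.snd hvL
    have hgv : (g : Mat n F) *ᵥ v = v + u := by
      rw [hr.2.2, h1, h2]; module
    have hvu : v + u ∈ D (σ k) := hgv ▸ hmem k v hv
    obtain ⟨⟨z, hz⟩, hzL⟩ := hsurj (0, -1)
    have hz1 : polar Q d z = 0 := congrArg Prod.fst hzL
    have hz2 : polar Q u z = -1 := congrArg Prod.snd hzL
    have hgz : (g : Mat n F) *ᵥ z = z + d := by rw [hr.2.2, hz1, hz2]; module
    have hzd : z + d ∈ D (σ k) := hgz ▸ hmem k z hz
    by_cases h22 : (2 : F) = 0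
    · have e := ho k (σ k) (Ne.symm hk) v hv (v + u) hvu
      rw [hb.add_right, b_self hQ] at e
      have hq := omega_isometry hg v
      rw [hgv, q_add hQ] at hq
      refine hu hm2 ?_
      linear_combination hq - e + Q v * h22
    · by_cases hσσ : σ (σ k) = k
      · have h3 : (g : Mat n F) *ᵥ (z + d) ∈ D k := hσσ ▸ hmem _ _ hzd
        have hdd : (g : Mat n F) *ᵥ d = d := hr.fix (by rw [b_self hQ, hr.1, mul_zero]) (by
          rw [b_comm hQ, hr.2.1])
        rw [Matrix.mulVec_add, hgz, hdd] at h3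
        have h4 : d + d ∈ D k := by
          have := (D k).sub_mem h3 hz
          convert this using 1
          abel
        rw [← two_smul F, (D k).smul_mem_iff h22] at h4
        have h5 : d ∈ D (σ k) := by
          have := hmem k d h4
          rwa [hdd] at this
        have hd0 : d = 0 := Submodule.disjoint_def.1 (hdisj k (σ k) (Ne.symm hk)) d h4 h5
        rw [hd0, b_zero_left hQ] at h1
        exact zero_ne_one h1
      · -- the member after the next is orthogonal to the first two, so it is fixed pointwise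
        have h3 : polar Q d ((g : Mat n F) *ᵥ (z + d)) = 0 := by
          have e1 := ho k (σ (σ k)) (Ne.symm hσσ) z hz _ (hmem _ _ hzd)
          have e2 := ho (σ k) (σ (σ k)) (fun h => hk (σ.injective h).symm) (z + d) hzd _ (hmem _ _ hzd)
          rw [hb.add_left, e1, zero_add] at e2
          exact e2
        have hne : σ (σ (σ k)) ≠ σ (σ k) := fun h => hk (σ.injective (σ.injective h))
        have h4 : polar Q u ((g : Mat n F) *ᵥ (z + d)) = 0 := by
          have e1 := ho k (σ (σ k)) (Ne.symm hσσ) v hv _ (hmem _ _ hzd)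
          have e2 := ho (σ k) (σ (σ k)) (fun h => hk (σ.injective h).symm) (v + u) hvu _ (hmem _ _ hzd)
          rw [hb.add_left, e1, zero_add] at e2
          exact e2
        have h5 := hnofix _ hne _ (hmem _ _ hzd) h3 h4
        have h6 : z + d = 0 := Matrix.mulVec_injective_iff_isUnit.2 g.isUnit (h5.trans (Matrix.mulVec_zero _).symm)
        have hd0 : d ∈ D k := by
          rw [eq_neg_of_add_eq_zero_right h6]; exact (D k).neg_mem hz
        have hdd : (g : Mat n F) *ᵥ d = d := hr.fix (by rw [b_self hQ, hr.1, mul_zero]) (by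
          rw [b_comm hQ, hr.2.1])
        have hd1 := hmem k d hd0
        rw [hdd] at hd1
        have := Submodule.disjoint_def.1 (hdisj k (σ k) (Ne.symm hk)) d hd0 hd1
        rw [this, b_zero_left hQ] at h1
        exact zero_ne_one h1
  have hall : ∀ d u g, g ∈ omegaGL Q → IsRoot Q g d u → ∀ i, ∀ v ∈ D i, (g : Mat n F) *ᵥ v ∈ D i := by
    intro d u g hg hr i v hv
    obtain ⟨u₁, hu₁, hdu₁, huu₁⟩ := exists_anisotropic_perp hQ hn d u
    by_cases hu : Q u = 0
    · have hdu₂ : polar Q d (u - u₁) = 0 := by rw [b_sub_right hQ, hr.2.1, hdu₁, sub_zero]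
      have hu₂ : Q (u - u₁) ≠ 0 := by
        have e : Q (u - u₁) = Q u₁ := by
          rw [sub_eq_add_neg, q_add hQ, ← neg_one_smul F u₁, q_smul hQ, hb.smul_right, hu, huu₁]
          ring
        rwa [e]
      obtain ⟨g₁, hg₁, hr₁⟩ := exists_root hQ (by omega) hr.1 hdu₁
      obtain ⟨g₂, hg₂, hr₂⟩ := exists_root hQ (by omega) hr.1 hdu₂
      have e1 := key _ _ g₁ hg₁ hr₁ (fun _ => hu₁) i
      have e2 := key _ _ g₂ hg₂ hr₂ (fun _ => hu₂) i
      have h12 := hr₁.mul hQ hr₂
      rw [add_sub_cancel] at h12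
      rw [hr.2.2, ← h12.2.2, Units.val_mul, ← Matrix.mulVec_mulVec, ← e1]
      refine ⟨(g₂ : Mat n F) *ᵥ v, ?_, by simp⟩
      rw [← e2]
      exact ⟨v, hv, by simp⟩
    · rw [← key _ _ g hg hr (fun _ => hu) i]
      exact ⟨v, hv, by simp⟩
  have h0 : (0 : ℕ) < t := by have := hD.two_le; omega
  rcases irreducible hQ (by omega) (W := D ⟨0, h0⟩) (fun d u g hg hr => hall d u g hg hr _) with h | h
  · have := hD.finrank_eq ⟨0, h0⟩
    rw [h, finrank_bot] at this
    omega
  · have h1 : (1 : ℕ) < t := hD.two_le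
    have hne : (⟨0, h0⟩ : Fin t) ≠ ⟨1, h1⟩ := fun e => by simpa using congrArg Fin.val e
    have hdj := hdisj _ _ hne
    rw [h] at hdj
    have := hD.finrank_eq ⟨1, h1⟩
    rw [top_disjoint.1 hdj, finrank_bot] at this
    omega

/-- `Ω` does not normalise an extension field. -/
theorem not_le_normalizer {r : ℕ} {K : Subalgebra F (Mat n F)} (hK : IsFieldSubalgebra r K) (hr : 2 ≤ r) :
    ¬ omegaGL Q ≤ subalgebraNormalizer K := by
  intro hle
  have hb := hQ.polar_bilinear
  have hcomm : ∀ d u g, g ∈ omegaGL Q → IsRoot Q g d u → ∀ k ∈ K, k * (g : Mat n F) = (g : Mat n F) * k := by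
    intro d u g hg hr' k hk
    have hk' := (hle hg k).1 hk
    set k' := (g : Mat n F) * k * ((g⁻¹ : GL (Fin n) F) : Mat n F) with hk'def
    have hgk : k' * (g : Mat n F) = (g : Mat n F) * k := by rw [hk'def]; simp [mul_assoc]
    by_cases hkk : k' - k = 0
    · rw [sub_eq_zero] at hkk
      rwa [hkk] at hgk
    exfalso
    obtain ⟨l, -, hl⟩ := hK.inv _ (K.sub_mem hk' hk) hkk
    let L : (Fin n → F) →ₗ[F] (F × F) × (F × F) := LinearMap.prod
      (LinearMap.prod (QuadraticMap.polarBilin (qf hQ) d) (QuadraticMap.polarBilin (qf hQ) u))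
      (LinearMap.prod ((QuadraticMap.polarBilin (qf hQ) d).comp (Matrix.toLin' k))
        ((QuadraticMap.polarBilin (qf hQ) u).comp (Matrix.toLin' k)))
    obtain ⟨v, hv, hv0⟩ := Submodule.exists_mem_ne_zero_of_ne_bot (p := LinearMap.ker L) (fun h => by
      have h1 := LinearMap.finrank_range_add_finrank_ker L
      have h2 := (LinearMap.range L).finrank_le
      rw [h, finrank_bot] at h1
      rw [Module.finrank_prod, Module.finrank_prod, Module.finrank_self] at h2
      simp only [Module.finrank_fin_fun] at h1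
      omega)
    rw [LinearMap.mem_ker] at hv
    have hfv : (g : Mat n F) *ᵥ v = v :=
      hr'.fix (congrArg (fun x => x.1.1) hv) (congrArg (fun x => x.1.2) hv)
    have hfk : (g : Mat n F) *ᵥ (k *ᵥ v) = k *ᵥ v := hr'.fix
      (by simpa [L, coe_qf hQ] using congrArg (fun x => x.2.1) hv) (by simpa [L, coe_qf hQ] using congrArg (fun x => x.2.2) hv)
    have e : (k' - k) *ᵥ v = 0 := by
      have := congrArg (fun X : Mat n F => X *ᵥ v) hgk
      simp only [← Matrix.mulVec_mulVec, hfv, hfk] at this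
      rw [Matrix.sub_mulVec, this, sub_self]
    have hu : IsUnit (k' - k) := IsUnit.of_mul_eq_one l hl
    exact hv0 (Matrix.mulVec_injective_iff_isUnit.2 hu (e.trans (Matrix.mulVec_zero _).symm))
  obtain ⟨hp⟩ := hyp_pairs hQ (by omega)
  have he : Q hp.e₀ = 0 := hp.he₀
  have h00 : polar Q hp.e₀ hp.f₀ = 1 := hp.h00
  have h11 : polar Q hp.e₁ hp.f₁ = 1 := hp.h11
  have hee : polar Q hp.e₀ hp.e₁ = 0 := hp.hee
  have hef : polar Q hp.e₀ hp.f₁ = 0 := hp.hef
  have he1 : Q hp.e₁ = 0 := hp.he₁
  have hf1 : Q hp.f₁ = 0 := hp.hf₁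
  -- every member maps `e₀` to a multiple of itself
  have hline : ∀ k ∈ K, ∀ u, polar Q hp.e₀ u = 0 → ∀ v, polar Q hp.e₀ v = 0 → polar Q u v = -1 →
      ∃ a b : F, k *ᵥ hp.e₀ = a • u + b • hp.e₀ := by
    intro k hk u hu v hv1 hv2
    obtain ⟨g, hg, hr'⟩ := exists_root hQ (by omega) he hu
    have hc := congrArg (fun X : Mat n F => X *ᵥ v) (hcomm _ _ g hg hr' k hk)
    simp only [← Matrix.mulVec_mulVec] at hc
    have hgv : (g : Mat n F) *ᵥ v = v + hp.e₀ := by rw [hr'.2.2, hv1, hv2]; module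
    rw [hgv, hr'.2.2 (k *ᵥ v), Matrix.mulVec_add] at hc
    exact ⟨polar Q hp.e₀ (k *ᵥ v), -(polar Q u (k *ᵥ v)) - Q u * polar Q hp.e₀ (k *ᵥ v),
      add_left_cancel (hc.trans (add_assoc _ _ _))⟩
  have hscal : ∀ k ∈ K, ∃ c : F, k = c • 1 := by
    intro k hk
    obtain ⟨a, b, hab⟩ := hline k hk hp.e₁ hee ((-1 : F) • hp.f₁) (by rw [hb.smul_right, hef, mul_zero])
      (by rw [hb.smul_right, h11, mul_one])
    obtain ⟨a', b', hab'⟩ := hline k hk hp.f₁ hef ((-1 : F) • hp.e₁) (by rw [hb.smul_right, hee, mul_zero])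
      (by rw [hb.smul_right, b_comm hQ, h11, mul_one])
    have ha : a = 0 := by
      have h := congrArg (fun x => polar Q x hp.f₁) (hab.symm.trans hab')
      simp only [hb.add_left, hb.smul_left, h11, hef, b_self hQ, hf1] at h
      linear_combination h
    refine ⟨b, ?_⟩
    by_contra hne
    obtain ⟨l, -, hl⟩ := hK.inv _ (K.sub_mem hk (K.smul_mem K.one_mem b)) (sub_ne_zero.mpr hne)
    have hu : IsUnit (k - b • (1 : Mat n F)) := IsUnit.of_mul_eq_one l hl
    have e : (k - b • (1 : Mat n F)) *ᵥ hp.e₀ = 0 := by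
      rw [Matrix.sub_mulVec, hab, ha, Matrix.smul_mulVec, Matrix.one_mulVec]; module
    refine hp.e₀_ne_zero ?_
    exact Matrix.mulVec_injective_iff_isUnit.2 hu (e.trans (Matrix.mulVec_zero _).symm)
  have hbot : K = ⊥ := eq_bot_iff.2 fun k hk => by
    obtain ⟨c, rfl⟩ := hscal k hk
    exact Algebra.mem_bot.2 ⟨c, (Algebra.algebraMap_eq_smul_one c)⟩
  have hfin := hK.finrank_eq
  haveI : NeZero n := ⟨by omega⟩
  rw [hbot, Subalgebra.finrank_bot] at hfin
  omega

/-- A tensor product stabiliser does not contain `Ω`. -/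
theorem not_le_tensor {n₁ n₂ : ℕ} (e : Fin n ≃ Fin n₁ × Fin n₂) (P : GL (Fin n) F) (h1 : 2 ≤ n₁) (h2 : 3 ≤ n₂) :
    ¬ omegaGL Q ≤ tensorProductSubgroup n₁ n₂ e P := by
  classical
  intro hle
  let pt : (Fin n₁ → F) → (Fin n₂ → F) → (Fin n → F) := fun x y =>
    (P : Mat n F) *ᵥ ((fun a : Fin n₁ × Fin n₂ => x a.1 * y a.2) ∘ e)
  have hact : ∀ g ∈ omegaGL Q, ∃ (a : GL (Fin n₁) F) (b : GL (Fin n₂) F), ∀ x y,
      (g : Mat n F) *ᵥ pt x y = pt ((a : Mat n₁ F) *ᵥ x) ((b : Mat n₂ F) *ᵥ y) := by
    intro g hg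
    obtain ⟨z, hz, rfl⟩ := hle hg
    obtain ⟨k, ⟨a, b, hab⟩, rfl⟩ := hz
    refine ⟨a, b, fun x y => ?_⟩
    have e1 : ((glReindex e.symm k : GL (Fin n) F) : Mat n F) *ᵥ ((fun a : Fin n₁ × Fin n₂ => x a.1 * y a.2) ∘ e) =
        (fun c : Fin n₁ × Fin n₂ => ((a : Mat n₁ F) *ᵥ x) c.1 * ((b : Mat n₂ F) *ᵥ y) c.2) ∘ e := by
      funext i
      show (∑ j, Matrix.reindex e.symm e.symm (k : Matrix _ _ F) i j * (x (e j).1 * y (e j).2)) = _
      rw [Fintype.sum_equiv e _ (fun c => (k : Matrix _ _ F) (e i) c * (x c.1 * y c.2)) fun j => by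
        simp]
      rw [hab]
      simp only [Matrix.kroneckerMap_apply, Function.comp_apply, Matrix.mulVec, dotProduct]
      rw [Finset.sum_mul_sum, ← Finset.sum_product']
      exact Finset.sum_congr rfl fun c _ => by ring
    show ((P * glReindex e.symm k * P⁻¹ : GL (Fin n) F) : Mat n F) *ᵥ ((P : Mat n F) *ᵥ _) = (P : Mat n F) *ᵥ _
    rw [Units.val_mul, Units.val_mul, Matrix.mulVec_mulVec, mul_assoc, Units.inv_mul, mul_one,
      ← Matrix.mulVec_mulVec, e1]
  have hptinj : ∀ x y x' y', pt x y = pt x' y' → ∀ i j, x i * y j = x' i * y' j := by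
    intro x y x' y' h i j
    have := congrFun (Matrix.mulVec_injective_iff_isUnit.2 P.isUnit h) (e.symm (i, j))
    simpa using this
  let sl : (Fin n₁ → F) → ((Fin n₂ → F) →ₗ[F] (Fin n → F)) := fun x =>
    { toFun := pt x
      map_add' := fun y y' => by
        simp only [pt]; rw [← Matrix.mulVec_add]; congr 1; funext i; simp [mul_add]
      map_smul' := fun c y => by
        simp only [pt, RingHom.id_apply]; rw [← Matrix.mulVec_smul]; congr 1; funext i; simp; ring }
  -- the root elements act trivially on the first factor, so they keep each slice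
  have hslice : ∀ d u g, g ∈ omegaGL Q → IsRoot Q g d u → ∀ x, ∀ v ∈ LinearMap.range (sl x),
      (g : Mat n F) *ᵥ v ∈ LinearMap.range (sl x) := by
    intro d u g hg hr x
    obtain ⟨a, b, hab⟩ := hact g hg
    rintro _ ⟨y, rfl⟩
    show (g : Mat n F) *ᵥ pt x y ∈ _
    by_cases hx : x = 0
    · subst hx
      exact ⟨y, (congrArg (fun v => v) (by
        rw [hab]
        show pt 0 y = _
        simp only [pt, Matrix.mulVec_zero]
        congr 1
        funext i; simp))⟩
    obtain ⟨i, hi⟩ : ∃ i, x i ≠ 0 := by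
      by_contra! h
      exact hx (funext h)
    have hinj : Function.Injective (sl x) := fun y y' h => funext fun j =>
      mul_left_cancel₀ hi (hptinj _ _ _ _ h i j)
    obtain ⟨w, hw, hw0, hd', hu'⟩ := meets hQ hn d u (W := LinearMap.range (sl x)) (by
      rw [LinearMap.finrank_range_of_inj hinj, Module.finrank_fin_fun]; exact h2)
    obtain ⟨y₁, rfl⟩ := hw
    have h := hr.fix hd' hu'
    change (g : Mat n F) *ᵥ pt x y₁ = pt x y₁ at h
    rw [hab] at h
    obtain ⟨j, hj⟩ : ∃ j, y₁ j ≠ 0 := by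
      by_contra! h'
      exact hw0 (by rw [show y₁ = 0 from funext h', map_zero])
    have hprop := fun i' => hptinj _ _ _ _ h i' j
    have hbj : ((b : Mat n₂ F) *ᵥ y₁) j ≠ 0 := fun e' => by
      have := hprop i
      rw [e', mul_zero] at this
      exact mul_ne_zero hi hj this.symm
    have hax : (a : Mat n₁ F) *ᵥ x = (y₁ j / ((b : Mat n₂ F) *ᵥ y₁) j) • x := by
      funext i'
      have := hprop i'
      simp only [Pi.smul_apply, smul_eq_mul]
      field_simp
      linear_combination this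
    refine ⟨(y₁ j / ((b : Mat n₂ F) *ᵥ y₁) j) • ((b : Mat n₂ F) *ᵥ y), ?_⟩
    rw [hab, hax]
    show pt x _ = pt _ _
    simp only [pt]
    congr 1
    funext c
    simp
    ring
  let x₀ : Fin n₁ → F := Pi.single ⟨0, by omega⟩ 1
  have hinj0 : Function.Injective (sl x₀) := fun y y' h => funext fun j => by
    have := hptinj _ _ _ _ h ⟨0, by omega⟩ j
    simpa [x₀] using this
  have hcard : n = n₁ * n₂ := by simpa using Fintype.card_congr e
  rcases irreducible hQ (by omega) (W := LinearMap.range (sl x₀)) (fun d u g hg hr => hslice d u g hg hr x₀) with h | h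
  · have := LinearMap.finrank_range_of_inj hinj0
    rw [h, finrank_bot, Module.finrank_fin_fun] at this
    omega
  · have := LinearMap.finrank_range_of_inj hinj0
    rw [h, finrank_top, Module.finrank_fin_fun, Module.finrank_fin_fun] at this
    nlinarith

/-- `Ω` is not inside a subfield group. -/
theorem not_le_subfield {F₀ : Subfield F} (h : F₀ ≠ ⊤) (P : GL (Fin n) F) :
    ¬ omegaGL Q ≤ subfieldSubgroup F₀ P := by
  classical
  intro hle
  obtain ⟨N, hN, hN0, hroot⟩ := exists_root_family hQ (n := n) (by omega)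
  by_cases h2 : (2 : F) = 0
  swap
  · exact OrthPrime.not_le_subfield h2 hN hN0 hroot h P hle
  obtain ⟨τ, hτ⟩ := exists_frob_fixed F₀
  set N' := ((P⁻¹ : GL (Fin n) F) : Mat n F) * N * (P : Mat n F) with hN'def
  have hN' : N' * N' = 0 := by
    rw [hN'def, show ((P⁻¹ : GL (Fin n) F) : Mat n F) * N * (P : Mat n F) *
      (((P⁻¹ : GL (Fin n) F) : Mat n F) * N * (P : Mat n F)) =
      ((P⁻¹ : GL (Fin n) F) : Mat n F) * (N * N) * (P : Mat n F) by
        simp only [mul_assoc, Units.mul_inv_cancel_left], hN, mul_zero, zero_mul]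
  obtain ⟨i, j, hij⟩ : ∃ i j, N' i j ≠ 0 := by
    by_contra hall
    push Not at hall
    refine hN0 ?_
    have e : N' = 0 := Matrix.ext hall
    calc N = (P : Mat n F) * N' * ((P⁻¹ : GL (Fin n) F) : Mat n F) := by
          simp [hN'def, mul_assoc]
      _ = 0 := by rw [e, mul_zero, zero_mul]
  haveI : CharP F 2 := CharTwo.of_one_ne_zero_of_two_eq_zero one_ne_zero h2
  have hmem : ∀ t : F, t * N' i j ∈ F₀ := by
    intro t
    obtain ⟨g, hg, hgN⟩ := hroot t
    obtain ⟨c, hc0, hc⟩ := (CfsgLib.Classical.SubfieldMax.mem_subfieldSubgroup_iff F₀ P g).mp (hle hg)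
    set A := c • (1 + t • N') with hA
    have hPg : ((P⁻¹ * g * P : GL (Fin n) F) : Mat n F) = 1 + t • N' := by
      rw [Units.val_mul, Units.val_mul, hgN, hN'def]
      simp [mul_add, add_mul, mul_assoc]
    have hrat : ∀ a b, A a b ∈ F₀ := fun a b => by
      have := hc a b
      rwa [hPg] at this
    have hAA : A * A = (c * c) • (1 : Mat n F) := by
      rw [hA]
      simp only [Matrix.smul_mul, Matrix.mul_smul, mul_add, add_mul, mul_one, one_mul, hN', smul_zero,
        smul_add, smul_smul, add_zero]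
      rw [show (c * c) • (1 : Mat n F) + (c * (c * t)) • N' + (c * t * c) • N' =
        (c * c) • 1 + (2 * (c * c * t)) • N' by module, h2, zero_mul, zero_smul, add_zero]
    have hcF : c ∈ F₀ := by
      have hcc : c * c ∈ F₀ := by
        have e := congrFun (congrFun hAA i) i
        rw [Matrix.smul_apply, Matrix.one_apply_eq, smul_eq_mul, mul_one] at e
        rw [← e, Matrix.mul_apply]
        exact F₀.sum_mem fun k _ => F₀.mul_mem (hrat i k) (hrat k i)
      rw [← hτ] at hcc ⊢
      rw [map_mul, ← pow_two, ← pow_two] at hcc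
      exact CharTwo.sq_injective hcc
    have h3 : A i j - c * (1 : Mat n F) i j ∈ F₀ :=
      F₀.sub_mem (hrat i j) (F₀.mul_mem hcF (by
        rw [Matrix.one_apply]; split <;> [exact F₀.one_mem; exact F₀.zero_mem]))
    have h4 : A i j - c * (1 : Mat n F) i j = c * (t * N' i j) := by
      simp [hA, Matrix.add_apply, mul_add]
    rw [h4] at h3
    simpa [← mul_assoc, inv_mul_cancel₀ hc0] using F₀.mul_mem (F₀.inv_mem hcF) h3
  refine h (eq_top_iff.mpr fun x _ => ?_)
  simpa [mul_assoc, inv_mul_cancel₀ hij] using hmem (x * (N' i j)⁻¹)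

end CfsgLib.Classical.OrthEven
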