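import Cfsg.Agent.Lib.Classical.OrthEven.Tensor
import Cfsg.Agent.Lib.Classical.AschSp.PlusFour
import Cfsg.Agent.Lib.Classical.Discriminant

/-!
# Three times four tensor decompositions with a plus type factor
-/

set_option autoImplicit false
set_option linter.unusedSectionVars false

namespace CfsgLib.Classical.OrthEven

open Matrix Cfsg Cfsg.Geo QuadraticMap CfsgLib.Orth CfsgLib.Classical CfsgLib.Classical.AschPrime
  CfsgLib.Classical.AschForm CfsgLib.Classical.TensorNonMax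
open CfsgLib.Classical.AschSp (M22 swap22 swap22_swap swap22_kron plus_normal_form similitude_pure
  fog_bilinear fog_symplectic gram_fog pull pull_apply mem_tensor_iff)
open CfsgLib.Classical.AschGen (planeGram plane_sim plane_transpose plane_mul_neg)
open scoped MatrixGroups Kronecker

variable {F : Type*} [Field F] [Fintype F] {n m k : ℕ}

theorem pull_tmap (e : Fin n ≃ Fin m × Fin k) (P : GL (Fin n) F) (a : Mat m F) (b : Mat k F) (u : Fin m → F)
    (w : Fin k → F) : pull e P (a ⊗ₖ b) *ᵥ tmap e P u w = tmap e P (a *ᵥ u) (b *ᵥ w) := by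
  rw [pull_apply, tmap_apply, tmap_apply, Matrix.mulVec_mulVec, Matrix.mul_assoc, Units.inv_mul, Matrix.mul_one,
    ← Matrix.mulVec_mulVec]
  congr 1
  funext i
  simp only [Matrix.mulVec, dotProduct, Matrix.reindex_apply, Matrix.submatrix_apply, Equiv.symm_symm,
    Function.comp_apply, Matrix.kroneckerMap_apply]
  rw [Finset.sum_mul_sum, ← Finset.sum_product', ← e.symm.sum_comp]
  refine Finset.sum_congr rfl fun p _ => ?_
  simp only [Equiv.apply_symm_apply]
  ring

theorem gram_transform {f : (Fin k → F) → (Fin k → F) → F} (hb : IsBilinearForm f) (M : Mat k F) (i j : Fin k) :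
    (Mᵀ * gramMatrix f * M) i j = f (M *ᵥ Pi.single i 1) (M *ᵥ Pi.single j 1) := by
  rw [(isSesq_of_bilinear hb).apply, Matrix.mulVec_single_one, Matrix.mulVec_single_one]
  simp only [Matrix.mul_apply, Matrix.transpose_apply, dotProduct, Matrix.mulVec, Finset.sum_mul,
    Finset.mul_sum, RingHom.coe_id, Function.id_comp, mul_assoc, Matrix.col_apply]
  exact Finset.sum_comm

theorem gram_of_similitude {f : (Fin k → F) → (Fin k → F) → F} (hb : IsBilinearForm f) {M : Mat k F} {μ : F}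
    (h : ∀ u v, f (M *ᵥ u) (M *ᵥ v) = μ * f u v) : Mᵀ * gramMatrix f * M = μ • gramMatrix f := by
  ext i j
  rw [gram_transform hb, h]
  rfl

theorem swap22_det : (swap22 : M22 F).det = -1 := by
  have h : (swap22 : M22 F) = (Equiv.swap ((0, 1) : Fin 2 × Fin 2) (1, 0)).permMatrix F := by
    ext ⟨a, b⟩ ⟨c, d⟩
    fin_cases a <;> fin_cases b <;> fin_cases c <;> fin_cases d <;>
      simp [swap22, Equiv.Perm.permMatrix, PEquiv.toMatrix_apply, Equiv.swap_apply_def]
  rw [h, Matrix.det_permutation, Equiv.Perm.sign_swap (by decide)]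
  simp

variable {Q : (Fin 12 → F) → F} {H : Subgroup (GL (Fin 12) F)} {e : Fin 12 ≃ Fin 3 × Fin 4} {P : GL (Fin 12) F}
  {f₁ : (Fin 3 → F) → (Fin 3 → F) → F} {f₂ : (Fin 4 → F) → (Fin 4 → F) → F}

/-- A plus type factor of dimension four is absorbed into a plane factor. -/
theorem absorb_four (T : Tens Q H e P f₁ f₂) (h2 : (2 : F) ≠ 0) (hs₁ : ∀ u v, f₁ u v = f₁ v u)
    (hf₂ : IsSymmetricForm f₂) (hplus : IsPlusTypeOn (fun v => f₂ v v) ⊤) :
    ∃ (e' : Fin 12 ≃ Fin 2 × Fin 6) (P' : GL (Fin 12) F) (g₁ : (Fin 2 → F) → (Fin 2 → F) → F)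
      (g₂ : (Fin 6 → F) → (Fin 6 → F) → F), Tens Q H e' P' g₁ g₂ ∧ ∀ u, g₁ u u = 0 := by
  classical
  obtain ⟨c, hc0, hc⟩ := T.struct
  set G1 := gramMatrix f₁ with hG1
  set G2 := gramMatrix f₂ with hG2
  have hG1u : IsUnit G1 := (isSesq_of_bilinear T.bil₁).isUnit_gram T.nd₁
  have hG2u : IsUnit G2 := (isSesq_of_bilinear T.bil₂).isUnit_gram T.nd₂
  have hG1t : G1ᵀ = G1 := by ext i j; exact hs₁ _ _
  obtain ⟨Q4, hQ4⟩ := plus_normal_form h2 hf₂ hplus
  let e4 : Fin 4 ≃ Fin 2 × Fin 2 := (finProdFinEquiv (m := 2) (n := 2)).symm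
  set J2 : M22 F := (planeGram : Mat 2 F) ⊗ₖ planeGram with hJ2
  let Q' : Mat 4 F := Q4.submatrix id e4
  have hQ' : Q'ᵀ * G2 * Q' = J2.submatrix e4 e4 := by
    ext i j
    rw [Matrix.submatrix_apply, ← hQ4]
    simp [Q', Matrix.mul_apply, hG2]
  have hpd : (planeGram : Mat 2 F).det = 1 := by simp [planeGram, Matrix.det_fin_two]
  have hQu : IsUnit Q' := by
    refine (Matrix.isUnit_iff_isUnit_det _).mpr ?_
    have h := congrArg Matrix.det hQ'
    rw [Matrix.det_mul, Matrix.det_mul, Matrix.det_submatrix_equiv_self, Matrix.det_kronecker, hpd, one_pow,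
      one_mul] at h
    exact IsUnit.of_mul_eq_one_right _ h
  let q : GL (Fin 4) F := hQu.unit
  have hqv : (q : Mat 4 F) = Q' := rfl
  let S : GL (Fin 3 × Fin 4) F := ⟨(1 : Mat 3 F) ⊗ₖ (q : Mat 4 F),
    (1 : Mat 3 F) ⊗ₖ ((q⁻¹ : GL (Fin 4) F) : Mat 4 F),
    by rw [← Matrix.mul_kronecker_mul, mul_one, Units.mul_inv, Matrix.one_kronecker_one],
    by rw [← Matrix.mul_kronecker_mul, mul_one, Units.inv_mul, Matrix.one_kronecker_one]⟩
  let P' : GL (Fin 12) F := P * glReindex e.symm S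
  let e32 : Fin 3 × Fin 2 ≃ Fin 6 := finProdFinEquiv
  let σ : Fin 3 × Fin 4 ≃ Fin 2 × Fin 6 :=
    { toFun := fun p => ((e4 p.2).1, e32 (p.1, (e4 p.2).2))
      invFun := fun r => ((e32.symm r.2).1, e4.symm (r.1, (e32.symm r.2).2))
      left_inv := fun p => by simp
      right_inv := fun r => by simp }
  let e' : Fin 12 ≃ Fin 2 × Fin 6 := e.trans σ
  let G6 : Mat 6 F := Matrix.reindex e32 e32 (G1 ⊗ₖ (planeGram : Mat 2 F))
  have hG6t : G6ᵀ = -G6 := by
    show (Matrix.reindex e32 e32 (G1 ⊗ₖ (planeGram : Mat 2 F)))ᵀ = _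
    rw [Matrix.transpose_reindex, ← Matrix.kroneckerMap_transpose, hG1t, plane_transpose, Matrix.kronecker_smul,
      neg_smul, one_smul]
    rfl
  have hG6d : ∀ i, G6 i i = 0 := fun i => by
    rcases hi : e32.symm i with ⟨a, b⟩
    show (G1 ⊗ₖ (planeGram : Mat 2 F)) (e32.symm i) (e32.symm i) = 0
    rw [hi]
    fin_cases b <;> simp [planeGram]
  have hG6u : IsUnit G6 := by
    refine (Matrix.isUnit_iff_isUnit_det _).mpr ?_
    rw [Matrix.det_reindex_self, Matrix.det_kronecker, hpd, one_pow, mul_one]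
    exact ((Matrix.isUnit_iff_isUnit_det _).mp hG1u).pow _
  have hg₁ : IsSymplecticForm (formOfGram id (planeGram : Mat 2 F)) := by
    refine fog_symplectic (.of_mul_eq_one _ plane_mul_neg) ⟨?_, fun i => by fin_cases i <;> simp [planeGram]⟩
    rw [plane_transpose, neg_smul, one_smul]
  have hg₂ : IsSymplecticForm (formOfGram id G6) := fog_symplectic hG6u ⟨hG6t, hG6d⟩
  refine ⟨e', P', formOfGram id planeGram, formOfGram id G6,
    ⟨T.quad, T.le_omega, le_rfl, by norm_num, ?_, hg₁.bilinear, hg₂.bilinear, hg₁.nondegenerate, hg₂.nondegenerate,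
      ?_, -1, .inr rfl, fun u v => by rw [hg₁.skew v u, neg_one_mul],
      fun u v => by rw [hg₂.skew v u, neg_one_mul]⟩, hg₁.alternating⟩
  · intro h hh
    obtain ⟨a, b, μ, hμ, hab, ha, hb⟩ := T.act hh
    have hhm : (h : Mat 12 F) = pull e P ((a : Mat 3 F) ⊗ₖ (b : Mat 4 F)) :=
      ext_tmap e P fun u w => by rw [hab, pull_tmap]
    have haG := gram_of_similitude T.bil₁ ha
    have hbG := gram_of_similitude T.bil₂ hb
    have hda : (a : Mat 3 F).det ^ 2 = μ ^ 3 := by
      have h := congrArg Matrix.det haG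
      rw [Matrix.det_mul, Matrix.det_mul, Matrix.det_transpose, Matrix.det_smul, Fintype.card_fin, ← hG1] at h
      refine mul_right_cancel₀ ((Matrix.isUnit_iff_isUnit_det _).mp hG1u).ne_zero ?_
      linear_combination h
    have hdb : (b : Mat 4 F).det ^ 2 = μ⁻¹ ^ 4 := by
      have h := congrArg Matrix.det hbG
      rw [Matrix.det_mul, Matrix.det_mul, Matrix.det_transpose, Matrix.det_smul, Fintype.card_fin, ← hG2] at h
      refine mul_right_cancel₀ ((Matrix.isUnit_iff_isUnit_det _).mp hG2u).ne_zero ?_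
      linear_combination h
    have h1 : (a : Mat 3 F).det ^ 4 * (b : Mat 4 F).det ^ 3 = 1 := by
      have h := det_omega (T.le_omega hh)
      rw [hhm, pull_apply, Matrix.det_mul, Matrix.det_mul, mul_right_comm, ← Matrix.det_mul, Units.mul_inv,
        Matrix.det_one, one_mul, Matrix.det_reindex_self, Matrix.det_kronecker, Fintype.card_fin,
        Fintype.card_fin] at h
      exact h
    have hbd : (b : Mat 4 F).det = μ⁻¹ ^ 2 := by
      have e1 : μ ^ 6 * (b : Mat 4 F).det ^ 3 = 1 := by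
        linear_combination h1 - ((a : Mat 3 F).det ^ 2 + μ ^ 3) * (b : Mat 4 F).det ^ 3 * hda
      have e2 : μ ^ 6 * (μ⁻¹ ^ 4 * (b : Mat 4 F).det) = 1 := by
        linear_combination e1 - μ ^ 6 * (b : Mat 4 F).det * hdb
      field_simp at e2 ⊢
      linear_combination e2
    set qi : Mat 4 F := ((q⁻¹ : GL (Fin 4) F) : Mat 4 F) with hqi
    let B4 : GL (Fin 4) F := q⁻¹ * b * q
    let B : (M22 F)ˣ := glReindex e4 B4
    have hB : (B : M22 F)ᵀ * J2 * (B : M22 F) = μ⁻¹ • J2 := by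
      have h4 : (B4 : Mat 4 F)ᵀ * J2.submatrix e4 e4 * (B4 : Mat 4 F) = μ⁻¹ • J2.submatrix e4 e4 := by
        rw [← hQ', ← hqv, Units.val_mul, Units.val_mul]
        calc (qi * (b : Mat 4 F) * (q : Mat 4 F))ᵀ * ((q : Mat 4 F)ᵀ * G2 * (q : Mat 4 F)) *
              (qi * (b : Mat 4 F) * (q : Mat 4 F))
            = (q : Mat 4 F)ᵀ * ((b : Mat 4 F)ᵀ * (((q : Mat 4 F) * qi)ᵀ * G2 * ((q : Mat 4 F) * qi)) *
                (b : Mat 4 F)) * (q : Mat 4 F) := by simp only [Matrix.transpose_mul, mul_assoc]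
          _ = _ := by
            rw [show (q : Mat 4 F) * qi = 1 from Units.mul_inv q, Matrix.transpose_one, one_mul, mul_one,
              hG2, hbG, Matrix.mul_smul, Matrix.smul_mul]
      have := congrArg (fun M : Mat 4 F => M.submatrix e4.symm e4.symm) h4
      simp only [← Matrix.submatrix_mul_equiv _ _ _ e4.symm, Matrix.submatrix_smul, Pi.smul_apply,
        Matrix.submatrix_submatrix, Equiv.self_comp_symm, Matrix.submatrix_id_id] at this
      exact this
    have hBd : (B : M22 F).det = μ⁻¹ ^ 2 := by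
      show (Matrix.reindexAlgEquiv F F e4 (B4 : Mat 4 F)).det = _
      rw [Matrix.reindexAlgEquiv_apply, Matrix.det_reindex_self, Units.val_mul, Units.val_mul, Matrix.det_units_conj',
        hbd]
    obtain ⟨x, y, hxy | hxy⟩ := similitude_pure h2 B hB
    · let z0 : GL (Fin 3 × Fin 2) F := ⟨(a : Mat 3 F) ⊗ₖ (y : Mat 2 F),
        ((a⁻¹ : GL (Fin 3) F) : Mat 3 F) ⊗ₖ ((y⁻¹ : GL (Fin 2) F) : Mat 2 F),
        by rw [← Matrix.mul_kronecker_mul, Units.mul_inv, Units.mul_inv, Matrix.one_kronecker_one],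
        by rw [← Matrix.mul_kronecker_mul, Units.inv_mul, Units.inv_mul, Matrix.one_kronecker_one]⟩
      refine (mem_tensor_iff e' P').mpr ⟨x, glReindex e32 z0, ?_⟩
      have hX : Matrix.reindex e'.symm e'.symm ((x : Mat 2 F) ⊗ₖ (glReindex e32 z0 : Mat 6 F)) =
          Matrix.reindex e.symm e.symm ((a : Mat 3 F) ⊗ₖ (B4 : Mat 4 F)) := by
        ext i j
        have hB4 : ∀ i j, (B4 : Mat 4 F) i j = (B : M22 F) (e4 i) (e4 j) := fun i j => by
          show _ = (B4 : Mat 4 F) (e4.symm (e4 i)) (e4.symm (e4 j))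
          simp
        simp only [Matrix.reindex_apply, Matrix.submatrix_apply, Equiv.symm_symm, Matrix.kroneckerMap_apply,
          hB4, hxy, glReindex_apply, z0, e', σ, Equiv.trans_apply, Equiv.coe_fn_mk, Equiv.symm_apply_apply]
        ring
      have hkey : (a : Mat 3 F) ⊗ₖ (b : Mat 4 F) =
          (S : Matrix (Fin 3 × Fin 4) (Fin 3 × Fin 4) F) * ((a : Mat 3 F) ⊗ₖ (B4 : Mat 4 F)) *
            ((S⁻¹ : GL (Fin 3 × Fin 4) F) : Matrix (Fin 3 × Fin 4) (Fin 3 × Fin 4) F) := by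
        show _ = ((1 : Mat 3 F) ⊗ₖ (q : Mat 4 F)) * ((a : Mat 3 F) ⊗ₖ (B4 : Mat 4 F)) * ((1 : Mat 3 F) ⊗ₖ qi)
        rw [← Matrix.mul_kronecker_mul, ← Matrix.mul_kronecker_mul, one_mul, mul_one, Units.val_mul, Units.val_mul]
        simp only [hqi, mul_assoc, Units.mul_inv, mul_one, Units.mul_inv_cancel_left]
      have hR : ∀ A B : Matrix (Fin 3 × Fin 4) (Fin 3 × Fin 4) F, Matrix.reindex e.symm e.symm (A * B) =
          Matrix.reindex e.symm e.symm A * Matrix.reindex e.symm e.symm B :=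
        fun A B => map_mul (Matrix.reindexAlgEquiv F F e.symm) A B
      rw [hhm, pull_apply, pull_apply, hX, hkey, hR, hR, Units.val_mul, _root_.mul_inv_rev, Units.val_mul, ← map_inv]
      simp only [P', Units.val_mul, _root_.mul_inv_rev, map_inv, mul_assoc]
      rfl
    · exfalso
      have hm : ((x : Mat 2 F).det * (y : Mat 2 F).det) • J2 = μ⁻¹ • J2 := by
        rw [← hB, hxy, Matrix.transpose_mul]
        have hs : (swap22 : M22 F)ᵀ = swap22 := by
          ext p r
          simp only [swap22, Matrix.transpose_apply, Matrix.of_apply]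
          congr 1
          exact propext ⟨fun h => by rw [h, Prod.swap_swap], fun h => by rw [h, Prod.swap_swap]⟩
        rw [hs, show (((x : Mat 2 F) ⊗ₖ (y : Mat 2 F))ᵀ * swap22) * J2 * (swap22 * ((x : Mat 2 F) ⊗ₖ (y : Mat 2 F))) =
          ((x : Mat 2 F) ⊗ₖ (y : Mat 2 F))ᵀ * (swap22 * J2 * swap22) * ((x : Mat 2 F) ⊗ₖ (y : Mat 2 F)) by
            simp only [mul_assoc],
          hJ2, swap22_kron, ← Matrix.kroneckerMap_transpose, ← Matrix.mul_kronecker_mul, ← Matrix.mul_kronecker_mul,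
          plane_sim, plane_sim, Matrix.smul_kronecker, Matrix.kronecker_smul, smul_smul]
      have hm' : (x : Mat 2 F).det * (y : Mat 2 F).det = μ⁻¹ := by
        have := congrFun (congrFun hm (0, 0)) (1, 1)
        simpa [hJ2, planeGram] using this
      rw [hxy, Matrix.det_mul, swap22_det, Matrix.det_kronecker, Fintype.card_fin, ← mul_pow, hm'] at hBd
      refine h2 (mul_right_cancel₀ (pow_ne_zero 2 (inv_ne_zero hμ)) ?_)
      linear_combination -hBd
  · refine ⟨c, hc0, fun x y => ?_⟩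
    have hP' : ∀ x : Fin 2 × Fin 6 → F, (P' : Mat 12 F) *ᵥ (x ∘ e') =
        (P : Mat 12 F) *ᵥ (((S : Matrix (Fin 3 × Fin 4) (Fin 3 × Fin 4) F) *ᵥ (x ∘ σ)) ∘ e) := fun x => by
      rw [show (P' : Mat 12 F) = (P : Mat 12 F) *
        (S : Matrix (Fin 3 × Fin 4) (Fin 3 × Fin 4) F).submatrix e e from rfl, ← Matrix.mulVec_mulVec]
      congr 1
      rw [Matrix.submatrix_mulVec_equiv]
      congr 2
      funext p
      simp [e']
    have hfd : ∀ {ι : Type} [Fintype ι] (G : Matrix ι ι F) (x y : ι → F), formOfGram id G x y = x ⬝ᵥ (G *ᵥ y) :=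
      fun G x y => by simp only [formOfGram, dotProduct, Matrix.mulVec, Finset.mul_sum, id_eq, mul_assoc]
    rw [hP', hP', hc, gram_fog, gram_fog, hfd, hfd]
    congr 1
    rw [Matrix.mulVec_mulVec, ← Matrix.vecMul_transpose, ← Matrix.dotProduct_mulVec, Matrix.mulVec_mulVec,
      ← mul_assoc]
    have hid : (S : Matrix (Fin 3 × Fin 4) (Fin 3 × Fin 4) F)ᵀ * (G1 ⊗ₖ G2) *
        (S : Matrix (Fin 3 × Fin 4) (Fin 3 × Fin 4) F) = ((planeGram : Mat 2 F) ⊗ₖ G6).submatrix σ σ := by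
      show ((1 : Mat 3 F) ⊗ₖ (q : Mat 4 F))ᵀ * (G1 ⊗ₖ G2) * ((1 : Mat 3 F) ⊗ₖ (q : Mat 4 F)) = _
      rw [← Matrix.kroneckerMap_transpose, ← Matrix.mul_kronecker_mul, ← Matrix.mul_kronecker_mul,
        Matrix.transpose_one, one_mul, mul_one, hqv, hQ']
      ext ⟨i, j⟩ ⟨i', j'⟩
      simp only [Matrix.submatrix_apply, Matrix.kroneckerMap_apply, hJ2, G6, Matrix.reindex_apply, σ,
        Equiv.coe_fn_mk, Equiv.symm_apply_apply]
      ring
    rw [hid, Matrix.submatrix_mulVec_equiv]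
    simp only [dotProduct]
    exact Fintype.sum_equiv σ _ _ fun i => by simp [Function.comp_def]

/-- For a form of plus type the factor of dimension four has plus type. -/
theorem four_factor_plus (T : Tens Q H e P f₁ f₂) (h2 : (2 : F) ≠ 0) (hs₁ : ∀ u v, f₁ u v = f₁ v u)
    (hs₂ : ∀ u v, f₂ u v = f₂ v u) (hp : IsPlusTypeOn Q ⊤) : IsPlusTypeOn (fun v => f₂ v v) ⊤ := by
  classical
  have hQ := T.quad
  obtain ⟨c, hc, hf⟩ := form_of T.struct T.bil₁ T.bil₂
  obtain ⟨L, -, hL, hLd⟩ := hp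
  rw [finrank_top, Module.finrank_fin_fun] at hLd
  set B : LinearMap.BilinForm F (Fin 12 → F) := QuadraticMap.polarBilin (qf hQ) with hB
  have hBs : B.IsSymm := ⟨fun u v => b_comm hQ u v⟩
  have hcol : ∀ i : Fin 12, (P : Mat 12 F) *ᵥ Pi.single i 1 = tmap e P (Pi.single (e i).1 1) (Pi.single (e i).2 1) :=
    fun i => by
    rw [tmap_apply]
    congr 1
    funext j
    by_cases hj : j = i
    · subst hj; simp
    · have hne : e j ≠ e i := fun he => hj (e.injective he)
      simp only [Function.comp_apply, Pi.single_eq_of_ne hj]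
      rcases (not_and_or.1 fun h2 : (e j).1 = (e i).1 ∧ (e j).2 = (e i).2 => hne (Prod.ext h2.1 h2.2)) with h2 | h2
      · simp [Pi.single_eq_of_ne h2]
      · simp [Pi.single_eq_of_ne h2]
  have hsq := Discriminant.isSquare_of_lagrangian B hBs (m := 6) (by simp) L (by omega) (fun x hx y hy => by
    show polar Q x y = 0
    simp [QuadraticMap.polar, hL _ (L.add_mem hx hy), hL x hx, hL y hy]) (Pi.basisFun F (Fin 12))
  have hM : (P : Mat 12 F)ᵀ * LinearMap.BilinForm.toMatrix (Pi.basisFun F (Fin 12)) B * (P : Mat 12 F) =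
      Matrix.reindex e.symm e.symm ((c • gramMatrix f₁) ⊗ₖ gramMatrix f₂) := by
    have hg : LinearMap.BilinForm.toMatrix (Pi.basisFun F (Fin 12)) B = gramMatrix (polar Q) := by
      ext i j
      rw [LinearMap.BilinForm.toMatrix_apply, Pi.basisFun_apply, Pi.basisFun_apply]
      rfl
    ext i j
    rw [hg, gram_transform hQ.polar_bilinear, hcol, hcol, hf]
    simp [Matrix.kroneckerMap_apply, gramMatrix, mul_assoc]
  have hdet := congrArg Matrix.det hM
  rw [Matrix.det_mul, Matrix.det_mul, Matrix.det_transpose, Matrix.det_reindex_self, Matrix.det_kronecker,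
    Matrix.det_smul, Fintype.card_fin, Fintype.card_fin] at hdet
  set d1 := (gramMatrix f₁).det
  set d2 := (gramMatrix f₂).det
  have hd1 : d1 ≠ 0 := ((Matrix.isUnit_iff_isUnit_det _).mp ((isSesq_of_bilinear T.bil₁).isUnit_gram T.nd₁)).ne_zero
  have hd2 : d2 ≠ 0 := ((Matrix.isUnit_iff_isUnit_det _).mp ((isSesq_of_bilinear T.bil₂).isUnit_gram T.nd₂)).ne_zero
  obtain ⟨r, hr⟩ := hsq
  let b₂ := (LinearMap.mk₂ F f₂ T.bil₂.add_left T.bil₂.smul_left T.bil₂.add_right T.bil₂.smul_right :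
    LinearMap.BilinForm F (Fin 4 → F))
  obtain ⟨X, hX, hXi⟩ := Discriminant.exists_lagrangian_of_isSquare h2 b₂
    ⟨fun v hv => by
      by_contra h0
      obtain ⟨-, x, hx⟩ := T.nd₂ v h0
      exact hx (hv x), fun v hv => by
      by_contra h0
      obtain ⟨⟨x, hx⟩, -⟩ := T.nd₂ v h0
      exact hx (hv x)⟩ ⟨fun u v => hs₂ u v⟩ (m := 2) (by simp) (Pi.basisFun F (Fin 4)) (by
      have hd : (LinearMap.BilinForm.toMatrix (Pi.basisFun F (Fin 4)) b₂).det = d2 := by
        congr 1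
      rw [hd]
      refine ⟨(P : Mat 12 F).det * r / (c ^ 6 * d1 ^ 2 * d2), ?_⟩
      field_simp
      linear_combination -hdet + (P : Mat 12 F).det ^ 2 * hr)
  exact ⟨X, le_top, fun w hw => hXi w hw w hw, by rw [finrank_top, Module.finrank_fin_fun, hX]⟩

end CfsgLib.Classical.OrthEven
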