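import Cfsg.Agent.Lib.Classical.AschForm.Outcome
import Cfsg.Agent.Lib.Classical.AschPrime.UnitaryCases
import Cfsg.Agent.Lib.Classical.OrthMaxND

/-!
# Orthogonal groups in even dimension: the setting and the Siegel elements

Everything here is valid in every characteristic.
-/

set_option autoImplicit false
set_option linter.unusedSectionVars false

namespace CfsgLib.Classical.OrthEven

open Matrix Cfsg Cfsg.Geo QuadraticMap CfsgLib.Orth CfsgLib.Classical CfsgLib.Classical.AschPrime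
  CfsgLib.Classical.AschForm
open scoped MatrixGroups

variable {F : Type*} [Field F] {n : ℕ} {Q : (Fin n → F) → F}

/-- A non-degenerate quadratic form as a bundled one. -/
noncomputable def qf (hQ : IsNondegenerateQuadraticForm Q) : QuadraticForm F (Fin n → F) :=
  QuadraticMap.ofPolar Q (fun a x => by rw [hQ.smul]; simp [pow_two]) hQ.polar_bilinear.add_left
    (fun a x y => by rw [hQ.polar_bilinear.smul_left]; rfl)

variable (hQ : IsNondegenerateQuadraticForm Q)
include hQ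

theorem qf_apply (v : Fin n → F) : qf hQ v = Q v := rfl

theorem coe_qf : ⇑(qf hQ) = Q := rfl

theorem qf_nondeg : (QuadraticMap.polarBilin (qf hQ)).Nondegenerate := by
  refine nondegenerate_of_left fun v hv => ?_
  by_contra h
  obtain ⟨-, x, hx⟩ := hQ.nondegenerate v h
  exact hx (hv x)

theorem q_zero : Q 0 = 0 := by
  have := hQ.smul 0 0
  simpa using this

theorem q_add (u v : Fin n → F) : Q (u + v) = Q u + Q v + polar Q u v := by
  simp only [QuadraticMap.polar]; ring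

theorem q_smul (c : F) (v : Fin n → F) : Q (c • v) = c * c * Q v := by rw [hQ.smul, pow_two]

theorem b_self (v : Fin n → F) : polar Q v v = 2 * Q v := by
  rw [QuadraticMap.polar, ← two_smul F, hQ.smul]; ring

theorem b_comm (u v : Fin n → F) : polar Q u v = polar Q v u := QuadraticMap.polar_comm Q u v

theorem b_zero_left (v : Fin n → F) : polar Q 0 v = 0 := by simp [QuadraticMap.polar, q_zero hQ]

theorem b_zero_right (v : Fin n → F) : polar Q v 0 = 0 := by simp [QuadraticMap.polar, q_zero hQ]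

theorem b_sub_right (u v w : Fin n → F) : polar Q u (v - w) = polar Q u v - polar Q u w := by
  rw [sub_eq_add_neg, hQ.polar_bilinear.add_right, ← neg_one_smul F w, hQ.polar_bilinear.smul_right]
  ring

theorem herm : Herm (RingHom.id F) 1 (polar Q) where
  sesq := isSesq_of_bilinear hQ.polar_bilinear
  nondeg := hQ.nondegenerate
  symm u v := by rw [one_mul, RingHom.id_apply]; exact b_comm hQ v u
  invol a := rfl

omit hQ in
theorem omega_isometry {g : GL (Fin n) F} (hg : g ∈ omegaGL Q) (v : Fin n → F) :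
    Q ((g : Mat n F) *ᵥ v) = Q v := by
  obtain ⟨x, -, rfl⟩ := hg
  exact x.2 v v

omit hQ in
theorem polar_of_isometry {g : GL (Fin n) F} (hg : ∀ v, Q ((g : Mat n F) *ᵥ v) = Q v) (u v : Fin n → F) :
    polar Q ((g : Mat n F) *ᵥ u) ((g : Mat n F) *ᵥ v) = polar Q u v := by
  simp only [QuadraticMap.polar, ← Matrix.mulVec_add, hg]

omit hQ in
theorem fixesForm_omega {H : Subgroup (GL (Fin n) F)} (hH : H ≤ omegaGL Q) :
    FixesForm (matrixSet H) (polar Q) := by
  rintro _ ⟨g, hg, rfl⟩ u v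
  exact polar_of_isometry (omega_isometry (hH hg)) u v

omit hQ in
theorem det_omega {g : GL (Fin n) F} (hg : g ∈ omegaGL Q) : (g : Mat n F).det = 1 := by
  obtain ⟨x, hx, rfl⟩ := hg
  have h := Abelianization.commutator_subset_ker
    (Matrix.GeneralLinearGroup.det.comp (Cfsg.isometryGroup F Q).subtype) hx
  exact congrArg Units.val h

/-- `g` is the Siegel element of `d` and `u`. -/
def IsRoot (Q : (Fin n → F) → F) (g : GL (Fin n) F) (d u : Fin n → F) : Prop :=
  Q d = 0 ∧ polar Q d u = 0 ∧ ∀ v, (g : Mat n F) *ᵥ v =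
    v + polar Q d v • u + (-(polar Q u v) - Q u * polar Q d v) • d

omit hQ in
theorem IsRoot.fix {g : GL (Fin n) F} {d u v : Fin n → F} (hg : IsRoot Q g d u) (h1 : polar Q d v = 0)
    (h2 : polar Q u v = 0) : (g : Mat n F) *ᵥ v = v := by
  rw [hg.2.2, h1, h2]; simp

theorem IsRoot.mul {g h : GL (Fin n) F} {d u w : Fin n → F} (hg : IsRoot Q g d u) (hh : IsRoot Q h d w) :
    IsRoot Q (g * h) d (u + w) := by
  have hb := hQ.polar_bilinear
  refine ⟨hg.1, by rw [hb.add_right, hg.2.1, hh.2.1, add_zero], fun v => ?_⟩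
  rw [Units.val_mul, ← Matrix.mulVec_mulVec, hh.2.2 v, hg.2.2]
  simp only [hb.add_right, hb.add_left, hb.smul_right, b_self hQ d, hg.1, hh.2.1, q_add hQ,
    b_comm hQ u d, hg.2.1]
  module

section Finite

variable [Fintype F] (hn : 5 ≤ n)
include hn

theorem five_le : 5 ≤ Module.finrank F (Fin n → F) := by simpa using hn

theorem hyp_pairs : Nonempty (HypPairs (qf hQ)) := exists_hypPairs (qf_nondeg hQ) (five_le hQ hn)

theorem good : Good F (Fin n → F) := Or.inr (by simp only [Module.finrank_fin_fun]; omega)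

theorem exists_root {d u : Fin n → F} (hd : Q d = 0) (hdu : polar Q d u = 0) :
    ∃ g ∈ omegaGL Q, IsRoot Q g d u := by
  obtain ⟨hp⟩ := hyp_pairs hQ hn
  obtain ⟨g, hg⟩ := exists_isSiegel (qf_nondeg hQ) (Q := qf hQ) hd hdu
  refine ⟨orthToGL (Qf := Q) (qf hQ) (fun _ => rfl) g, ?_, hd, hdu, fun v => (matOf_mulVec (qf hQ) g v).trans (hg.2.2 v)⟩
  rw [omegaGL_eq (Qf := Q) (qf hQ) (fun _ => rfl)]
  exact ⟨g, hg.mem_commutator (qf_nondeg hQ) (good hQ hn) hp (five_le hQ hn), rfl⟩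

/-- The subspaces invariant under all Siegel elements are trivial. -/
theorem irreducible {W : Submodule F (Fin n → F)}
    (hW : ∀ d u, ∀ g ∈ omegaGL Q, IsRoot Q g d u → ∀ v ∈ W, (g : Mat n F) *ᵥ v ∈ W) : W = ⊥ ∨ W = ⊤ := by
  obtain ⟨hp⟩ := hyp_pairs hQ hn
  have hb := hQ.polar_bilinear
  -- a singular vector with a non-orthogonal partner in `W` lies in `W`
  have key : ∀ d, Q d = 0 → ∀ w ∈ W, polar Q d w ≠ 0 → d ∈ W := by
    intro d hd w hw hdw
    have hd0 : d ≠ 0 := fun e => hdw (by rw [e, b_zero_left hQ])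
    obtain ⟨hp', rfl⟩ := hp.exists_at (qf_nondeg hQ) (Q := qf hQ) hd hd0
    have hf : ∀ u, polar Q hp'.e₀ u = 0 → polar Q hp'.e₀ w • u +
        (-(polar Q u w) - Q u * polar Q hp'.e₀ w) • hp'.e₀ ∈ W := by
      intro u hu
      obtain ⟨g, hg, hr⟩ := exists_root hQ hn hd hu
      have := W.sub_mem (hW _ _ g hg hr w hw) hw
      rw [hr.2.2] at this
      convert this using 1
      abel
    have h1 := hf hp'.e₁ hp'.hee
    have h2 := hf hp'.f₁ hp'.hef
    have h3 := hf (hp'.e₁ + hp'.f₁) (by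
      rw [hb.add_right]
      have a := hp'.hee
      have b := hp'.hef
      rw [coe_qf hQ] at a b
      rw [a, b, add_zero])
    have hQ1 : Q hp'.e₁ = 0 := hp'.he₁
    have hQ2 : Q hp'.f₁ = 0 := hp'.hf₁
    have h11 : polar Q hp'.e₁ hp'.f₁ = 1 := hp'.h11
    have h4 := W.sub_mem (W.add_mem h1 h2) h3
    simp only [q_add hQ, hQ1, hQ2, h11, hb.add_left] at h4
    have h5 : polar Q hp'.e₀ w • hp'.e₀ ∈ W := by convert h4 using 1; module
    exact (W.smul_mem_iff hdw).1 h5
  by_cases hbot : W = ⊥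
  · exact Or.inl hbot
  right
  obtain ⟨w, hw, hw0⟩ := Submodule.exists_mem_ne_zero_of_ne_bot hbot
  obtain ⟨d, hd, hdw⟩ : ∃ d, Q d = 0 ∧ polar Q d w ≠ 0 := by
    by_contra hall
    push Not at hall
    obtain ⟨⟨x, hx⟩, -⟩ := hQ.nondegenerate w hw0
    refine hx ?_
    have he : Q hp.e₀ = 0 := hp.he₀
    have hf : Q hp.f₀ = 0 := hp.hf₀
    have h00 : polar Q hp.e₀ hp.f₀ = 1 := hp.h00
    have hperp : ∀ u, polar Q hp.e₀ u = 0 → polar Q u w = 0 := by
      intro u hu
      have e := hall (hp.f₀ + u + (-(polar Q hp.f₀ u) - Q u) • hp.e₀) (by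
        simp only [q_add hQ, q_smul hQ, hb.add_left, hb.smul_right, he, hf, b_comm hQ hp.f₀ hp.e₀, h00,
          b_comm hQ u hp.e₀, hu]
        ring)
      rw [hb.add_left, hb.add_left, hb.smul_left, hall _ hf, hall _ he] at e
      simpa using e
    have e : x = (x - polar Q hp.e₀ x • hp.f₀) + polar Q hp.e₀ x • hp.f₀ := by abel
    rw [e, hb.add_left, hb.smul_left, hall _ hf, hperp _ (by
      rw [b_sub_right hQ, hb.smul_right, h00]; ring)]
    ring
  have hdW := key d hd w hw hdw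
  obtain ⟨hp', rfl⟩ := hp.exists_at (qf_nondeg hQ) (Q := qf hQ) hd fun e => hdw (by rw [e, b_zero_left hQ])
  have h00 : polar Q hp'.e₀ hp'.f₀ = 1 := hp'.h00
  have hfW : hp'.f₀ ∈ W := key _ hp'.hf₀ _ hdW (by rw [b_comm hQ, h00]; exact one_ne_zero)
  refine eq_top_iff.2 fun x _ => ?_
  set u := x - polar Q hp'.e₀ x • hp'.f₀ with hu
  have hdu : polar Q hp'.e₀ u = 0 := by rw [hu, b_sub_right hQ, hb.smul_right, h00]; ring
  obtain ⟨g, hg, hr⟩ := exists_root hQ hn hd hdu
  have h1 := hW _ _ g hg hr _ hfW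
  rw [hr.2.2, h00, one_smul] at h1
  have h3 : u ∈ W := by
    have := W.sub_mem (W.sub_mem h1 hfW) (W.smul_mem (-(polar Q u hp'.f₀) - Q u * 1) hdW)
    convert this using 1
    module
  rw [show x = u + polar Q hp'.e₀ x • hp'.f₀ by rw [hu]; abel]
  exact W.add_mem h3 (W.smul_mem _ hfW)

theorem omega_irr : ActsIrreducibly (matrixSet (omegaGL Q)) :=
  irr_iff.2 fun _ hW => irreducible hQ hn fun _ _ _ hg _ v hv => hW _ (mem_matrixSet hg) v hv

theorem not_le_stab {W : Submodule F (Fin n → F)} (h0 : W ≠ ⊥) (h1 : W ≠ ⊤) :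
    ¬ omegaGL Q ≤ subspaceStabilizer W := fun hle =>
  (irreducible hQ hn fun _ _ _ hg _ v hv => ((hle hg) v).1 hv).elim h0 h1

/-- A root subgroup. -/
theorem exists_root_family : ∃ N : Mat n F, N * N = 0 ∧ N ≠ 0 ∧
    ∀ t : F, ∃ g ∈ omegaGL Q, (g : Mat n F) = 1 + t • N := by
  obtain ⟨hp⟩ := hyp_pairs hQ hn
  have hb := hQ.polar_bilinear
  let L : (Fin n → F) →ₗ[F] (Fin n → F) :=
    (QuadraticMap.polarBilin (qf hQ) hp.e₀).smulRight hp.e₁ - (QuadraticMap.polarBilin (qf hQ) hp.e₁).smulRight hp.e₀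
  have hL : ∀ v, L v = polar Q hp.e₀ v • hp.e₁ - polar Q hp.e₁ v • hp.e₀ := fun v => rfl
  have he : Q hp.e₀ = 0 := hp.he₀
  have he1 : Q hp.e₁ = 0 := hp.he₁
  have hee : polar Q hp.e₀ hp.e₁ = 0 := hp.hee
  refine ⟨LinearMap.toMatrix' L, ?_, fun h => ?_, fun t => ?_⟩
  · refine Matrix.ext_of_mulVec_single fun k => ?_
    rw [← Matrix.mulVec_mulVec, Matrix.zero_mulVec, LinearMap.toMatrix'_mulVec,
      LinearMap.toMatrix'_mulVec, hL, hL]
    simp only [b_sub_right hQ, hb.smul_right, b_self hQ, he, he1, hee, b_comm hQ hp.e₁ hp.e₀]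
    simp
  · have e : L hp.f₀ = 0 := by rw [← LinearMap.toMatrix'_mulVec, h, Matrix.zero_mulVec]
    have h00 : polar Q hp.e₀ hp.f₀ = 1 := hp.h00
    have hfe : polar Q hp.e₁ hp.f₀ = 0 := by rw [b_comm hQ]; exact hp.hfe
    rw [hL, h00, one_smul, hfe, zero_smul, sub_zero] at e
    have h11 : polar Q hp.e₁ hp.f₁ = 1 := hp.h11
    rw [e, b_zero_left hQ] at h11
    exact zero_ne_one h11
  · obtain ⟨g, hg, hr⟩ := exists_root hQ hn (d := hp.e₀) (u := t • hp.e₁) he
      (by rw [hb.smul_right, hee, mul_zero])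
    refine ⟨g, hg, Matrix.ext_of_mulVec_single fun k => ?_⟩
    rw [hr.2.2, Matrix.add_mulVec, Matrix.one_mulVec, Matrix.smul_mulVec, LinearMap.toMatrix'_mulVec,
      hL, q_smul hQ, he1, hb.smul_left]
    module

end Finite

end CfsgLib.Classical.OrthEven
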