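import Cfsg.Agent.Lib.Classical.OrthEven.Fields

/-!
# Orthogonal planes over an extension of odd degree

A group normalising a self-adjoint field of odd degree `r` in dimension `2 r` either permutes two
totally singular halves or normalises a quadratic field that is adjoint-closed and not self-adjoint.
-/

set_option autoImplicit false
set_option linter.unusedSectionVars false

namespace CfsgLib.Classical.OrthEven

open Matrix Cfsg Cfsg.Geo QuadraticMap CfsgLib.Orth CfsgLib.Classical CfsgLib.Classical.AschPrime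
  CfsgLib.Classical.AschForm
open scoped MatrixGroups

variable {F : Type*} [Field F] [Fintype F] {n : ℕ} {Q : (Fin n → F) → F}

/-- Coordinates for a form that is the trace of a quadratic form in two variables over `K`. -/
structure Coord (Q : (Fin n → F) → F) (K : Subalgebra F (Mat n F)) where
  v : Fin n → F
  w : Fin n → F
  φ : K →ₗ[F] F
  a : K
  b : K
  indep : ∀ k l : K, (k : Mat n F) *ᵥ v + (l : Mat n F) *ᵥ w = 0 → k = 0 ∧ l = 0
  span : ∀ x, ∃ k l : K, (k : Mat n F) *ᵥ v + (l : Mat n F) *ᵥ w = x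
  nondeg : ∀ e : K, (∀ m : K, φ (e * (m * m)) = 0) → e = 0
  form : ∀ k l : K, Q ((k : Mat n F) *ᵥ v + (l : Mat n F) *ᵥ w) = φ (a * k * k + k * l + b * l * l)

theorem isField_of {r : ℕ} {K : Subalgebra F (Mat n F)} (hn : 0 < n) (hK : IsFieldSubalgebra r K) : IsField K :=
  haveI : NeZero n := ⟨hn.ne'⟩
  { exists_pair_ne := ⟨0, 1, fun h => zero_ne_one (congrArg Subtype.val h)⟩
    mul_comm := fun x y => Subtype.ext (hK.comm x x.2 y y.2)
    mul_inv_cancel := fun {x} hx => by
      obtain ⟨y, hy, h⟩ := hK.inv x x.2 fun h => hx (Subtype.ext h)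
      exact ⟨⟨y, hy⟩, Subtype.ext h⟩ }

variable (hQ : IsNondegenerateQuadraticForm Q) {r : ℕ} {K : Subalgebra F (Mat n F)}
  (hK : IsFieldSubalgebra r K) (hs : IsSelfAdjointFor (polar Q) K) (hn : n = 2 * r) (hr : 2 ≤ r)
include hQ hK hs hn hr

theorem squares_span {e : K} (φ : K →ₗ[F] F) (h : ∀ m : K, φ (e * (m * m)) = 0) (y : K) : φ (e * y) = 0 := by
  letI : Field K := (isField_of (by omega) hK).toField
  haveI : Finite K := Subtype.finite
  haveI := Fintype.ofFinite K
  by_cases h2 : (2 : F) = 0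
  · have h2K : (2 : K) = 0 := by
      have := congrArg (algebraMap F K) h2
      rwa [map_ofNat, map_zero] at this
    haveI : CharP K 2 := CharTwo.of_one_ne_zero_of_two_eq_zero one_ne_zero h2K
    obtain ⟨m, hm⟩ := CfsgLib.Derangements.EvenForms.exists_sqrt (F := K) y
    rw [← hm, pow_two]
    exact h m
  · have e1 : e * ((y + 1) * (y + 1)) = e * (y * y) + (2 : F) • (e * y) + e * (1 * 1) := by
      rw [two_smul]; ring
    have := h (y + 1)
    rw [e1, map_add, map_add, map_smul, h, h, zero_add, add_zero, smul_eq_mul] at this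
    exact (mul_eq_zero.1 this).resolve_left h2

theorem exists_coord {v : Fin n → F} (hv : v ≠ 0) : ∃ C : Coord Q K, C.v = v := by
  classical
  letI : Field K := (isField_of (by omega) hK).toField
  haveI : Finite K := Subtype.finite
  haveI := Fintype.ofFinite K
  have hb := hQ.polar_bilinear
  let Lv : K →ₗ[F] (Fin n → F) := ((Matrix.mulVecBilin F F).flip v).comp K.toSubmodule.subtype
  have hinj : ∀ x : Fin n → F, x ≠ 0 → ∀ k : K, (k : Mat n F) *ᵥ x = 0 → k = 0 := by
    intro x hx k hk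
    by_contra hk0
    obtain ⟨l, -, hl⟩ := hK.inv k k.2 fun e => hk0 (Subtype.ext e)
    exact hx (Matrix.mulVec_injective_iff_isUnit.2 (IsUnit.of_mul_eq_one l hl)
      (hk.trans (Matrix.mulVec_zero _).symm))
  obtain ⟨w, hw, hvw⟩ : ∃ w, w ∉ LinearMap.range Lv ∧ polar Q v w ≠ 0 := by
    obtain ⟨-, x, hx⟩ := hQ.nondegenerate v hv
    by_cases hxr : x ∈ LinearMap.range Lv
    swap
    · exact ⟨x, hxr, hx⟩
    obtain ⟨y, hy⟩ : ∃ y, y ∉ LinearMap.range Lv := by
      by_contra! hall
      have h := Submodule.finrank_mono (show (⊤ : Submodule F (Fin n → F)) ≤ LinearMap.range Lv from fun y _ => hall y)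
      have h' := LinearMap.finrank_range_add_finrank_ker Lv
      rw [finrank_top, Module.finrank_fin_fun] at h
      have : Module.finrank F K = r := hK.finrank_eq
      omega
    by_cases hvy : polar Q v y = 0
    · exact ⟨y + x, fun e => hy ((add_mem_cancel_right hxr).1 e), by rwa [hb.add_right, hvy, zero_add]⟩
    · exact ⟨y, hy, hvy⟩
  let φ : K →ₗ[F] F := ((QuadraticMap.polarBilin (qf hQ)).flip w).comp Lv
  have hφ : ∀ k : K, φ k = polar Q ((k : Mat n F) *ᵥ v) w := fun k => rfl
  have hφ0 : ∀ e : K, (∀ y : K, φ (e * y) = 0) → e = 0 := by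
    intro e he
    by_contra h
    have := he e⁻¹
    rw [mul_inv_cancel₀ h, hφ] at this
    simp only [OneMemClass.coe_one, Matrix.one_mulVec] at this
    exact hvw this
  -- every functional is a translate of `φ`
  let T : K →ₗ[F] (K →ₗ[F] F) :=
    { toFun := fun e => φ.comp (LinearMap.mulLeft F e)
      map_add' := fun e e' => LinearMap.ext fun y => by simp [add_mul]
      map_smul' := fun c e => LinearMap.ext fun y => by simp }
  have hT : Function.Surjective T := (LinearMap.injective_iff_surjective_of_finrank_eq_finrank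
    (Subspace.dual_finrank_eq (K := F) (V := K)).symm).1 ((injective_iff_map_eq_zero _).2 fun e he =>
      hφ0 e fun y => LinearMap.congr_fun he y)
  -- the quadratic form on a line of `K` is a functional of the square
  have hlam : ∀ x : Fin n → F, ∃ c : K, ∀ k : K, Q ((k : Mat n F) *ᵥ x) = φ (c * k * k) := by
    intro x
    have hval : ∀ (k : K) (y z : Fin n → F),
        polar Q ((k : Mat n F) *ᵥ y) z = polar Q y ((k : Mat n F) *ᵥ z) := fun k y z => hs k k.2 y z
    by_cases h2 : (2 : F) = 0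
    · have h2K : (2 : K) = 0 := by
        have := congrArg (algebraMap F K) h2
        rwa [map_ofNat, map_zero] at this
      haveI : CharP K 2 := CharTwo.of_one_ne_zero_of_two_eq_zero one_ne_zero h2K
      choose s hs' using fun y : K => CfsgLib.Derangements.EvenForms.exists_sqrt (F := K) y
      have hcross : ∀ s₁ s₂ : K, polar Q ((s₁ : Mat n F) *ᵥ x) ((s₂ : Mat n F) *ᵥ x) = 0 := by
        intro s₁ s₂
        obtain ⟨u, hu⟩ := CfsgLib.Derangements.EvenForms.exists_sqrt (F := K) (s₁ * s₂)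
        rw [hval, Matrix.mulVec_mulVec, show ((s₁ : Mat n F) * (s₂ : Mat n F)) = (↑(u * u) : Mat n F) by
          rw [← pow_two, hu]; rfl, MulMemClass.coe_mul, ← Matrix.mulVec_mulVec, ← hval, b_self hQ, h2, zero_mul]
      let lam : K →ₗ[F] F :=
        { toFun := fun y => Q ((s y : Mat n F) *ᵥ x)
          map_add' := fun y z => by
            have e : s (y + z) = s y + s z := CharTwo.sq_injective (by
              show s (y + z) ^ 2 = (s y + s z) ^ 2
              rw [hs', CharTwo.add_sq, hs', hs'])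
            rw [e, AddMemClass.coe_add, Matrix.add_mulVec, q_add hQ, hcross, add_zero]
          map_smul' := fun c y => by
            obtain ⟨d, hd⟩ := (show ∃ d : F, d * d = c from by
              haveI : CharP F 2 := CharTwo.of_one_ne_zero_of_two_eq_zero one_ne_zero h2
              obtain ⟨d, hd⟩ := CfsgLib.Derangements.EvenForms.exists_sqrt (F := F) c
              exact ⟨d, by rw [← hd, pow_two]⟩)
            have e : s (c • y) = d • s y := CharTwo.sq_injective (by
              show s (c • y) ^ 2 = (d • s y) ^ 2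
              rw [hs', pow_two, smul_mul_smul_comm, hd, ← pow_two, hs'])
            rw [e, SetLike.val_smul, Matrix.smul_mulVec, q_smul hQ, hd]
            rfl }
      obtain ⟨c, hc⟩ := hT lam
      refine ⟨c, fun k => ?_⟩
      have := LinearMap.congr_fun hc (k * k)
      change φ (c * (k * k)) = Q ((s (k * k) : Mat n F) *ᵥ x) at this
      rw [show s (k * k) = k from CharTwo.sq_injective (by
        show s (k * k) ^ 2 = k ^ 2
        rw [hs', pow_two]), ← mul_assoc] at this
      exact this.symm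
    · obtain ⟨c, hc⟩ := hT ((2 : F)⁻¹ • (((QuadraticMap.polarBilin (qf hQ)).flip x).comp
        (((Matrix.mulVecBilin F F).flip x).comp K.toSubmodule.subtype)))
      refine ⟨c, fun k => ?_⟩
      have := LinearMap.congr_fun hc (k * k)
      change φ (c * (k * k)) = (2 : F)⁻¹ * polar Q (((k : Mat n F) * (k : Mat n F)) *ᵥ x) x at this
      rw [← Matrix.mulVec_mulVec, hval, b_self hQ, ← mul_assoc (2 : F)⁻¹, inv_mul_cancel₀ h2, one_mul,
        ← mul_assoc] at this
      exact this.symm
  obtain ⟨a, ha⟩ := hlam v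
  obtain ⟨b, hb'⟩ := hlam w
  have hindep : ∀ k l : K, (k : Mat n F) *ᵥ v + (l : Mat n F) *ᵥ w = 0 → k = 0 ∧ l = 0 := by
    intro k l h
    have hl : l = 0 := by
      by_contra hl
      refine hw ⟨-(l⁻¹ * k), ?_⟩
      have h' := congrArg (fun z => ((l⁻¹ : K) : Mat n F) *ᵥ z) h
      simp only [Matrix.mulVec_add, Matrix.mulVec_mulVec, Matrix.mulVec_zero, ← MulMemClass.coe_mul,
        inv_mul_cancel₀ hl, OneMemClass.coe_one, Matrix.one_mulVec] at h'
      show ((-(l⁻¹ * k) : K) : Mat n F) *ᵥ v = w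
      rw [NegMemClass.coe_neg, Matrix.neg_mulVec]
      exact (eq_neg_of_add_eq_zero_right h').symm
    refine ⟨hinj v hv k ?_, hl⟩
    rwa [hl, ZeroMemClass.coe_zero, Matrix.zero_mulVec, add_zero] at h
  refine ⟨⟨v, w, φ, a, b, hindep, fun x => ?_, fun e he => hφ0 e fun y => squares_span hQ hK hs hn hr φ he y,
    fun k l => ?_⟩, rfl⟩
  · let Ψ : K × K →ₗ[F] (Fin n → F) :=
      { toFun := fun p => (p.1 : Mat n F) *ᵥ v + (p.2 : Mat n F) *ᵥ w
        map_add' := fun p p' => by
          simp only [Prod.fst_add, Prod.snd_add, AddMemClass.coe_add, Matrix.add_mulVec]; abel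
        map_smul' := fun c p => by
          simp only [Prod.smul_fst, Prod.smul_snd, SetLike.val_smul, Matrix.smul_mulVec, RingHom.id_apply,
            smul_add] }
    have hsur : Function.Surjective Ψ := (LinearMap.injective_iff_surjective_of_finrank_eq_finrank (by
      rw [Module.finrank_prod, hK.finrank_eq, Module.finrank_fin_fun]; omega)).1
      ((injective_iff_map_eq_zero _).2 fun p hp => Prod.ext (hindep _ _ hp).1 (hindep _ _ hp).2)
    obtain ⟨⟨k, l⟩, hkl⟩ := hsur x
    exact ⟨k, l, hkl⟩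
  · rw [q_add hQ, ha, hb', hs l l.2 |> fun h => (b_comm hQ _ _).trans (h w ((k : Mat n F) *ᵥ v)), map_add,
      map_add, hφ (k * l)]
    rw [Matrix.mulVec_mulVec, b_comm hQ w, ← MulMemClass.coe_mul, mul_comm l k]
    ring

variable {H : Subgroup (GL (Fin n) F)} (hH : H ≤ omegaGL Q) (hle : H ≤ subalgebraNormalizer K)
include hH hle

set_option maxHeartbeats 2000000 in
theorem halves_or_quadratic (hrodd : Odd r) :
    (∃ D : Fin 2 → Submodule F (Fin n → F), IsMDecomposition r D ∧ (∀ i, IsTotallySingularQuad Q (D i)) ∧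
      H ≤ decompositionStabilizer D) ∨
    (∃ K₂ : Subalgebra F (Mat n F), IsFieldSubalgebra 2 K₂ ∧ IsAdjointClosedFor (polar Q) K₂ ∧
      ¬ IsSelfAdjointFor (polar Q) K₂ ∧ H ≤ subalgebraNormalizer K₂) := by
  classical
  haveI : NeZero n := ⟨by omega⟩
  letI : Field K := (isField_of (by omega) hK).toField
  haveI : Finite K := Subtype.finite
  have hb := hQ.polar_bilinear
  have hconj : ∀ h ∈ H, ∀ m : K, ∃ m' : K, ((h⁻¹ : GL (Fin n) F) : Mat n F) * m * (h : Mat n F) = m' ∧
      ∀ x, (h : Mat n F) *ᵥ ((m' : Mat n F) *ᵥ x) = (m : Mat n F) *ᵥ ((h : Mat n F) *ᵥ x) := by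
    intro h hh m
    refine ⟨⟨((h⁻¹ : GL (Fin n) F) : Mat n F) * m * (h : Mat n F), ?_⟩, rfl, fun x => ?_⟩
    · have := (hle (H.inv_mem hh) m).1 m.2
      rwa [inv_inv] at this
    · simp [Matrix.mulVec_mulVec, ← mul_assoc]
  by_cases hsing : ∃ x : Fin n → F, x ≠ 0 ∧ ∀ m : K, Q ((m : Mat n F) *ᵥ x) = 0
  · left
    obtain ⟨x, hx0, hx⟩ := hsing
    obtain ⟨C, rfl⟩ := exists_coord hQ hK hs hn hr hx0
    have ha : C.a = 0 := C.nondeg _ fun m => by
      have := C.form m 0
      rw [ZeroMemClass.coe_zero, Matrix.zero_mulVec, add_zero, hx] at this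
      rw [this, ← mul_assoc]
      congr 1
      ring
    set y : Fin n → F := ((-C.b : K) : Mat n F) *ᵥ C.v + C.w with hy
    let line : (Fin n → F) → Submodule F (Fin n → F) := fun z =>
      LinearMap.range (((Matrix.mulVecBilin F F).flip z).comp K.toSubmodule.subtype)
    have hline : ∀ z u, u ∈ line z ↔ ∃ m : K, (m : Mat n F) *ᵥ z = u := fun z u => Iff.rfl
    have hym : ∀ m : K, (m : Mat n F) *ᵥ y = ((-(m * C.b) : K) : Mat n F) *ᵥ C.v + (m : Mat n F) *ᵥ C.w := by
      intro m
      simp only [hy, Matrix.mulVec_add, Matrix.mulVec_mulVec, NegMemClass.coe_neg, MulMemClass.coe_mul, mul_neg]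
    have hysing : ∀ m : K, Q ((m : Mat n F) *ᵥ y) = 0 := fun m => by
      rw [hym, C.form, ha, show (0 : K) * -(m * C.b) * -(m * C.b) + -(m * C.b) * m + C.b * m * m = 0 by ring,
        map_zero]
    have hy0 : y ≠ 0 := fun e => by
      have h1 := (C.indep (-C.b) 1 (by rw [OneMemClass.coe_one, Matrix.one_mulVec]; exact e)).2
      exact one_ne_zero h1
    have hσ : ∀ z, (∀ m : K, Q ((m : Mat n F) *ᵥ z) = 0) → z ∈ line C.v ∨ z ∈ line y := by
      intro z hz
      obtain ⟨k, l, rfl⟩ := C.span z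
      have he : k * l + C.b * l * l = 0 := C.nondeg _ fun m => by
        have := hz m
        rw [Matrix.mulVec_add, Matrix.mulVec_mulVec, Matrix.mulVec_mulVec, ← MulMemClass.coe_mul,
          ← MulMemClass.coe_mul, C.form, ha] at this
        rw [← this]
        congr 1
        ring
      by_cases hl : l = 0
      · exact .inl ((hline _ _).2 ⟨k, by rw [hl, ZeroMemClass.coe_zero, Matrix.zero_mulVec, add_zero]⟩)
      · refine .inr ((hline _ _).2 ⟨l, ?_⟩)
        have hk : k = -(l * C.b) := by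
          have : (k + C.b * l) * l = 0 := by linear_combination he
          linear_combination (mul_eq_zero.1 this).resolve_right hl
        rw [hym, hk]
    have hfin : ∀ z : Fin n → F, z ≠ 0 → Module.finrank F (line z) = r := by
      intro z hz
      refine (LinearMap.finrank_range_of_inj ((injective_iff_map_eq_zero _).2 fun k hk => ?_)).trans hK.finrank_eq
      by_contra hk0
      obtain ⟨l, -, hl⟩ := hK.inv k.1 k.2 fun e => hk0 (Subtype.ext e)
      exact hz (Matrix.mulVec_injective_iff_isUnit.2 (IsUnit.of_mul_eq_one l hl)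
        ((show (k : Mat n F) *ᵥ z = 0 from hk).trans (Matrix.mulVec_zero _).symm))
    let D : Fin 2 → Submodule F (Fin n → F) := ![line C.v, line y]
    have hdisj : line C.v ⊓ line y = ⊥ := by
      rw [Submodule.eq_bot_iff]
      rintro z ⟨hz1, hz2⟩
      obtain ⟨k, rfl⟩ := (hline _ _).1 hz1
      obtain ⟨m, hm⟩ := (hline _ _).1 hz2
      have h' := C.indep (-(m * C.b) - k) m (by
        rw [AddSubgroupClass.coe_sub, Matrix.sub_mulVec, ← hm, hym]; abel)
      rw [h'.2, zero_mul, neg_zero, zero_sub, neg_eq_zero] at h'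
      rw [h'.1, ZeroMemClass.coe_zero, Matrix.zero_mulVec]
    have hD : IsMDecomposition r D := by
      refine ⟨le_rfl, by omega, fun i => ?_, ?_, ?_⟩
      · fin_cases i
        · exact hfin _ hx0
        · exact hfin _ hy0
      · rw [iSupIndep_pair (i := 0) (j := 1) (by decide) (fun k => by fin_cases k <;> simp)]
        exact disjoint_iff.mpr hdisj
      · refine eq_top_iff.2 fun z _ => ?_
        obtain ⟨k, l, rfl⟩ := C.span z
        have e : (k : Mat n F) *ᵥ C.v + (l : Mat n F) *ᵥ C.w =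
            ((k + l * C.b : K) : Mat n F) *ᵥ C.v + (l : Mat n F) *ᵥ y := by
          rw [hym, AddMemClass.coe_add, Matrix.add_mulVec, NegMemClass.coe_neg, Matrix.neg_mulVec]; abel
        rw [e]
        exact add_mem (le_iSup D 0 ((hline _ _).2 ⟨_, rfl⟩)) (le_iSup D 1 ((hline _ _).2 ⟨_, rfl⟩))
    refine ⟨D, hD, fun i => ?_, fun h hh => ?_⟩
    · fin_cases i
      · rintro _ ⟨m, rfl⟩; exact hx m
      · rintro _ ⟨m, rfl⟩; exact hysing m
    -- singular lines go to singular lines
    have himg : ∀ z, z ≠ 0 → (∀ m : K, Q ((m : Mat n F) *ᵥ z) = 0) →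
        ∃ j, (line z).map (Matrix.toLin' (h : Mat n F)) = D j := by
      intro z hz hzs
      set z' := (h : Mat n F) *ᵥ z with hz'
      have hz's : ∀ m : K, Q ((m : Mat n F) *ᵥ z') = 0 := fun m => by
        obtain ⟨m', -, hm⟩ := hconj h hh m
        rw [hz', ← hm, omega_isometry (hH hh), hzs]
      have hzz : (line z).map (Matrix.toLin' (h : Mat n F)) = line z' := by
        refine Submodule.eq_of_le_of_finrank_eq ?_ ?_
        · rintro _ ⟨_, ⟨m, rfl⟩, rfl⟩
          have hm' : (h : Mat n F) * m * ((h⁻¹ : GL (Fin n) F) : Mat n F) ∈ K := (hle hh m).1 m.2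
          refine (hline _ _).2 ⟨⟨_, hm'⟩, ?_⟩
          simp [hz', Matrix.mulVec_mulVec, mul_assoc]
        · rw [← (Submodule.equivMapOfInjective _ (Matrix.mulVec_injective_iff_isUnit.2 h.isUnit) _).finrank_eq,
            hfin z hz, hfin z' fun e => hz (Matrix.mulVec_injective_iff_isUnit.2 h.isUnit
              (e.trans (Matrix.mulVec_zero _).symm))]
      have hne : z' ≠ 0 := fun e => hz (Matrix.mulVec_injective_iff_isUnit.2 h.isUnit
        (e.trans (Matrix.mulVec_zero _).symm))
      have heq : ∀ u, u ≠ 0 → z' ∈ line u → line z' = line u := fun u hu hm => by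
        refine Submodule.eq_of_le_of_finrank_eq ?_ (by rw [hfin _ hne, hfin _ hu])
        rintro _ ⟨m, rfl⟩
        obtain ⟨k, hk⟩ := (hline _ _).1 hm
        refine (hline _ _).2 ⟨m * k, ?_⟩
        show ((m * k : K) : Mat n F) *ᵥ u = (m : Mat n F) *ᵥ z'
        rw [← hk, Matrix.mulVec_mulVec]; rfl
      rcases hσ z' hz's with h1 | h1
      · exact ⟨0, hzz.trans (heq _ hx0 h1)⟩
      · exact ⟨1, hzz.trans (heq _ hy0 h1)⟩
    obtain ⟨j0, hj0⟩ := himg _ hx0 hx
    obtain ⟨j1, hj1⟩ := himg _ hy0 hysing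
    have hne : j0 ≠ j1 := fun e => by
      subst e
      have := Submodule.map_injective_of_injective (Matrix.mulVec_injective_iff_isUnit.2 h.isUnit)
        (f := Matrix.toLin' (h : Mat n F)) (hj0.trans hj1.symm)
      have h1 := hfin _ hx0
      rw [this, inf_idem] at hdisj
      rw [this, hdisj, finrank_bot] at h1
      omega
    have hinj2 : Function.Injective (![j0, j1] : Fin 2 → Fin 2) := by
      intro i j e
      fin_cases i <;> fin_cases j <;> simp_all
    refine ⟨Equiv.ofBijective _ (Finite.injective_iff_bijective.1 hinj2), fun i => ?_⟩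
    fin_cases i
    · exact hj0
    · exact hj1
  right
  push Not at hsing
  obtain ⟨C, -⟩ := exists_coord hQ hK hs hn hr
    (v := Pi.single ⟨0, by omega⟩ 1) (fun e => by simpa using congrFun e ⟨0, by omega⟩)
  have hns : ∀ k l : K, C.a * k * k + k * l + C.b * l * l = 0 → k = 0 ∧ l = 0 := by
    intro k l h
    refine C.indep k l ?_
    by_contra hne
    obtain ⟨m, hm⟩ := hsing _ hne
    refine hm ?_
    rw [Matrix.mulVec_add, Matrix.mulVec_mulVec, Matrix.mulVec_mulVec, ← MulMemClass.coe_mul,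
      ← MulMemClass.coe_mul, C.form,
      show C.a * (m * k) * (m * k) + m * k * (m * l) + C.b * (m * l) * (m * l) = 0 by
        linear_combination m * m * h, map_zero]
  have hdisc : (1 : K) - 4 * C.a * C.b ≠ 0 := fun h => by
    have := (hns 1 (-2 * C.a) (by linear_combination -C.a * h)).1
    exact one_ne_zero this
  have ha0 : C.a ≠ 0 := fun h => one_ne_zero (hns 1 0 (by rw [h]; ring)).1
  -- the polar form in coordinates
  have hpol : ∀ k l k' l' : K,
      polar Q ((k : Mat n F) *ᵥ C.v + (l : Mat n F) *ᵥ C.w) ((k' : Mat n F) *ᵥ C.v + (l' : Mat n F) *ᵥ C.w) =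
        C.φ (2 * C.a * k * k' + k * l' + l * k' + 2 * C.b * l * l') := by
    intro k l k' l'
    rw [QuadraticMap.polar, C.form, C.form, add_add_add_comm, ← Matrix.add_mulVec, ← Matrix.add_mulVec,
      ← AddMemClass.coe_add, ← AddMemClass.coe_add, C.form, ← map_sub, ← map_sub]
    congr 1
    ring
  -- the map `J`
  obtain ⟨Ψ, hΨ⟩ : ∃ Ψ : (K × K) ≃ₗ[F] (Fin n → F),
      ∀ k l, Ψ (k, l) = (k : Mat n F) *ᵥ C.v + (l : Mat n F) *ᵥ C.w := by
    let L : K × K →ₗ[F] (Fin n → F) :=
      { toFun := fun p => (p.1 : Mat n F) *ᵥ C.v + (p.2 : Mat n F) *ᵥ C.w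
        map_add' := fun p p' => by
          simp only [Prod.fst_add, Prod.snd_add, AddMemClass.coe_add, Matrix.add_mulVec]; abel
        map_smul' := fun c p => by
          simp only [Prod.smul_fst, Prod.smul_snd, SetLike.val_smul, Matrix.smul_mulVec, RingHom.id_apply,
            smul_add] }
    exact ⟨LinearEquiv.ofBijective L ⟨(injective_iff_map_eq_zero _).2 fun p hp =>
      Prod.ext (C.indep _ _ hp).1 (C.indep _ _ hp).2, fun x => by
        obtain ⟨k, l, h⟩ := C.span x
        exact ⟨(k, l), h⟩⟩, fun k l => rfl⟩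
  let T : K × K →ₗ[F] K × K := LinearMap.prod
    (LinearMap.fst F K K + (LinearMap.mulLeft F C.b).comp (LinearMap.snd F K K))
    ((LinearMap.mulLeft F (-C.a)).comp (LinearMap.fst F K K))
  obtain ⟨J, hJ⟩ : ∃ J : Mat n F, ∀ k l : K, J *ᵥ ((k : Mat n F) *ᵥ C.v + (l : Mat n F) *ᵥ C.w) =
      ((k + C.b * l : K) : Mat n F) *ᵥ C.v + ((-C.a * k : K) : Mat n F) *ᵥ C.w := by
    refine ⟨LinearMap.toMatrix' ((Ψ : (K × K) →ₗ[F] (Fin n → F)).comp
      (T.comp (Ψ.symm : (Fin n → F) →ₗ[F] K × K))), fun k l => ?_⟩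
    rw [LinearMap.toMatrix'_mulVec, ← hΨ, ← hΨ]
    simp [T]
  have hext : ∀ {X Y : Mat n F}, (∀ k l : K, X *ᵥ ((k : Mat n F) *ᵥ C.v + (l : Mat n F) *ᵥ C.w) =
      Y *ᵥ ((k : Mat n F) *ᵥ C.v + (l : Mat n F) *ᵥ C.w)) → X = Y := by
    intro X Y h
    refine Matrix.ext_of_mulVec_single fun i => ?_
    obtain ⟨k, l, e⟩ := C.span (Pi.single i 1)
    rw [← e]
    exact h k l
  have hmJ : ∀ m : K, (m : Mat n F) * J = J * m := fun m => hext fun k l => by
    rw [← Matrix.mulVec_mulVec, ← Matrix.mulVec_mulVec, hJ, Matrix.mulVec_add, Matrix.mulVec_mulVec,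
      Matrix.mulVec_mulVec, Matrix.mulVec_add, Matrix.mulVec_mulVec, Matrix.mulVec_mulVec, ← MulMemClass.coe_mul,
      ← MulMemClass.coe_mul, ← MulMemClass.coe_mul, ← MulMemClass.coe_mul, ← hΨ, ← hΨ, hΨ, hΨ, hJ,
      show m * (k + C.b * l) = m * k + C.b * (m * l) by ring, show m * (-C.a * k) = -C.a * (m * k) by ring]
  have hsc : ∀ e k l : K, (e : Mat n F) *ᵥ ((k : Mat n F) *ᵥ C.v + (l : Mat n F) *ᵥ C.w) = Ψ (e * k, e * l) := by
    intro e k l
    rw [hΨ, Matrix.mulVec_add, Matrix.mulVec_mulVec, Matrix.mulVec_mulVec]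
    rfl
  have hJJ : J * J = J - ((C.a * C.b : K) : Mat n F) := hext fun k l => by
    rw [← Matrix.mulVec_mulVec, Matrix.sub_mulVec, hsc, hJ, hJ, ← hΨ, ← hΨ, ← map_sub]
    congr 1
    refine Prod.ext ?_ ?_ <;> simp <;> ring
  have hC : ∀ (k : K) (x : Fin n → F),
      polar Q (((k * k : K) : Mat n F) *ᵥ (J *ᵥ x)) x = Q ((k : Mat n F) *ᵥ x) := by
    intro k x
    obtain ⟨s, t, rfl⟩ := C.span x
    rw [hJ, Matrix.mulVec_add, Matrix.mulVec_mulVec, Matrix.mulVec_mulVec, ← MulMemClass.coe_mul,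
      ← MulMemClass.coe_mul, hpol, Matrix.mulVec_add, Matrix.mulVec_mulVec, Matrix.mulVec_mulVec,
      ← MulMemClass.coe_mul, ← MulMemClass.coe_mul, C.form]
    congr 1
    ring
  -- the algebra generated by `K` and `J`
  let Lmap : K × K →ₗ[F] Mat n F :=
    { toFun := fun p => (p.1 : Mat n F) + (p.2 : Mat n F) * J
      map_add' := fun p p' => by simp only [Prod.fst_add, Prod.snd_add, AddMemClass.coe_add, add_mul]; abel
      map_smul' := fun c p => by
        simp only [Prod.smul_fst, Prod.smul_snd, SetLike.val_smul, RingHom.id_apply, smul_add, Matrix.smul_mul] }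
  have hLmul : ∀ k l k' l' : K, Lmap (k, l) * Lmap (k', l') =
      Lmap (k * k' - l * l' * (C.a * C.b), k * l' + l * k' + l * l') := by
    intro k l k' l'
    show ((k : Mat n F) + (l : Mat n F) * J) * ((k' : Mat n F) + (l' : Mat n F) * J) =
      ((k * k' - l * l' * (C.a * C.b) : K) : Mat n F) + ((k * l' + l * k' + l * l' : K) : Mat n F) * J
    simp only [AddSubgroupClass.coe_sub, AddMemClass.coe_add, MulMemClass.coe_mul, add_mul, mul_add]
    rw [show (l : Mat n F) * J * (k' : Mat n F) = (l : Mat n F) * (k' : Mat n F) * J by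
        rw [mul_assoc, ← hmJ, mul_assoc],
      show (l : Mat n F) * J * ((l' : Mat n F) * J) = (l : Mat n F) * (l' : Mat n F) * (J * J) by
        rw [mul_assoc, ← mul_assoc J, ← hmJ]; simp only [mul_assoc], hJJ]
    simp only [mul_sub, MulMemClass.coe_mul, mul_assoc]
    abel
  let L : Subalgebra F (Mat n F) := Submodule.toSubalgebra (LinearMap.range Lmap)
    ⟨(1, 0), by simp [Lmap]⟩ (by rintro _ _ ⟨⟨k, l⟩, rfl⟩ ⟨⟨k', l'⟩, rfl⟩; exact ⟨_, (hLmul k l k' l').symm⟩)
  have hLmem : ∀ X, X ∈ L ↔ ∃ k l : K, Lmap (k, l) = X := fun X =>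
    ⟨fun ⟨⟨k, l⟩, h⟩ => ⟨k, l, h⟩, fun ⟨k, l, h⟩ => ⟨(k, l), h⟩⟩
  have hLinj : Function.Injective Lmap := (injective_iff_map_eq_zero _).2 fun ⟨k, l⟩ h => by
    have e := congrArg (fun X : Mat n F => X *ᵥ C.v) h
    simp only [Matrix.zero_mulVec] at e
    change ((k : Mat n F) + (l : Mat n F) * J) *ᵥ C.v = 0 at e
    have hJv := hJ 1 0
    simp only [OneMemClass.coe_one, Matrix.one_mulVec, ZeroMemClass.coe_zero, Matrix.zero_mulVec, add_zero,
      mul_zero, mul_one] at hJv
    rw [Matrix.add_mulVec, ← Matrix.mulVec_mulVec, hJv, Matrix.mulVec_add, Matrix.mulVec_mulVec,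
      ← MulMemClass.coe_mul, ← add_assoc, ← Matrix.add_mulVec] at e
    obtain ⟨h1, h2⟩ := C.indep (k + l) (l * -C.a) (by rw [AddMemClass.coe_add]; exact e)
    have hl : l = 0 := (mul_eq_zero.1 h2).resolve_right (neg_ne_zero.2 ha0)
    exact Prod.ext (by simpa [hl] using h1) hl
  have hLcomm : ∀ X ∈ L, ∀ Y ∈ L, X * Y = Y * X := by
    intro X hX Y hY
    obtain ⟨k, l, rfl⟩ := (hLmem X).1 hX
    obtain ⟨k', l', rfl⟩ := (hLmem Y).1 hY
    rw [hLmul, hLmul]; congr 2 <;> ring
  have hLinv : ∀ X ∈ L, X ≠ 0 → ∃ Y ∈ L, X * Y = 1 := by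
    intro X hX hX0
    obtain ⟨k, l, rfl⟩ := (hLmem X).1 hX
    set N : K := k * k + k * l + C.a * C.b * l * l with hN
    have hN0 : N ≠ 0 := by
      intro h
      obtain ⟨h1, h2⟩ := hns (k / C.a) l (by rw [hN] at h; field_simp; linear_combination h)
      refine hX0 ?_
      rw [h2, (div_eq_zero_iff.1 h1).resolve_right ha0]
      simp [Lmap]
    refine ⟨Lmap ((k + l) / N, -l / N), (hLmem _).2 ⟨_, _, rfl⟩, ?_⟩
    rw [hLmul, show k * ((k + l) / N) - l * (-l / N) * (C.a * C.b) = 1 by field_simp; rw [hN]; ring,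
      show k * (-l / N) + l * ((k + l) / N) + l * (-l / N) = 0 by field_simp; ring]
    simp [Lmap]
  have hLfin : Module.finrank F L = 2 * r := by
    change Module.finrank F (LinearMap.range Lmap) = 2 * r
    rw [LinearMap.finrank_range_of_inj hLinj, Module.finrank_prod, hK.finrank_eq]; ring
  -- the algebra is normalised
  have hJmem : ∀ X : Mat n F, (∀ m : K, (m : Mat n F) * X = X * m) →
      (∀ (k : K) (x : Fin n → F), polar Q (((k * k : K) : Mat n F) *ᵥ (X *ᵥ x)) x = Q ((k : Mat n F) *ᵥ x)) →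
      X ∈ L := by
    intro X hX hXC
    obtain ⟨α, γ, hv'⟩ := C.span (X *ᵥ C.v)
    obtain ⟨β, δ, hw'⟩ := C.span (X *ᵥ C.w)
    have hXkl : ∀ k l : K, X *ᵥ ((k : Mat n F) *ᵥ C.v + (l : Mat n F) *ᵥ C.w) =
        ((k * α + l * β : K) : Mat n F) *ᵥ C.v + ((k * γ + l * δ : K) : Mat n F) *ᵥ C.w := by
      intro k l
      simp only [Matrix.mulVec_add, Matrix.mulVec_mulVec, ← hX]
      simp only [← Matrix.mulVec_mulVec, ← hv', ← hw']
      simp only [Matrix.mulVec_add, Matrix.mulVec_mulVec, AddMemClass.coe_add, MulMemClass.coe_mul,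
        Matrix.add_mulVec]
      abel
    have hkey : ∀ k l : K, 2 * C.a * (k * α + l * β) * k + (k * α + l * β) * l + (k * γ + l * δ) * k +
        2 * C.b * (k * γ + l * δ) * l - (C.a * k * k + k * l + C.b * l * l) = 0 := by
      intro k l
      refine C.nondeg _ fun m => ?_
      have h := hXC m ((k : Mat n F) *ᵥ C.v + (l : Mat n F) *ᵥ C.w)
      rw [hXkl, Matrix.mulVec_add, Matrix.mulVec_mulVec, Matrix.mulVec_mulVec, ← MulMemClass.coe_mul,
        ← MulMemClass.coe_mul, hpol, Matrix.mulVec_add, Matrix.mulVec_mulVec, Matrix.mulVec_mulVec,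
        ← MulMemClass.coe_mul, ← MulMemClass.coe_mul, C.form] at h
      rw [show (2 * C.a * (k * α + l * β) * k + (k * α + l * β) * l + (k * γ + l * δ) * k +
        2 * C.b * (k * γ + l * δ) * l - (C.a * k * k + k * l + C.b * l * l)) * (m * m) =
        (2 * C.a * (m * m * (k * α + l * β)) * k + m * m * (k * α + l * β) * l + m * m * (k * γ + l * δ) * k +
          2 * C.b * (m * m * (k * γ + l * δ)) * l) -
        (C.a * (m * k) * (m * k) + m * k * (m * l) + C.b * (m * l) * (m * l)) by ring, map_sub, h, sub_self]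
    have h10 := hkey 1 0
    have h01 := hkey 0 1
    have h11 := hkey 1 1
    have hδ : δ = 1 - α := by
      have : ((1 : K) - 4 * C.a * C.b) * (α + δ - 1) = 0 := by
        linear_combination h11 - (1 + 2 * C.b) * h10 - (1 + 2 * C.a) * h01
      linear_combination (mul_eq_zero.1 this).resolve_left hdisc
    refine (hLmem X).2 ⟨1 - α, 2 * α - 1, (hext fun k l => ?_).symm⟩
    rw [hXkl]
    show _ = (((1 - α : K) : Mat n F) + ((2 * α - 1 : K) : Mat n F) * J) *ᵥ _
    rw [Matrix.add_mulVec, ← Matrix.mulVec_mulVec, hJ]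
    simp only [Matrix.mulVec_add, Matrix.mulVec_mulVec, ← MulMemClass.coe_mul]
    rw [← hΨ, ← hΨ, ← hΨ, ← map_add]
    congr 1
    refine Prod.ext ?_ ?_
    · show k * α + l * β = (1 - α) * k + (2 * α - 1) * (k + C.b * l)
      subst hδ
      linear_combination l * h01
    · show k * γ + l * δ = (1 - α) * l + (2 * α - 1) * (-C.a * k)
      subst hδ
      linear_combination k * h10
  have hLnorm : ∀ h ∈ H, ∀ X ∈ L, (h : Mat n F) * X * ((h⁻¹ : GL (Fin n) F) : Mat n F) ∈ L := by
    intro h hh X hX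
    obtain ⟨k, l, rfl⟩ := (hLmem X).1 hX
    have hk : ∀ m : K, (h : Mat n F) * m * ((h⁻¹ : GL (Fin n) F) : Mat n F) ∈ L := fun m =>
      (hLmem _).2 ⟨⟨_, (hle hh m).1 m.2⟩, 0, by simp [Lmap]⟩
    have hJ' : (h : Mat n F) * J * ((h⁻¹ : GL (Fin n) F) : Mat n F) ∈ L := by
      refine hJmem _ (fun m => ?_) fun m x => ?_
      · obtain ⟨m', hm', -⟩ := hconj h hh m
        have e1 : (m : Mat n F) * (h : Mat n F) = (h : Mat n F) * m' := by rw [← hm']; simp [← mul_assoc]
        have e2 : (m' : Mat n F) * ((h⁻¹ : GL (Fin n) F) : Mat n F) = ((h⁻¹ : GL (Fin n) F) : Mat n F) * m := by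
          rw [← hm']; simp [mul_assoc]
        calc (m : Mat n F) * ((h : Mat n F) * J * ((h⁻¹ : GL (Fin n) F) : Mat n F))
            = (h : Mat n F) * ((m' : Mat n F) * J) * ((h⁻¹ : GL (Fin n) F) : Mat n F) := by
              simp only [← mul_assoc, e1]
          _ = _ := by rw [hmJ]; simp only [mul_assoc, e2]
      · obtain ⟨m', hm', hm''⟩ := hconj h hh m
        obtain ⟨y, rfl⟩ : ∃ y, (h : Mat n F) *ᵥ y = x :=
          ⟨((h⁻¹ : GL (Fin n) F) : Mat n F) *ᵥ x, by rw [Matrix.mulVec_mulVec, Units.mul_inv, Matrix.one_mulVec]⟩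
        rw [← hm'', omega_isometry (hH hh), ← hC m' y, MulMemClass.coe_mul, MulMemClass.coe_mul]
        rw [← polar_of_isometry (omega_isometry (hH hh)) (((m' : Mat n F) * (m' : Mat n F)) *ᵥ (J *ᵥ y))]
        congr 1
        simp only [← Matrix.mulVec_mulVec]
        rw [hm'', hm'', Matrix.mulVec_mulVec y ((h⁻¹ : GL (Fin n) F) : Mat n F), Units.inv_mul, Matrix.one_mulVec]
    show (h : Mat n F) * ((k : Mat n F) + (l : Mat n F) * J) * ((h⁻¹ : GL (Fin n) F) : Mat n F) ∈ L
    rw [show (h : Mat n F) * ((k : Mat n F) + (l : Mat n F) * J) * ((h⁻¹ : GL (Fin n) F) : Mat n F) =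
      (h : Mat n F) * k * ((h⁻¹ : GL (Fin n) F) : Mat n F) + (h : Mat n F) * l * ((h⁻¹ : GL (Fin n) F) : Mat n F) *
        ((h : Mat n F) * J * ((h⁻¹ : GL (Fin n) F) : Mat n F)) by simp [mul_add, add_mul, mul_assoc]]
    exact L.add_mem (hk k) (L.mul_mem (hk l) hJ')
  -- adjoints
  have hf := herm hQ
  have hadjJ : adj (RingHom.id F) (polar Q) J = 1 - J := hf.adj_unique fun u v => by
    have key : ∀ x, polar Q (J *ᵥ x) x = Q x := fun x => by
      have := hC 1 x
      simpa using this
    have h := key (u + v)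
    rw [Matrix.mulVec_add, hb.add_left, hb.add_right, hb.add_right, key, key, q_add hQ] at h
    rw [Matrix.sub_mulVec, Matrix.one_mulVec, b_sub_right hQ, b_comm hQ u (J *ᵥ v)]
    linear_combination h
  have hadjK : ∀ m : K, adj (RingHom.id F) (polar Q) (m : Mat n F) = m := fun m =>
    (hf.isSelfAdjointFor_iff.1 hs) m m.2
  have hLadj : ∀ k l : K, adj (RingHom.id F) (polar Q) (Lmap (k, l)) = Lmap (k + l, -l) := by
    intro k l
    show adj (RingHom.id F) (polar Q) ((k : Mat n F) + (l : Mat n F) * J) = _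
    rw [hf.adj_add, hf.adj_mul, hadjK, hadjK, hadjJ]
    show _ = ((k + l : K) : Mat n F) + ((-l : K) : Mat n F) * J
    rw [sub_mul, one_mul, ← hmJ, AddMemClass.coe_add, NegMemClass.coe_neg, neg_mul]
    abel
  -- the quadratic subfield
  have hLfield : IsFieldSubalgebra (2 * r) L := ⟨hLcomm, hLinv, hLfin⟩
  letI : Field L := (isField_of (by omega) hLfield).toField
  haveI : Finite L := Subtype.finite
  haveI := Fintype.ofFinite L
  set q := Fintype.card F with hq
  have hq2 : 2 ≤ q := Fintype.one_lt_card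
  let fr : L →ₐ[F] L := (FiniteField.frobeniusAlgHom F L).comp (FiniteField.frobeniusAlgHom F L)
  have hfr : ∀ x : L, fr x = x ^ (q ^ 2) := fun x => by
    simp [fr, pow_two, ← pow_mul, hq]
  let Z₀ : Subalgebra F L := AlgHom.equalizer fr (AlgHom.id F L)
  let Z : Subalgebra F (Mat n F) := Z₀.map L.val
  have hZmem : ∀ X, X ∈ Z ↔ X ∈ L ∧ X ^ (q ^ 2) = X := by
    intro X
    constructor
    · rintro ⟨x, hx, rfl⟩
      refine ⟨x.2, ?_⟩
      have := congrArg Subtype.val ((hfr x).symm.trans hx)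
      simpa using this
    · rintro ⟨hX, hpow⟩
      refine ⟨⟨X, hX⟩, ?_, rfl⟩
      show fr ⟨X, hX⟩ = ⟨X, hX⟩
      rw [hfr]
      exact Subtype.ext (by simpa using hpow)
  have hcard : Nat.card Z = q ^ 2 := by
    have e0 : Nat.card Z = Nat.card Z₀ :=
      Nat.card_congr (Z₀.equivMapOfInjective L.val Subtype.val_injective).symm.toEquiv
    have hL : Nat.card Lˣ = q ^ (2 * r) - 1 := by
      rw [Nat.card_units, Module.natCard_eq_pow_finrank (K := F) (V := L), hLfin, Nat.card_eq_fintype_card]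
    have hker := IsCyclic.card_powMonoidHom_ker (G := Lˣ) (q ^ 2 - 1)
    have hd : q ^ 2 - 1 ∣ Nat.card Lˣ := by
      rw [hL, pow_mul]; exact Nat.sub_one_dvd_pow_sub_one (q ^ 2) r
    rw [Nat.gcd_eq_right hd] at hker
    have h1 : (q : ℕ) ^ 2 - 1 + 1 = q ^ 2 := Nat.sub_add_cancel (Nat.one_le_pow _ _ (by omega))
    let e : (powMonoidHom (q ^ 2 - 1) : Lˣ →* Lˣ).ker ≃ {z : Z₀ // z ≠ 0} :=
      { toFun := fun u => ⟨⟨(u.1 : L), by
          show fr u.1 = u.1
          rw [hfr]
          calc (u.1 : L) ^ (q ^ 2) = (u.1 : L) ^ (q ^ 2 - 1 + 1) := congrArg ((u.1 : L) ^ ·) h1.symm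
            _ = u.1 := by
              rw [pow_succ, ← Units.val_pow_eq_pow_val, show (u.1 : Lˣ) ^ (q ^ 2 - 1) = 1 from u.2,
                Units.val_one, one_mul]⟩,
          fun e => u.1.ne_zero (congrArg Subtype.val e)⟩
        invFun := fun z => ⟨Units.mk0 (z.1 : L) (fun e => z.2 (Subtype.ext e)), by
          refine Units.ext ?_
          rw [powMonoidHom_apply, Units.val_pow_eq_pow_val, Units.val_mk0, Units.val_one]
          have h := (hfr _).symm.trans z.1.2
          rw [← h1, pow_succ] at h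
          exact mul_left_eq_self₀.1 h |>.resolve_right fun e => z.2 (Subtype.ext e)⟩
        left_inv := fun u => Subtype.ext (Units.ext rfl)
        right_inv := fun z => Subtype.ext (Subtype.ext rfl) }
    haveI := Fintype.ofFinite Z₀
    rw [Nat.card_congr e, Nat.card_eq_fintype_card, Fintype.card_subtype_compl, Fintype.card_subtype_eq] at hker
    rw [e0, Nat.card_eq_fintype_card]
    have : 0 < Fintype.card Z₀ := Fintype.card_pos
    omega
  have hZfin : Module.finrank F Z = 2 := by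
    haveI : Finite Z := Subtype.finite
    have h := Module.natCard_eq_pow_finrank (K := F) (V := Z)
    rw [hcard, Nat.card_eq_fintype_card] at h
    exact (Nat.pow_right_injective hq2 h).symm
  have hZK : IsFieldSubalgebra 2 Z := by
    refine ⟨fun X hX Y hY => hLcomm X ((hZmem X).1 hX).1 Y ((hZmem Y).1 hY).1, fun X hX hX0 => ?_, hZfin⟩
    obtain ⟨hXL, hXp⟩ := (hZmem X).1 hX
    obtain ⟨Y, hY, hXY⟩ := hLinv X hXL hX0
    refine ⟨Y, (hZmem Y).2 ⟨hY, ?_⟩, hXY⟩
    have hc : Commute X Y := hLcomm X hXL Y hY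
    have e : X * Y ^ (q ^ 2) = 1 := by
      calc X * Y ^ (q ^ 2) = X ^ (q ^ 2) * Y ^ (q ^ 2) := by rw [hXp]
        _ = 1 := by rw [← hc.mul_pow, hXY, one_pow]
    calc Y ^ (q ^ 2) = Y * X * Y ^ (q ^ 2) := by rw [← hc.eq, hXY, one_mul]
      _ = Y := by rw [mul_assoc, e, mul_one]
  refine ⟨Z, hZK, fun X hX => ?_, fun hself => ?_, fun h hh => ?_⟩
  · obtain ⟨hXL, hXp⟩ := (hZmem X).1 hX
    refine ⟨adj (RingHom.id F) (polar Q) X, (hZmem _).2 ⟨?_, by rw [← hf.adj_pow, hXp]⟩, hf.apply_adj X⟩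
    obtain ⟨k, l, rfl⟩ := (hLmem X).1 hXL
    exact (hLmem _).2 ⟨_, _, (hLadj k l).symm⟩
  · -- a self-adjoint member lies in `K`
    have hsub : ∀ X ∈ Z, X ^ q = X := by
      intro X hX
      obtain ⟨hXL, hXp⟩ := (hZmem X).1 hX
      obtain ⟨k, l, rfl⟩ := (hLmem X).1 hXL
      have e := (hf.isSelfAdjointFor_iff.1 hself) _ hX
      rw [hLadj] at e
      obtain ⟨e1, e2⟩ := Prod.ext_iff.1 (hLinj e)
      change k + l = k at e1
      have hl : l = 0 := by linear_combination e1
      subst hl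
      have hX' : Lmap (k, 0) = (k : Mat n F) := by simp [Lmap]
      rw [hX'] at hXp ⊢
      haveI := Fintype.ofFinite K
      have hKq : k ^ (q ^ r) = k := by
        have := FiniteField.pow_card k
        rwa [← Nat.card_eq_fintype_card, Module.natCard_eq_pow_finrank (K := F) (V := K), hK.finrank_eq,
          Nat.card_eq_fintype_card] at this
      obtain ⟨s, rfl⟩ := hrodd
      have h2 : ∀ i, k ^ ((q ^ 2) ^ i) = k := by
        intro i
        induction i with
        | zero => simp
        | succ i ih => rw [pow_succ, pow_mul, ih]; exact Subtype.ext (by simpa using hXp)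
      rw [pow_succ, pow_mul q, pow_mul k, h2] at hKq
      simpa using congrArg Subtype.val hKq
    haveI : Finite Z := Subtype.finite
    let S : Set L := {x | (x : Mat n F) ∈ Z}
    have hSf : S.ncard = q ^ 2 := by
      rw [← Nat.card_coe_set_eq, ← hcard]
      exact Nat.card_congr
        { toFun := fun x => ⟨x.1.1, x.2⟩
          invFun := fun z => ⟨⟨z.1, ((hZmem _).1 z.2).1⟩, z.2⟩
          left_inv := fun x => rfl
          right_inv := fun z => rfl }
    have hroots : S ⊆ {x : L | x ^ q = x} := fun x hx => Subtype.ext (by simpa using hsub _ hx)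
    let R : Set L := Set.range (algebraMap F L)
    have hR : R.ncard = q := by
      rw [← Nat.card_coe_set_eq, Nat.card_congr (Equiv.ofInjective _ (algebraMap F L).injective).symm,
        Nat.card_eq_fintype_card]
    have hle' : S ⊆ R := fun x hx => AschForm.mem_of_pow_eq (by omega) (by
      rintro _ ⟨c, rfl⟩
      rw [← map_pow, hq, FiniteField.pow_card]) hR.ge (hroots hx)
    have := Set.ncard_le_ncard hle' (Set.toFinite _)
    rw [hSf, hR] at this
    nlinarith
  · intro X
    have key : ∀ g ∈ H, ∀ Y ∈ Z, (g : Mat n F) * Y * ((g⁻¹ : GL (Fin n) F) : Mat n F) ∈ Z := by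
      intro g hg Y hY
      obtain ⟨hYL, hYp⟩ := (hZmem Y).1 hY
      refine (hZmem _).2 ⟨hLnorm g hg Y hYL, ?_⟩
      rw [show ((g : Mat n F) * Y * ((g⁻¹ : GL (Fin n) F) : Mat n F)) = AschGen.conjHom g Y from rfl, ← map_pow,
        hYp]
    refine ⟨key h hh X, fun hX => ?_⟩
    have := key h⁻¹ (H.inv_mem hh) _ hX
    simpa [mul_assoc] using this

end CfsgLib.Classical.OrthEven
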