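import Cfsg.Agent.Lib.Classical.OrthEven.Reducible

/-!
# Quadratic extension fields compatible with a quadratic form
-/

set_option autoImplicit false
set_option linter.unusedSectionVars false

namespace CfsgLib.Classical.OrthEven

open Matrix Cfsg Cfsg.Geo QuadraticMap CfsgLib.Orth CfsgLib.Classical CfsgLib.Classical.AschPrime
  CfsgLib.Classical.AschForm
open scoped MatrixGroups

variable {F : Type*} [Field F] [Fintype F] {n : ℕ} {Q : (Fin n → F) → F}

/-- A semilinear quadratic map in characteristic two is the square of a functional. -/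
theorem exists_sqrt_functional {V : Type*} [AddCommGroup V] [Module F V] (h2 : (2 : F) = 0) (g : V → F)
    (hadd : ∀ u v, g (u + v) = g u + g v) (hsmul : ∀ (c : F) v, g (c • v) = c * c * g v) :
    ∃ φ : V →ₗ[F] F, ∀ v, φ v ^ 2 = g v := by
  haveI : CharP F 2 := CharTwo.of_one_ne_zero_of_two_eq_zero one_ne_zero h2
  choose s hs using fun v => CfsgLib.Derangements.EvenForms.exists_sqrt (F := F) (g v)
  refine ⟨{ toFun := s, map_add' := fun u v => CharTwo.sq_injective ?_,
            map_smul' := fun c v => CharTwo.sq_injective ?_ }, hs⟩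
  · show s (u + v) ^ 2 = (s u + s v) ^ 2
    rw [hs, CharTwo.add_sq, hs, hs, hadd]
  · show s (c • v) ^ 2 = (c * s v) ^ 2
    rw [hs, mul_pow, hs, hsmul, pow_two]

/-- The members of a quadratic field compatible with the form. -/
def Similar (Q : (Fin n → F) → F) (K : Subalgebra F (Mat n F)) : Prop :=
  ∀ k ∈ K, ∃ c : F, ∀ v : Fin n → F, Q (k *ᵥ v) = c * Q v

variable (hQ : IsNondegenerateQuadraticForm Q) {H : Subgroup (GL (Fin n) F)} (hH : H ≤ omegaGL Q)
include hQ

/-- The norm of a member of an adjoint-closed quadratic field that is not self-adjoint. -/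
theorem norm_scalar (hn : 0 < n) {K : Subalgebra F (Mat n F)} (hK : IsFieldSubalgebra 2 K)
    (hadj : IsAdjointClosedFor (polar Q) K) (hns : ¬ IsSelfAdjointFor (polar Q) K) :
    ∀ k ∈ K, adj (RingHom.id F) (polar Q) k ∈ K ∧
      ∃ c : F, adj (RingHom.id F) (polar Q) k * k = c • (1 : Mat n F) := by
  have hf := herm hQ
  have hmem : ∀ k ∈ K, adj (RingHom.id F) (polar Q) k ∈ K := by
    intro k hk
    obtain ⟨k', hk', h⟩ := hadj k hk
    rw [← hf.adj_unique h] at hk'
    exact hk'
  let S : Submodule F (Mat n F) :=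
    { carrier := {k | k ∈ K ∧ adj (RingHom.id F) (polar Q) k = k}
      add_mem' := fun {a b} ha hb => ⟨K.add_mem ha.1 hb.1, by rw [hf.adj_add, ha.2, hb.2]⟩
      zero_mem' := ⟨K.zero_mem, hf.adj_zero⟩
      smul_mem' := fun c a ha => ⟨K.smul_mem ha.1 c, by rw [hf.adj_smul, ha.2, RingHom.id_apply]⟩ }
  have hSK : S ≤ K.toSubmodule := fun k hk => hk.1
  have hlt : S < K.toSubmodule := lt_of_le_of_ne hSK fun e => hns (hf.isSelfAdjointFor_iff.2 fun k hk =>
    ((e.symm ▸ hk : k ∈ S)).2)
  have hS1 : Module.finrank F S ≤ 1 := by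
    have := Submodule.finrank_lt_finrank_of_lt hlt
    have := hK.finrank_eq
    change Module.finrank F K.toSubmodule = 2 at this
    omega
  have h1 : (1 : Mat n F) ∈ S := ⟨K.one_mem, hf.adj_one⟩
  haveI : NeZero n := ⟨hn.ne'⟩
  have hspan : S = F ∙ (1 : Mat n F) := (Submodule.eq_of_le_of_finrank_le
    ((Submodule.span_singleton_le_iff_mem _ _).2 h1) (by rw [finrank_span_singleton one_ne_zero]; exact hS1)).symm
  refine fun k hk => ⟨hmem k hk, ?_⟩
  have hN : adj (RingHom.id F) (polar Q) k * k ∈ S := ⟨K.mul_mem (hmem k hk) hk, by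
    rw [hf.adj_mul, hf.adj_adj]⟩
  rw [hspan] at hN
  obtain ⟨c, hc⟩ := Submodule.mem_span_singleton.1 hN
  exact ⟨c, hc.symm⟩

include hH

/-- An adjoint-closed quadratic field acts by similitudes, or the group is reducible. -/
theorem similar_or_reduced (hn : 3 ≤ n) {K : Subalgebra F (Mat n F)} (hK : IsFieldSubalgebra 2 K)
    (hadj : IsAdjointClosedFor (polar Q) K) (hns : ¬ IsSelfAdjointFor (polar Q) K)
    (hle : H ≤ subalgebraNormalizer K) : Similar Q K ∨ Reduced Q H := by
  have hf := herm hQ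
  have hb := hQ.polar_bilinear
  have hN := norm_scalar hQ (by omega) hK hadj hns
  have key : ∀ k ∈ K, ∀ c : F, adj (RingHom.id F) (polar Q) k * k = c • (1 : Mat n F) → ∀ u v,
      polar Q (k *ᵥ u) (k *ᵥ v) = c * polar Q u v := by
    intro k hk c hc u v
    rw [hf.apply_adj, Matrix.mulVec_mulVec, hc, Matrix.smul_mulVec, Matrix.one_mulVec, hb.smul_right]
  by_cases h2 : (2 : F) = 0
  swap
  · refine .inl fun k hk => ?_
    obtain ⟨c, hc⟩ := (hN k hk).2
    refine ⟨c, fun v => mul_left_cancel₀ h2 ?_⟩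
    rw [← b_self hQ, key k hk c hc, b_self hQ]
    ring
  haveI : CharP F 2 := CharTwo.of_one_ne_zero_of_two_eq_zero one_ne_zero h2
  -- the vectors on which every member is a similitude
  let W : Submodule F (Fin n → F) :=
    { carrier := {v | ∀ k ∈ K, ∀ c : F, adj (RingHom.id F) (polar Q) k * k = c • (1 : Mat n F) →
        Q (k *ᵥ v) = c * Q v}
      add_mem' := fun {a b} ha hb' k hk c hc => by
        rw [Matrix.mulVec_add, q_add hQ, q_add hQ, ha k hk c hc, hb' k hk c hc, key k hk c hc]; ring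
      zero_mem' := fun k _ c _ => by rw [Matrix.mulVec_zero, q_zero hQ, mul_zero]
      smul_mem' := fun a v hv k hk c hc => by
        rw [Matrix.mulVec_smul, q_smul hQ, q_smul hQ, hv k hk c hc]; ring }
  by_cases htop : W = ⊤
  · refine .inl fun k hk => ?_
    obtain ⟨c, hc⟩ := (hN k hk).2
    exact ⟨c, fun v => (htop ▸ Submodule.mem_top : v ∈ W) k hk c hc⟩
  refine .inr (reduced_of_invariant hQ hH (W := W) ?_ htop fun h hh v hv k hk c hc => ?_)
  · -- two semilinear functionals cut out `W`
    obtain ⟨ω, hω, hω1⟩ : ∃ ω ∈ K, ω ∉ (F ∙ (1 : Mat n F)) := by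
      by_contra! hall
      have h := Submodule.finrank_mono (show K.toSubmodule ≤ F ∙ (1 : Mat n F) from hall)
      haveI : NeZero n := ⟨by omega⟩
      rw [finrank_span_singleton one_ne_zero] at h
      have := hK.finrank_eq
      change Module.finrank F K.toSubmodule = 2 at this
      omega
    haveI : NeZero n := ⟨by omega⟩
    have hspan : ∀ k ∈ K, ∃ x y : F, k = x • ω + y • (1 : Mat n F) := by
      intro k hk
      have hli : LinearIndependent F ![ω, (1 : Mat n F)] := by
        rw [LinearIndependent.pair_iff]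
        intro s t hst
        by_cases hs : s = 0
        · refine ⟨hs, ?_⟩
          simpa [hs] using hst
        · exfalso
          refine hω1 (Submodule.mem_span_singleton.2 ⟨-(t / s), ?_⟩)
          rw [add_eq_zero_iff_eq_neg] at hst
          have := congrArg (fun X : Mat n F => s⁻¹ • X) hst
          simp only [smul_smul, inv_mul_cancel₀ hs, one_smul, smul_neg] at this
          rw [this, neg_smul, div_eq_inv_mul]
      have hsp : Submodule.span F (Set.range ![ω, (1 : Mat n F)]) = K.toSubmodule :=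
        Submodule.eq_of_le_of_finrank_eq (Submodule.span_le.2 (by
          rintro _ ⟨i, rfl⟩
          fin_cases i
          · exact hω
          · exact K.one_mem)) (by rw [finrank_span_eq_card hli, Fintype.card_fin]; exact hK.finrank_eq.symm)
      have hk' : k ∈ Submodule.span F (Set.range ![ω, (1 : Mat n F)]) := hsp ▸ hk
      obtain ⟨co, hco⟩ := (Submodule.mem_span_range_iff_exists_fun F).1 hk'
      exact ⟨co 0, co 1, by rw [← hco, Fin.sum_univ_two]; rfl⟩
    obtain ⟨c₀, hc₀⟩ := (hN ω hω).2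
    obtain ⟨c₁, hc₁⟩ := (hN (ω + 1) (K.add_mem hω K.one_mem)).2
    obtain ⟨φ₀, hφ₀⟩ := exists_sqrt_functional h2 (fun v => Q (ω *ᵥ v) - c₀ * Q v)
      (fun u v => by rw [Matrix.mulVec_add, q_add hQ, q_add hQ, key ω hω c₀ hc₀]; ring)
      (fun a v => by rw [Matrix.mulVec_smul, q_smul hQ, q_smul hQ]; ring)
    obtain ⟨φ₁, hφ₁⟩ := exists_sqrt_functional h2 (fun v => Q ((ω + 1) *ᵥ v) - c₁ * Q v)
      (fun u v => by rw [Matrix.mulVec_add, q_add hQ, q_add hQ, key _ (K.add_mem hω K.one_mem) c₁ hc₁]; ring)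
      (fun a v => by rw [Matrix.mulVec_smul, q_smul hQ, q_smul hQ]; ring)
    obtain ⟨v, hv, hv0⟩ := Submodule.exists_mem_ne_zero_of_ne_bot (p := LinearMap.ker (φ₀.prod φ₁)) (fun e => by
      have h1 := LinearMap.finrank_range_add_finrank_ker (φ₀.prod φ₁)
      have h3 := (LinearMap.range (φ₀.prod φ₁)).finrank_le
      rw [e, finrank_bot, Module.finrank_fin_fun] at h1
      rw [Module.finrank_prod, Module.finrank_self] at h3
      omega)
    rw [LinearMap.mem_ker] at hv
    intro hW
    refine hv0 ((Submodule.mem_bot F).1 (hW ▸ (?_ : v ∈ W)))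
    intro k hk c hc
    have e0 : Q (ω *ᵥ v) = c₀ * Q v := by
      have := hφ₀ v
      rw [show φ₀ v = 0 from congrArg Prod.fst hv, zero_pow two_ne_zero] at this
      exact (sub_eq_zero.1 this.symm)
    have e1 : Q ((ω + 1) *ᵥ v) = c₁ * Q v := by
      have := hφ₁ v
      rw [show φ₁ v = 0 from congrArg Prod.snd hv, zero_pow two_ne_zero] at this
      exact (sub_eq_zero.1 this.symm)
    obtain ⟨x, y, rfl⟩ := hspan k hk
    -- the norm is a quadratic form on the field
    have hc' : c = x * x * c₀ + x * y * (c₁ - c₀ - 1) + y * y := by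
      have hcc : c₁ • (1 : Mat n F) =
          c₀ • 1 + (adj (RingHom.id F) (polar Q) ω + ω) + 1 := by
        rw [← hc₁, hf.adj_add, hf.adj_one, ← hc₀]; noncomm_ring
      rw [hf.adj_add, hf.adj_smul, hf.adj_smul, hf.adj_one, RingHom.id_apply] at hc
      simp only [add_mul, mul_add, Matrix.smul_mul, Matrix.mul_smul, mul_one, one_mul, smul_smul,
        RingHom.id_apply, hc₀] at hc
      have := congrArg (fun X : Mat n F => X 0 0) hc
      have := congrArg (fun X : Mat n F => X 0 0) hcc
      simp only [Matrix.add_apply, Matrix.smul_apply, Matrix.one_apply_eq, smul_eq_mul, mul_one] at *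
      grind
    rw [Matrix.add_mulVec, Matrix.one_mulVec, q_add hQ] at e1
    rw [Matrix.add_mulVec, Matrix.smul_mulVec, Matrix.smul_mulVec, Matrix.one_mulVec, q_add hQ,
      q_smul hQ, q_smul hQ, hb.smul_left, hb.smul_right, e0, hc']
    linear_combination (x * y) * e1 - (x * y) * e0
  · -- the group conjugates the similitude conditions
    have hh' := (hle hh k)
    set k' := ((h⁻¹ : GL (Fin n) F) : Mat n F) * k * (h : Mat n F) with hk'def
    have hk' : k' ∈ K := by
      rw [hle hh k']
      simpa [hk'def, mul_assoc] using hk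
    have hc' : adj (RingHom.id F) (polar Q) k' * k' = c • (1 : Mat n F) := by
      have := hf.adj_conj (fixesForm_omega hH _ (mem_matrixSet (H.inv_mem hh))) k
      rw [AschGen.conjHom_apply, AschGen.conjHom_apply, inv_inv] at this
      rw [hk'def, this]
      simp only [mul_assoc, Units.mul_inv_cancel_left]
      rw [← mul_assoc (adj (RingHom.id F) (polar Q) k), hc]
      simp
    have e := hv k' hk' c hc'
    rw [← omega_isometry (hH hh) (k' *ᵥ v)] at e
    rw [omega_isometry (hH hh) v]
    rw [← e]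
    simp [hk'def, Matrix.mulVec_mulVec, ← mul_assoc]

omit hH

/-- A self-adjoint quadratic field in characteristic two needs a dimension divisible by four. -/
theorem four_dvd_of_selfAdjoint (hn : 0 < n) (h2 : (2 : F) = 0) {K : Subalgebra F (Mat n F)}
    (hK : IsFieldSubalgebra 2 K) (hs : IsSelfAdjointFor (polar Q) K) : 4 ∣ n := by
  classical
  haveI : CharP F 2 := CharTwo.of_one_ne_zero_of_two_eq_zero one_ne_zero h2
  have hb := hQ.polar_bilinear
  have hf := herm hQ
  haveI : Finite K := Subtype.finite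
  have hsq : Function.Surjective fun k : K => k * k := by
    refine Finite.injective_iff_surjective.1 fun a b e => ?_
    have e' : (a : Mat n F) * a = b * b := congrArg Subtype.val e
    have hd : ((a : Mat n F) - b) * (a - b) = 0 := by
      rw [sub_mul, mul_sub, mul_sub, hK.comm a a.2 b b.2, e']
      rw [show (b : Mat n F) * b - b * a - (b * a - b * b) = (2 : F) • (b * b - b * a) by module, h2, zero_smul]
    by_contra hne
    obtain ⟨l, -, hl⟩ := hK.inv _ (K.sub_mem a.2 b.2) (sub_ne_zero.2 fun e'' => hne (Subtype.ext e''))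
    have := (IsUnit.of_mul_eq_one l hl).mul_right_eq_zero.1 hd
    exact hne (Subtype.ext (sub_eq_zero.1 this))
  have halt : ∀ k ∈ K, ∀ v, polar Q (k *ᵥ v) v = 0 := by
    intro k hk v
    obtain ⟨r, hr⟩ := hsq ⟨k, hk⟩
    rw [← show (r : Mat n F) * r = k from congrArg Subtype.val hr, ← Matrix.mulVec_mulVec, hs r r.2,
      b_self hQ, h2, zero_mul]
  suffices key : ∀ d, ∀ U : Submodule F (Fin n → F), Module.finrank F U = d →
      (∀ k ∈ K, ∀ v ∈ U, k *ᵥ v ∈ U) → (∀ v ∈ U, (∀ w ∈ U, polar Q v w = 0) → v = 0) → 4 ∣ d by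
    refine key n ⊤ (by rw [finrank_top, Module.finrank_fin_fun]) (fun k _ v _ => Submodule.mem_top) ?_
    intro v _ hv
    by_contra h0
    obtain ⟨-, x, hx⟩ := hQ.nondegenerate v h0
    exact hx (hv x Submodule.mem_top)
  intro d
  induction d using Nat.strong_induction_on with
  | _ d ih =>
    intro U hd hKU hUn
    rcases Nat.eq_zero_or_pos d with hd0 | hd0
    · simp [hd0]
    obtain ⟨v, hv, hv0⟩ := Submodule.exists_mem_ne_zero_of_ne_bot (p := U) (fun e => by
      rw [e, finrank_bot] at hd; omega)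
    obtain ⟨w, hw, hvw⟩ : ∃ w ∈ U, polar Q v w ≠ 0 := by
      by_contra! h
      exact hv0 (hUn v hv h)
    let L : K.toSubmodule × K.toSubmodule →ₗ[F] (Fin n → F) :=
      { toFun := fun p => (p.1 : Mat n F) *ᵥ v + (p.2 : Mat n F) *ᵥ w
        map_add' := fun p p' => by
          simp only [Prod.fst_add, Prod.snd_add, Submodule.coe_add, Matrix.add_mulVec]; abel
        map_smul' := fun c p => by
          simp only [Prod.smul_fst, Prod.smul_snd, Submodule.coe_smul, Matrix.smul_mulVec, RingHom.id_apply,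
            smul_add] }
    have hLU : LinearMap.range L ≤ U := by
      rintro _ ⟨p, rfl⟩
      exact U.add_mem (hKU _ p.1.2 v hv) (hKU _ p.2.2 w hw)
    -- the pairing on the span
    have hzero : ∀ p, (∀ q, polar Q (L p) (L q) = 0) → p = 0 := by
      intro p hp
      have hval : ∀ a ∈ K, ∀ x y, polar Q (a *ᵥ x) y = polar Q x (a *ᵥ y) := fun a ha x y => hs a ha x y
      have step : ∀ a ∈ K, (∀ m ∈ K, polar Q v ((a * m) *ᵥ w) = 0) → a = 0 := by
        intro a ha hall
        by_contra ha0
        obtain ⟨l, hl, hl1⟩ := hK.inv a ha ha0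
        have := hall l hl
        rw [hl1, Matrix.one_mulVec] at this
        exact hvw this
      have h1 : (p.1 : Mat n F) = 0 := step _ p.1.2 fun m hm => by
        have := hp (0, ⟨m, hm⟩)
        simp only [L, LinearMap.coe_mk, AddHom.coe_mk, ZeroMemClass.coe_zero, Matrix.zero_mulVec, zero_add,
          hb.add_left] at this
        rw [hval _ p.1.2, Matrix.mulVec_mulVec, hval _ p.2.2, Matrix.mulVec_mulVec, b_comm hQ w,
          halt _ (K.mul_mem p.2.2 hm), add_zero] at this
        exact this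
      have h2' : (p.2 : Mat n F) = 0 := step _ p.2.2 fun m hm => by
        have := hp (⟨m, hm⟩, 0)
        simp only [L, LinearMap.coe_mk, AddHom.coe_mk, ZeroMemClass.coe_zero, Matrix.zero_mulVec, add_zero,
          h1, zero_add] at this
        rw [b_comm hQ, hval _ hm, Matrix.mulVec_mulVec, hK.comm m hm _ p.2.2] at this
        exact this
      exact Prod.ext (Subtype.ext h1) (Subtype.ext h2')
    have hinj : Function.Injective L := (injective_iff_map_eq_zero _).2 fun p hp => hzero p fun q => by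
      rw [hp, b_zero_left hQ]
    set S := LinearMap.range L
    have hS4 : Module.finrank F S = 4 := by
      rw [LinearMap.finrank_range_of_inj hinj, Module.finrank_prod]
      have := hK.finrank_eq
      change Module.finrank F K.toSubmodule = 2 at this
      omega
    let U' : Submodule F (Fin n → F) := U ⊓ hf.perp S
    have hdisj : S ⊓ U' = ⊥ := by
      rw [Submodule.eq_bot_iff]
      rintro x ⟨⟨p, rfl⟩, -, hx⟩
      rw [hzero p fun q => hx _ ⟨q, rfl⟩, map_zero]
    have hge : Module.finrank F U ≤ Module.finrank F U' + 4 := by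
      have h1 := Submodule.finrank_sup_add_finrank_inf_eq U (hf.perp S)
      have h3 := hf.finrank_perp S
      have h4 := Submodule.finrank_le (U ⊔ hf.perp S)
      rw [Module.finrank_fin_fun] at h4
      show _ ≤ Module.finrank F ↥(U ⊓ hf.perp S) + 4
      omega
    have hsum := Submodule.finrank_sup_add_finrank_inf_eq S U'
    rw [hdisj, finrank_bot] at hsum
    have hsup : S ⊔ U' ≤ U := sup_le hLU inf_le_left
    have hle' := Submodule.finrank_mono hsup
    have htop : S ⊔ U' = U := Submodule.eq_of_le_of_finrank_le hsup (by omega)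
    have hU' : 4 ∣ d - 4 := by
      refine ih (d - 4) (by omega) U' (by omega) (fun k hk x hx => ⟨hKU k hk x hx.1, fun s hs' => ?_⟩) ?_
      · obtain ⟨p, rfl⟩ := hs'
        rw [hs k hk]
        refine hx.2 _ ⟨(⟨k * p.1, K.mul_mem hk p.1.2⟩, ⟨k * p.2, K.mul_mem hk p.2.2⟩), ?_⟩
        simp [L, Matrix.mulVec_add, Matrix.mulVec_mulVec]
      · intro x hx h
        refine hUn x hx.1 fun y hy => ?_
        obtain ⟨s, hs', u, hu, rfl⟩ := Submodule.mem_sup.1 (htop.symm ▸ hy : y ∈ S ⊔ U')
        rw [hb.add_right, hx.2 s hs', h u hu, add_zero]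
    omega

/-- Five unitary dimensions never give a form of plus type. -/
theorem not_similar_plus_ten (hn : n = 10) {K : Subalgebra F (Mat n F)} (hK : IsFieldSubalgebra 2 K)
    (hsim : Similar Q K) (hplus : IsPlusTypeOn Q ⊤) : False := by
  classical
  set q := Fintype.card F with hq
  have hq2 : 2 ≤ q := Fintype.one_lt_card
  obtain ⟨U, -, hU, hUd⟩ := hplus
  rw [finrank_top, Module.finrank_fin_fun] at hUd
  have hp : CfsgLib.Derangements.EvenForms.Plus (qf hQ) 5 := ⟨U, hU, by omega⟩
  have hcount := (CfsgLib.Derangements.EvenForms.zeroCount_eq (qf_nondeg hQ) hq.symm (d := 5) (by norm_num)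
    (by rw [Module.finrank_fin_fun, hn])).1 hp
  -- the lines of the field through the singular vectors
  let line : (Fin n → F) → Submodule F (Fin n → F) := fun v =>
    LinearMap.range (((Matrix.mulVecBilin F F).flip v).comp K.toSubmodule.subtype)
  have hline : ∀ v w, w ∈ line v ↔ ∃ k ∈ K, k *ᵥ v = w := fun v w =>
    ⟨fun ⟨k, hk⟩ => ⟨k.1, k.2, hk⟩, fun ⟨k, hk, e⟩ => ⟨⟨k, hk⟩, e⟩⟩
  let S : Finset (Fin n → F) := Finset.univ.filter fun v => Q v = 0 ∧ v ≠ 0
  have hinj : ∀ v, v ≠ 0 → ∀ k ∈ K, k *ᵥ v = 0 → k = 0 := by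
    intro v hv k hk hkv
    by_contra hk0
    obtain ⟨l, -, hl⟩ := hK.inv k hk hk0
    exact hv (Matrix.mulVec_injective_iff_isUnit.2 (IsUnit.of_mul_eq_one l hl)
      (hkv.trans (Matrix.mulVec_zero _).symm))
  have hfib : ∀ v ∈ S, (S.filter fun w => line w = line v).card = q ^ 2 - 1 := by
    intro v hv
    simp only [S, Finset.mem_filter, Finset.mem_univ, true_and] at hv
    have hset : (S.filter fun w => line w = line v) =
        (Finset.univ.filter fun w => w ∈ line v).erase 0 := by
      ext w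
      simp only [S, Finset.mem_filter, Finset.mem_univ, true_and, Finset.mem_erase, and_assoc]
      constructor
      · rintro ⟨-, hw, e⟩
        exact ⟨hw, e ▸ (hline w w).2 ⟨1, K.one_mem, Matrix.one_mulVec w⟩⟩
      · rintro ⟨hw, hwl⟩
        obtain ⟨k, hk, rfl⟩ := (hline v w).1 hwl
        have hk0 : k ≠ 0 := fun e => hw (by rw [e, Matrix.zero_mulVec])
        obtain ⟨l, hl, hkl⟩ := hK.inv k hk hk0
        obtain ⟨c, hc⟩ := hsim k hk
        refine ⟨by rw [hc, hv.1, mul_zero], hw, le_antisymm (fun z hz => ?_) fun z hz => ?_⟩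
        · obtain ⟨m, hm, rfl⟩ := (hline _ z).1 hz
          exact (hline _ _).2 ⟨m * k, K.mul_mem hm hk, (Matrix.mulVec_mulVec _ _ _).symm⟩
        · obtain ⟨m, hm, rfl⟩ := (hline _ z).1 hz
          refine (hline _ _).2 ⟨m * l, K.mul_mem hm hl, ?_⟩
          rw [Matrix.mulVec_mulVec, mul_assoc, hK.comm l hl k hk, hkl, mul_one]
    have hker : LinearMap.ker (((Matrix.mulVecBilin F F).flip v).comp K.toSubmodule.subtype) = ⊥ :=
      LinearMap.ker_eq_bot'.2 fun k hk => Subtype.ext (hinj v hv.2 k.1 k.2 hk)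
    have hfin : Module.finrank F (line v) = 2 :=
      (LinearMap.finrank_range_of_inj (LinearMap.ker_eq_bot.1 hker)).trans hK.finrank_eq
    rw [hset, Finset.card_erase_of_mem (by simp), ← Fintype.card_subtype, Module.card_eq_pow_finrank (K := F), hfin]
  have hdvd : q ^ 2 - 1 ∣ S.card := by
    rw [Finset.card_eq_sum_card_image line S]
    refine Finset.dvd_sum fun W hW => ?_
    obtain ⟨v, hv, rfl⟩ := Finset.mem_image.1 hW
    rw [hfib v hv]
  have hz : zeroCount (qf hQ) = S.card + 1 := by
    have h0 : (0 : Fin n → F) ∈ (Finset.univ.filter fun v => Q v = 0) := by simp [q_zero hQ]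
    have hS : S = (Finset.univ.filter fun v => Q v = 0).erase 0 := by
      ext w; simp [S, and_comm]
    rw [zeroCount, Nat.card_eq_fintype_card, Fintype.card_subtype, hS, Finset.card_erase_add_one h0]
    rfl
  rw [hz] at hcount
  push_cast at hcount
  obtain ⟨t, ht⟩ := hdvd
  have ht' : (S.card : ℤ) = ((q : ℤ) ^ 2 - 1) * t := by
    rw [ht]
    push_cast [Nat.one_le_pow 2 q (by omega)]
    ring
  have e : ((q : ℤ) ^ 2 - 1) * t = ((q : ℤ) ^ 5 - 1) * ((q : ℤ) ^ 4 + 1) := by
    rw [← ht']; linear_combination hcount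
  have h3 : ((q : ℤ) + 1) ∣ 4 := by
    refine ⟨((q : ℤ) ^ 8 - q ^ 7 + q ^ 6 - q ^ 5 + q ^ 4 - q ^ 3 + q ^ 2 - q + 1) +
      ((q : ℤ) ^ 4 - q ^ 3 + q ^ 2 - q + 1) - ((q : ℤ) ^ 3 - q ^ 2 + q - 1) - ((q : ℤ) - 1) * t, ?_⟩
    linear_combination e
  have h4 : q + 1 ≤ 4 := by
    have := Int.le_of_dvd (by norm_num) h3
    omega
  have hq3 : q = 2 ∨ q = 3 := by omega
  rcases hq3 with hq3 | hq3 <;> rw [hq3] at h3 e
  · norm_num at h3
  · norm_num at e
    omega

end CfsgLib.Classical.OrthEven
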