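import Cfsg.Agent.Lib.Classical.OrthEven.Types
import Cfsg.Agent.Lib.Classical.OrthEven.Fields
import Cfsg.Agent.Lib.Classical.AschForm.OddOrtho

/-!
# The tensor cube of a plane
-/

set_option autoImplicit false
set_option linter.unusedSectionVars false

namespace CfsgLib.Classical.OrthEven

open Matrix Cfsg Cfsg.Geo QuadraticMap CfsgLib.Orth CfsgLib.Classical CfsgLib.Classical.AschPrime
  CfsgLib.Classical.AschForm CfsgLib.Classical.AschGen
open scoped MatrixGroups commutatorElement

variable {F : Type*} [Field F] [Fintype F]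

/-- A perfect group of isometries of a non-alternating plane is trivial. -/
theorem perfect_plane {f : (Fin 2 → F) → (Fin 2 → F) → F} (hb : IsBilinearForm f) (hs : ∀ u v, f v u = f u v)
    (hn : IsNondegenerateForm f) (hna : ¬ (f (Pi.single 0 1) (Pi.single 0 1) = 0 ∧ f (Pi.single 1 1) (Pi.single 1 1) = 0 ∧ (2 : F) = 0))
    {L : Subgroup (GL (Fin 2) F)} (hperf : ⁅L, L⁆ = L) (hfix : FixesForm (matrixSet L) f) : L = ⊥ := by
  classical
  set p := f (Pi.single 0 1) (Pi.single 0 1) with hp
  set b := f (Pi.single 0 1) (Pi.single 1 1) with hb'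
  set c := f (Pi.single 1 1) (Pi.single 1 1) with hc
  have hv : ∀ v : Fin 2 → F, v = v 0 • Pi.single 0 1 + v 1 • Pi.single 1 1 := fun v => by
    funext i; fin_cases i <;> simp
  have hval : ∀ u v, f u v = u 0 * v 0 * p + (u 0 * v 1 + u 1 * v 0) * b + u 1 * v 1 * c := by
    intro u v
    conv_lhs => rw [hv u, hv v]
    simp only [hb.add_left, hb.add_right, hb.smul_left, hb.smul_right, hs (Pi.single 0 1) (Pi.single 1 1)]
    ring
  have hD : p * c - b * b ≠ 0 := by
    intro h0
    by_cases h00 : p = 0 ∧ b = 0
    · obtain ⟨⟨x, hx⟩, -⟩ := hn (Pi.single 0 1) (fun e => by simpa using congrFun e 0)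
      apply hx
      rw [hval]; simp [h00.1, h00.2]
    · obtain ⟨⟨x, hx⟩, -⟩ := hn ![-b, p] (fun e => h00 ⟨by simpa using congrFun e 1, by simpa using congrFun e 0⟩)
      apply hx
      rw [hval]
      simp only [Matrix.cons_val_zero, Matrix.cons_val_one]
      linear_combination x 1 * h0
  have heq : ∀ g ∈ L, (g : Mat 2 F).det = 1 →
      p * ((g : Mat 2 F) 0 0 - (g : Mat 2 F) 1 1) + 2 * b * (g : Mat 2 F) 1 0 = 0 ∧
      p * (g : Mat 2 F) 0 1 + c * (g : Mat 2 F) 1 0 = 0 ∧
      2 * b * (g : Mat 2 F) 0 1 + c * ((g : Mat 2 F) 1 1 - (g : Mat 2 F) 0 0) = 0 := by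
    intro g hg hdet
    have e00 := hfix _ (mem_matrixSet hg) (Pi.single 0 1) (Pi.single 0 1)
    have e01 := hfix _ (mem_matrixSet hg) (Pi.single 0 1) (Pi.single 1 1)
    have e11 := hfix _ (mem_matrixSet hg) (Pi.single 1 1) (Pi.single 1 1)
    simp only [hval] at e00 e01 e11
    simp [Matrix.mulVec, dotProduct, Fin.sum_univ_two] at e00 e01 e11
    rw [Matrix.det_fin_two] at hdet
    set A := (g : Mat 2 F) 0 0
    set B := (g : Mat 2 F) 0 1
    set C := (g : Mat 2 F) 1 0
    set E := (g : Mat 2 F) 1 1
    have i1 : p * A + b * C = E * p - C * b := by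
      linear_combination E * e00 - C * e01 - (p * A + b * C) * hdet
    have i2 : p * B + b * E = E * b - C * c := by
      linear_combination E * e01 - C * e11 - (p * B + b * E) * hdet
    have i4 : b * B + c * E = -(B * b) + A * c := by
      linear_combination -B * e01 + A * e11 - (b * B + c * E) * hdet
    exact ⟨by linear_combination i1, by linear_combination i2, by linear_combination i4⟩
  have hcomm : ∀ g ∈ L, ∀ g' ∈ L, (g : Mat 2 F).det = 1 → (g' : Mat 2 F).det = 1 → g * g' = g' * g := by
    intro g hg g' hg' hd hd'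
    obtain ⟨r1, r2, r3⟩ := heq g hg hd
    obtain ⟨s1, s2, s3⟩ := heq g' hg' hd'
    set A := (g : Mat 2 F) 0 0
    set B := (g : Mat 2 F) 0 1
    set C := (g : Mat 2 F) 1 0
    set E := (g : Mat 2 F) 1 1
    set A' := (g' : Mat 2 F) 0 0
    set B' := (g' : Mat 2 F) 0 1
    set C' := (g' : Mat 2 F) 1 0
    set E' := (g' : Mat 2 F) 1 1
    have key : B * C' - B' * C = 0 ∧ (A - E) * B' - (A' - E') * B = 0 ∧ (A - E) * C' - (A' - E') * C = 0 := by
      by_cases hp0 : p = 0
      · by_cases hc0 : c = 0
        · have hb0 : b ≠ 0 := fun e => hD (by rw [hp0, e]; ring)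
          have h2 : (2 : F) ≠ 0 := fun e => hna ⟨hp0, hc0, e⟩
          have z : ∀ x : F, 2 * b * x = 0 → x = 0 := fun x hx =>
            (mul_eq_zero.1 hx).resolve_left (mul_ne_zero h2 hb0)
          have hC : C = 0 := z _ (by linear_combination r1 - (A - E) * hp0)
          have hB : B = 0 := z _ (by linear_combination r3 - (E - A) * hc0)
          have hC' : C' = 0 := z _ (by linear_combination s1 - (A' - E') * hp0)
          have hB' : B' = 0 := z _ (by linear_combination s3 - (E' - A') * hc0)
          simp [hB, hB', hC, hC']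
        · refine ⟨mul_left_cancel₀ hc0 ?_, mul_left_cancel₀ hc0 ?_, mul_left_cancel₀ hc0 ?_⟩
          · linear_combination B * s2 - B' * r2
          · linear_combination -B' * r3 + B * s3
          · linear_combination -C' * r3 + C * s3 + 2 * b * (mul_left_cancel₀ hc0 (show c * (B * C' - B' * C) = c * 0 by
              linear_combination B * s2 - B' * r2))
      · refine ⟨mul_left_cancel₀ hp0 ?_, mul_left_cancel₀ hp0 ?_, mul_left_cancel₀ hp0 ?_⟩
        · linear_combination C' * r2 - C * s2
        · linear_combination B' * r1 - B * s1 + 2 * b * (mul_left_cancel₀ hp0 (show p * (B * C' - B' * C) = p * 0 by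
            linear_combination C' * r2 - C * s2))
        · linear_combination C' * r1 - C * s1
    obtain ⟨k1, k2, k3⟩ := key
    refine Units.ext (Matrix.ext fun i j => ?_)
    fin_cases i <;> fin_cases j <;> simp [Matrix.mul_apply, Fin.sum_univ_two]
    · linear_combination k1
    · linear_combination k2
    · linear_combination -k3
    · linear_combination -k1
  have hdet : L ≤ (Matrix.GeneralLinearGroup.det : GL (Fin 2) F →* Fˣ).ker := by
    conv_lhs => rw [← hperf]
    rw [Subgroup.commutator_le]
    intro g _ g' _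
    rw [MonoidHom.mem_ker, map_commutatorElement, commutatorElement_eq_one_iff_mul_comm]
    exact mul_comm _ _
  rw [eq_bot_iff, ← hperf, Subgroup.commutator_le]
  intro g hg g' hg'
  rw [Subgroup.mem_bot, commutatorElement_eq_one_iff_mul_comm]
  exact hcomm g hg g' hg' (congrArg Units.val (MonoidHom.mem_ker.1 (hdet hg)))
    (congrArg Units.val (MonoidHom.mem_ker.1 (hdet hg')))

variable {n : ℕ} {Q : (Fin n → F) → F}

/-- A group preserving the tensor cube of a plane is reduced, or the form has plus type. -/
theorem cube_reduced (hQ : IsNondegenerateQuadraticForm Q) {H : Subgroup (GL (Fin n) F)} (hH : H ≤ omegaGL Q)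
    {e : Fin n ≃ (Fin 3 → Fin 2)} {P : GL (Fin n) F} {ε₁ : F} {f₁ : (Fin 2 → F) → (Fin 2 → F) → F}
    {L : Subgroup (GL (Fin 2) F)} (hf₁ : Herm (RingHom.id F) ε₁ f₁)
    (hT : IsTensorPowerFormStructure id (polar Q) f₁ e P) (hperf : ⁅L, L⁆ = L)
    (hL0 : ¬ L ≤ scalars (Fin 2) F) (hfix : FixesForm (matrixSet L) f₁)
    (hle : H ≤ tensorWreathSubgroup 2 3 e P) : Reduced Q H ∨ IsPlusTypeOn Q ⊤ := by
  classical
  have hb := hQ.polar_bilinear
  have hb₁ : IsBilinearForm f₁ :=
    ⟨hf₁.sesq.add_left, hf₁.sesq.smul_left, hf₁.sesq.add_right, hf₁.sesq.smul_right⟩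
  have hcard : n = 8 := by simpa using Fintype.card_congr e
  have hL : L ≠ ⊥ := fun h => hL0 (h ▸ bot_le)
  set G := gramMatrix f₁ with hG
  obtain ⟨c, hc, hform⟩ := hT
  let bs : (Fin 3 → Fin 2) → (Fin n → F) := fun a => (P : Mat n F) *ᵥ (Pi.single a 1 ∘ e)
  have hbs : ∀ a b, polar Q (bs a) (bs b) = c * ∏ i, G (a i) (b i) := fun a b => by
    rw [hform, Finset.sum_eq_single a (fun x _ hx => Finset.sum_eq_zero fun y _ => by
        rw [Pi.single_eq_of_ne hx, zero_mul, zero_mul]) fun h => absurd (Finset.mem_univ a) h,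
      Finset.sum_eq_single b (fun y _ hy => by
        rw [Pi.single_eq_of_ne hy, id_eq, mul_zero]) fun h => absurd (Finset.mem_univ b) h,
      Pi.single_eq_same, Pi.single_eq_same, one_mul, id_eq, mul_one]
  have hee : ε₁ * ε₁ = 1 := by simpa using hf₁.eps_mul two_pos
  have hGs : ∀ x y, G y x = ε₁ * G x y := fun x y => hf₁.symm _ _
  by_cases hsymm : ε₁ = 1
  · -- symmetrical factor
    by_cases hna : G 0 0 = 0 ∧ G 1 1 = 0 ∧ (2 : F) = 0
    swap
    · exact absurd (perfect_plane hb₁ (fun u v => by rw [hf₁.symm u v, hsymm, one_mul, RingHom.id_apply])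
        hf₁.nondeg hna hperf hfix) hL
    obtain ⟨hG0, hG1, h2⟩ := hna
    haveI : CharP F 2 := CharTwo.of_one_ne_zero_of_two_eq_zero one_ne_zero h2
    -- the products of three vectors
    let T : (Fin 3 → Fin 2 → F) → (Fin n → F) := fun u =>
      (P : Mat n F) *ᵥ ((fun a : Fin 3 → Fin 2 => ∏ i, u i (a i)) ∘ e)
    have hvec : ∀ z : (Fin 3 → Fin 2) → F, (P : Mat n F) *ᵥ (z ∘ e) = ∑ a, z a • bs a := by
      intro z
      simp only [bs, ← Matrix.mulVec_smul, ← Matrix.mulVec_sum]
      congr 1
      funext j
      simp [Finset.sum_apply, Pi.single_apply]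
    choose s hs using fun a => CfsgLib.Derangements.EvenForms.exists_sqrt (F := F) (Q (bs a))
    have hkey : ∀ u, Q (T u) = ∑ a : Fin 3 → Fin 2, (∏ i, u i (a i)) ^ 2 * Q (bs a) := by
      intro u
      -- linearity in one place at a time
      have step : ∀ (v : Fin 3 → Fin 2 → F) (k : Fin 3),
          Q (T v) = v k 0 ^ 2 * Q (T (Function.update v k (Pi.single 0 1))) +
            v k 1 ^ 2 * Q (T (Function.update v k (Pi.single 1 1))) := by
        intro v k
        have hprod : ∀ (w : Fin 2 → F) (a : Fin 3 → Fin 2),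
            ∏ i, Function.update v k w i (a i) = w (a k) * ∏ i ∈ Finset.univ.erase k, v i (a i) := fun w a => by
          rw [← Finset.mul_prod_erase Finset.univ _ (Finset.mem_univ k), Function.update_self]
          congr 1
          exact Finset.prod_congr rfl fun i hi => by rw [Function.update_of_ne (Finset.ne_of_mem_erase hi)]
        have hlin : T v = v k 0 • T (Function.update v k (Pi.single 0 1)) +
            v k 1 • T (Function.update v k (Pi.single 1 1)) := by
          simp only [T, ← Matrix.mulVec_smul, ← Matrix.mulVec_add]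
          congr 1
          funext j
          simp only [Function.comp_apply, Pi.add_apply, Pi.smul_apply, smul_eq_mul, hprod]
          rw [← Finset.mul_prod_erase Finset.univ _ (Finset.mem_univ k)]
          generalize ∏ i ∈ Finset.univ.erase k, v i (e j i) = R
          obtain h | h : e j k = 0 ∨ e j k = 1 := by
            rcases e j k with ⟨x, hx⟩
            rcases x with _ | _ | x
            · exact .inl rfl
            · exact .inr rfl
            · omega
          all_goals simp [h]
        have hcross : polar Q (T (Function.update v k (Pi.single 0 1)))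
            (T (Function.update v k (Pi.single 1 1))) = 0 := by
          obtain ⟨l, hl⟩ : ∃ l : Fin 3, l ≠ k := exists_ne k
          show polar Q ((P : Mat n F) *ᵥ _) ((P : Mat n F) *ᵥ _) = 0
          rw [hform, mul_eq_zero]
          right
          have e1 : ∀ u u' : Fin 3 → Fin 2 → F,
              ∑ a : Fin 3 → Fin 2, ∑ b : Fin 3 → Fin 2, (∏ i, u i (a i)) * (∏ i, G (a i) (b i)) * id (∏ i, u' i (b i)) =
                ∏ i, ∑ x, ∑ y, u i x * G x y * u' i y := fun u u' => by
            rw [Fintype.prod_sum]
            refine Finset.sum_congr rfl fun a _ => ?_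
            rw [Fintype.prod_sum]
            refine Finset.sum_congr rfl fun b _ => ?_
            rw [id_eq, Finset.prod_mul_distrib, Finset.prod_mul_distrib]
          rw [e1]
          refine Finset.prod_eq_zero (Finset.mem_univ l) ?_
          simp only [Function.update_of_ne hl, Fin.sum_univ_two, hG0, hG1, hGs 0 1, hsymm]
          linear_combination v l 0 * G 0 1 * v l 1 * h2
        rw [hlin, q_add hQ, q_smul hQ, q_smul hQ, hb.smul_left, hb.smul_right, hcross]
        ring
      have base : ∀ a : Fin 3 → Fin 2, T (fun i => Pi.single (a i) 1) = bs a := fun a => by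
        simp only [T, bs]
        congr 1
        funext j
        simp only [Function.comp_apply]
        by_cases h : e j = a
        · rw [h, Pi.single_eq_same]
          exact Finset.prod_eq_one fun i _ => by simp
        · obtain ⟨i, hi⟩ := Function.ne_iff.1 h
          rw [Pi.single_eq_of_ne h]
          exact Finset.prod_eq_zero (Finset.mem_univ i) (Pi.single_eq_of_ne hi _)
      have hupd : ∀ x y z : Fin 2, Function.update (Function.update (Function.update u 0 (Pi.single x 1)) 1
          (Pi.single y 1)) 2 (Pi.single z 1) = fun i => Pi.single (![x, y, z] i) 1 := fun x y z => by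
        funext i; fin_cases i <;> simp [Function.update]
      rw [step u 0, step (Function.update u 0 (Pi.single 0 1)) 1, step (Function.update u 0 (Pi.single 1 1)) 1]
      rw [step (Function.update (Function.update u 0 (Pi.single 0 1)) 1 (Pi.single 0 1)) 2,
        step (Function.update (Function.update u 0 (Pi.single 0 1)) 1 (Pi.single 1 1)) 2,
        step (Function.update (Function.update u 0 (Pi.single 1 1)) 1 (Pi.single 0 1)) 2,
        step (Function.update (Function.update u 0 (Pi.single 1 1)) 1 (Pi.single 1 1)) 2]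
      simp only [hupd, base]
      let E : Fin 2 × Fin 2 × Fin 2 ≃ (Fin 3 → Fin 2) :=
        { toFun := fun q => ![q.1, q.2.1, q.2.2]
          invFun := fun f => (f 0, f 1, f 2)
          left_inv := fun q => rfl
          right_inv := fun f => funext fun i => by fin_cases i <;> rfl }
      have hE : ∀ q, E q = ![q.1, q.2.1, q.2.2] := fun q => rfl
      rw [← E.sum_comp]
      simp [hE, Fintype.sum_prod_type, Fin.sum_univ_two, Fin.prod_univ_three]
      ring
    let φ : (Fin n → F) →ₗ[F] F :=
      LinearMap.comp (∑ a : Fin 3 → Fin 2, s a • (LinearMap.proj (R := F) (φ := fun _ : Fin n => F) (e.symm a)))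
        (Matrix.toLin' ((P⁻¹ : GL (Fin n) F) : Mat n F))
    have hφv : ∀ z : (Fin 3 → Fin 2) → F, φ ((P : Mat n F) *ᵥ (z ∘ e)) = ∑ a, s a * z a := fun z => by
      simp [φ, LinearMap.sum_apply, Matrix.mulVec_mulVec]
    have hφ : ∀ u, φ (T u) ^ 2 = Q (T u) := fun u => by
      rw [hkey, hφv, CharTwo.sum_sq]
      exact Finset.sum_congr rfl fun a _ => by rw [mul_pow, hs, mul_comm]
    have hbsT : ∀ a, bs a = T fun i => Pi.single (a i) 1 := fun a => by
      simp only [T, bs]
      congr 1
      funext j
      simp only [Function.comp_apply]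
      by_cases h : e j = a
      · rw [h, Pi.single_eq_same]
        exact (Finset.prod_eq_one fun i _ => by simp).symm
      · obtain ⟨i, hi⟩ := Function.ne_iff.1 h
        rw [Pi.single_eq_of_ne h]
        exact (Finset.prod_eq_zero (Finset.mem_univ i) (Pi.single_eq_of_ne hi _)).symm
    have hspan : ∀ x : Fin n → F, x = ∑ a, ((((P⁻¹ : GL (Fin n) F) : Mat n F) *ᵥ x) (e.symm a)) • bs a := fun x => by
      rw [← hvec (fun a => (((P⁻¹ : GL (Fin n) F) : Mat n F) *ᵥ x) (e.symm a))]
      rw [show ((fun a => (((P⁻¹ : GL (Fin n) F) : Mat n F) *ᵥ x) (e.symm a)) ∘ e) = ((P⁻¹ : GL (Fin n) F) : Mat n F) *ᵥ x from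
        funext fun j => by simp, Matrix.mulVec_mulVec, Units.mul_inv, Matrix.one_mulVec]
    by_cases hφ0 : φ = 0
    · -- the form vanishes on the products
      refine .inr ?_
      let κ := Fin 2 × Fin 2
      let g : (κ → F) →ₗ[F] (Fin n → F) := ∑ q : κ, (LinearMap.proj q).smulRight (bs ![0, q.1, q.2])
      have hgv : ∀ z, g z = ∑ q : κ, z q • bs ![0, q.1, q.2] := fun z => by simp [g, LinearMap.sum_apply]
      have hzero : ∀ a, Q (bs a) = 0 := fun a => by rw [hbsT, ← hφ, hφ0]; simp
      have horth : ∀ q q' : κ, polar Q (bs ![0, q.1, q.2]) (bs ![0, q'.1, q'.2]) = 0 := fun q q' => by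
        rw [hbs, mul_eq_zero]
        exact .inr (Finset.prod_eq_zero (Finset.mem_univ 0) (by simpa using hG0))
      have hinj : Function.Injective g := (injective_iff_map_eq_zero g).2 fun z hz => by
        funext q
        have h1 := congrArg (fun x => (((P⁻¹ : GL (Fin n) F) : Mat n F) *ᵥ x) (e.symm ![0, q.1, q.2])) hz
        rw [hgv] at h1
        simp only [Matrix.mulVec_zero, Pi.zero_apply, Matrix.mulVec_sum, Matrix.mulVec_smul, bs,
          Matrix.mulVec_mulVec, Units.inv_mul, Matrix.one_mulVec, Finset.sum_apply, Pi.smul_apply,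
          Function.comp_apply, Equiv.apply_symm_apply, smul_eq_mul] at h1
        rw [Finset.sum_eq_single q (fun q' _ hq' => by
          rw [Pi.single_eq_of_ne (fun e' => hq' (Prod.ext (by simpa using (congrFun e' 1).symm)
            (by simpa using (congrFun e' 2).symm))), mul_zero]) (by simp), Pi.single_eq_same, mul_one] at h1
        exact h1
      refine ⟨LinearMap.range g, le_top, ?_, ?_⟩
      · rintro _ ⟨z, rfl⟩
        rw [hgv]
        have key : ∀ S : Finset κ, Q (∑ q ∈ S, z q • bs ![0, q.1, q.2]) = 0 := by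
          intro S
          induction S using Finset.induction_on with
          | empty => simp [q_zero hQ]
          | insert q S hq ih =>
            have hz' : polar Q (z q • bs ![0, q.1, q.2]) (∑ q' ∈ S, z q' • bs ![0, q'.1, q'.2]) = 0 :=
              LinearMap.mem_ker.1 ((LinearMap.ker (polarBilin (qf hQ) (z q • bs ![0, q.1, q.2]))).sum_mem fun q' _ =>
                LinearMap.mem_ker.2 (show polar Q _ _ = 0 by
                  rw [hb.smul_left, hb.smul_right, horth, mul_zero, mul_zero]))
            rw [Finset.sum_insert hq, q_add hQ, q_smul hQ, hzero, ih, hz']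
            ring
        exact key _
      · rw [LinearMap.finrank_range_of_inj hinj, Module.finrank_pi, finrank_top, Module.finrank_fin_fun, hcard]
        simp [κ]
    refine .inl (reduced_of_functional hQ hH (by omega) hφ0 fun h hh v hv => ?_)
    -- products go to products
    have hpure : ∀ u, ∃ u', (h : Mat n F) *ᵥ T u = T u' := by
      intro u
      obtain ⟨_, ⟨w, hw, rfl⟩, hwh⟩ := hle hh
      obtain ⟨a, π, rfl⟩ := wreath_normal_form hw
      have hperm : ∀ z : Fin 3 → Fin 2 → F, (permUnit π : GL (Fin 3 → Fin 2) F).val *ᵥ (fun x => ∏ i, z i (x i)) =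
          fun x => ∏ i, z (π.symm i) (x i) := fun z => by
        funext x
        simp only [permUnit, Matrix.mulVec, dotProduct, Matrix.of_apply, ite_mul, one_mul, zero_mul,
          Finset.sum_ite_eq', Finset.mem_univ, if_true, Function.comp_apply]
        rw [← π.symm.prod_comp]
        simp
      have hpu : ∀ z : Fin 3 → Fin 2 → F, (pureUnit a : GL (Fin 3 → Fin 2) F).val *ᵥ (fun x => ∏ i, z i (x i)) =
          fun x => ∏ i, ((a i : Mat 2 F) *ᵥ z i) (x i) := fun z => by
        funext x
        simp only [pureUnit, pureT_apply, Matrix.mulVec, dotProduct, Finset.prod_univ_sum, Fintype.piFinset_univ,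
          Finset.prod_mul_distrib]
      refine ⟨fun i => (a i : Mat 2 F) *ᵥ u (π.symm i), ?_⟩
      rw [← hwh]
      simp only [MulEquiv.coe_toMonoidHom, MulAut.conj_apply, Units.val_mul, T]
      rw [Matrix.mulVec_mulVec, Matrix.mul_assoc, ← Units.val_mul P⁻¹, inv_mul_cancel, Units.val_one, Matrix.mul_one,
        ← Matrix.mulVec_mulVec]
      congr 1
      show (Matrix.reindexAlgEquiv F F e.symm (pureUnit a * permUnit π : GL (Fin 3 → Fin 2) F).val) *ᵥ _ = _
      rw [Matrix.reindexAlgEquiv_apply, Matrix.reindex_apply, Units.val_mul]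
      rw [Matrix.submatrix_mulVec_equiv, Function.comp_assoc, Equiv.symm_symm, Equiv.self_comp_symm, Function.comp_id,
        ← Matrix.mulVec_mulVec, hperm, hpu]
      first | rfl | simp
    have heq : φ.comp (Matrix.toLin' (h : Mat n F)) = φ := by
      refine LinearMap.ext fun x => ?_
      rw [hspan x]
      simp only [map_sum, map_smul]
      refine Finset.sum_congr rfl fun a _ => ?_
      congr 1
      rw [hbsT, LinearMap.comp_apply, Matrix.toLin'_apply]
      obtain ⟨u', hu'⟩ := hpure fun i => Pi.single (a i) 1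
      refine CharTwo.sq_injective (?_ : _ ^ 2 = _ ^ 2)
      rw [hu', hφ, hφ, ← hu', omega_isometry (hH hh)]
    have := LinearMap.congr_fun heq v
    rw [LinearMap.comp_apply, Matrix.toLin'_apply, hv] at this
    exact this
  · -- alternating factor in odd characteristic
    exfalso
    have hε : ε₁ = -1 := (mul_self_eq_one_iff.1 hee).resolve_left hsymm
    have h2 : (2 : F) ≠ 0 := fun h2 => hsymm (by rw [hε]; linear_combination -h2)
    have hzero : ∀ a b, polar Q (bs a) (bs b) = 0 := fun a b => by
      have h1 : polar Q (bs b) (bs a) = -polar Q (bs a) (bs b) := by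
        rw [hbs, hbs]
        simp only [Fin.prod_univ_three, hGs (a _) (b _), hε]
        ring
      rw [b_comm hQ] at h1
      exact (mul_eq_zero.1 (show (2 : F) * polar Q (bs a) (bs b) = 0 by linear_combination h1)).resolve_left h2
    let a₀ : Fin 3 → Fin 2 := fun _ => 0
    have hne : bs a₀ ≠ 0 := fun h0 => by
      have h1 := congrArg (fun x => (((P⁻¹ : GL (Fin n) F) : Mat n F) *ᵥ x) (e.symm a₀)) h0
      simp [bs, Matrix.mulVec_mulVec] at h1
    obtain ⟨-, x, hx⟩ := hQ.nondegenerate _ hne
    apply hx
    have hx' : x = ∑ a, ((((P⁻¹ : GL (Fin n) F) : Mat n F) *ᵥ x) (e.symm a)) • bs a := by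
      simp only [bs, ← Matrix.mulVec_smul, ← Matrix.mulVec_sum]
      rw [show ∑ a, ((((P⁻¹ : GL (Fin n) F) : Mat n F) *ᵥ x) (e.symm a)) • (Pi.single a 1 ∘ e) =
        ((P⁻¹ : GL (Fin n) F) : Mat n F) *ᵥ x from funext fun j => by
          simp [Finset.sum_apply, Pi.single_apply], Matrix.mulVec_mulVec, Units.mul_inv, Matrix.one_mulVec]
    exact LinearMap.mem_ker.1 (hx' ▸ (LinearMap.ker (polarBilin (qf hQ) (bs a₀))).sum_mem fun a _ =>
      Submodule.smul_mem _ _ (LinearMap.mem_ker.2 (hzero a₀ a)))

end CfsgLib.Classical.OrthEven
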