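import Cfsg.Agent.Lib.Classical.OrthEven.Fields

/-!
# A skew element whose square is a scalar
-/

set_option autoImplicit false
set_option linter.unusedSectionVars false

namespace CfsgLib.Classical.OrthEven

open Matrix Cfsg Cfsg.Geo QuadraticMap CfsgLib.Orth CfsgLib.Classical CfsgLib.Classical.AschPrime
  CfsgLib.Classical.AschForm
open scoped MatrixGroups

variable {F : Type*} [Field F] [Fintype F] {n : ℕ} {Q : (Fin n → F) → F}

/-- A group that fixes or negates a skew square root of a scalar normalises a quadratic field, or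
permutes two totally singular halves. -/
theorem skew_square (hQ : IsNondegenerateQuadraticForm Q) (hn : 2 ≤ n) (h2 : (2 : F) ≠ 0)
    {H : Subgroup (GL (Fin n) F)} {J : Mat n F} {d : F} (hd : d ≠ 0) (hJJ : J * J = d • (1 : Mat n F))
    (hJ : ∀ u v, polar Q (J *ᵥ u) v = -polar Q u (J *ᵥ v))
    (hconj : ∀ h ∈ H, (h : Mat n F) * J = J * (h : Mat n F) ∨ (h : Mat n F) * J = -(J * (h : Mat n F))) :
    (∃ K : Subalgebra F (Mat n F), IsFieldSubalgebra 2 K ∧ IsAdjointClosedFor (polar Q) K ∧
      ¬ IsSelfAdjointFor (polar Q) K ∧ H ≤ subalgebraNormalizer K) ∨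
    (∃ (k : ℕ) (D : Fin 2 → Submodule F (Fin n → F)), 2 * k = n ∧ IsMDecomposition k D ∧
      (∀ i, IsTotallySingularQuad Q (D i)) ∧ H ≤ decompositionStabilizer D) := by
  classical
  haveI : NeZero n := ⟨by omega⟩
  have hb := hQ.polar_bilinear
  have hf := herm hQ
  by_cases hsq : IsSquare d
  · -- the two eigenspaces
    right
    obtain ⟨s, rfl⟩ := hsq
    have hs : s ≠ 0 := fun e => hd (by rw [e, mul_zero])
    let E : F → Submodule F (Fin n → F) := fun t => LinearMap.ker (Matrix.toLin' J - t • LinearMap.id)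
    have hE : ∀ t v, v ∈ E t ↔ J *ᵥ v = t • v := fun t v => by simp [E, LinearMap.mem_ker, sub_eq_zero]
    have hts : ∀ t, t ≠ 0 → IsTotallySingularQuad Q (E t) := by
      intro t ht v hv
      have h := hJ v v
      rw [(hE t v).1 hv, hb.smul_left, hb.smul_right, b_self hQ] at h
      have : (2 * t) * (2 * Q v) = 0 := by linear_combination h
      exact (mul_eq_zero.1 ((mul_eq_zero.1 this).resolve_left (mul_ne_zero h2 ht))).resolve_left h2
    have hns : (-s) ≠ 0 := neg_ne_zero.2 hs
    have hdisj : E s ⊓ E (-s) = ⊥ := by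
      rw [Submodule.eq_bot_iff]
      rintro v ⟨h1, h1'⟩
      have e := ((hE _ _).1 h1).symm.trans ((hE _ _).1 h1')
      have : (2 * s) • v = 0 := by
        rw [two_mul, add_smul]
        nth_rewrite 2 [e]
        rw [neg_smul, add_neg_cancel]
      exact (smul_eq_zero.1 this).resolve_left (mul_ne_zero h2 hs)
    have htop : E s ⊔ E (-s) = ⊤ := by
      refine eq_top_iff.2 fun v _ => ?_
      have hJJv : J *ᵥ (J *ᵥ v) = (s * s) • v := by
        rw [Matrix.mulVec_mulVec, hJJ, Matrix.smul_mulVec, Matrix.one_mulVec]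
      have e : v = (2 * s)⁻¹ • (s • v + J *ᵥ v) + (2 * s)⁻¹ • (s • v - J *ᵥ v) := by
        rw [← smul_add, show s • v + J *ᵥ v + (s • v - J *ᵥ v) = (2 * s) • v by module, smul_smul,
          inv_mul_cancel₀ (mul_ne_zero h2 hs), one_smul]
      rw [e]
      refine Submodule.add_mem_sup (Submodule.smul_mem _ _ ((hE _ _).2 ?_)) (Submodule.smul_mem _ _ ((hE _ _).2 ?_))
      · rw [Matrix.mulVec_add, Matrix.mulVec_smul, hJJv]; module
      · rw [Matrix.mulVec_sub, Matrix.mulVec_smul, hJJv]; module
    have hsum := Submodule.finrank_sup_add_finrank_inf_eq (E s) (E (-s))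
    rw [hdisj, htop, finrank_bot, finrank_top, Module.finrank_fin_fun] at hsum
    have h1 := singular_finrank_le (qf_nondeg hQ) (E s) (hts s hs)
    have h3 := singular_finrank_le (qf_nondeg hQ) (E (-s)) (hts _ hns)
    rw [Module.finrank_fin_fun] at h1 h3
    refine ⟨Module.finrank F (E s), ![E s, E (-s)], by omega, ⟨le_rfl, by omega, fun i => ?_, ?_, ?_⟩,
      fun i => ?_, fun h hh => ?_⟩
    · fin_cases i
      · rfl
      · show Module.finrank F (E (-s)) = Module.finrank F (E s); omega
    · rw [iSupIndep_pair (i := 0) (j := 1) (by decide) (fun k => by fin_cases k <;> simp)]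
      exact disjoint_iff.mpr hdisj
    · rw [eq_top_iff, ← htop]
      exact sup_le (le_iSup ![E s, E (-s)] 0) (le_iSup ![E s, E (-s)] 1)
    · fin_cases i
      · exact hts s hs
      · exact hts _ hns
    · have hmap : ∀ (t u : F), (∀ v : Fin n → F, J *ᵥ v = t • v → J *ᵥ ((h : Mat n F) *ᵥ v) = u • ((h : Mat n F) *ᵥ v)) →
          Module.finrank F (E t) = Module.finrank F (E u) →
          (E t).map (Matrix.toLin' (h : Mat n F)) = E u := by
        intro t u hv hd'
        refine Submodule.eq_of_le_of_finrank_eq ?_ ?_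
        · rintro _ ⟨v, hv', rfl⟩
          exact (hE _ _).2 (hv v ((hE _ _).1 hv'))
        · exact (Submodule.equivMapOfInjective _ (Matrix.mulVec_injective_iff_isUnit.2 h.isUnit) _
            ).finrank_eq.symm.trans hd'
      rcases hconj h hh with hc | hc
      · refine ⟨1, fun i => ?_⟩
        have : ∀ (t : F) (v : Fin n → F), J *ᵥ v = t • v →
            J *ᵥ ((h : Mat n F) *ᵥ v) = t • ((h : Mat n F) *ᵥ v) := fun t v hv => by
          rw [Matrix.mulVec_mulVec, ← hc, ← Matrix.mulVec_mulVec, hv, Matrix.mulVec_smul]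
        fin_cases i
        · exact hmap _ _ (this s) rfl
        · exact hmap _ _ (this _) rfl
      · refine ⟨Equiv.swap 0 1, fun i => ?_⟩
        have : ∀ (t : F) (v : Fin n → F), J *ᵥ v = t • v →
            J *ᵥ ((h : Mat n F) *ᵥ v) = (-t) • ((h : Mat n F) *ᵥ v) := fun t v hv => by
          rw [Matrix.mulVec_mulVec, show J * (h : Mat n F) = -((h : Mat n F) * J) by rw [hc, neg_neg],
            Matrix.neg_mulVec, ← Matrix.mulVec_mulVec, hv, Matrix.mulVec_smul, neg_smul]
        fin_cases i
        · exact hmap _ _ (this s) (by omega)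
        · exact hmap (-s) s (fun v hv => by rw [this (-s) v hv, neg_neg]) (by omega)
  -- the field generated by `J`
  left
  let Lmap : F × F →ₗ[F] Mat n F :=
    (LinearMap.fst F F F).smulRight (1 : Mat n F) + (LinearMap.snd F F F).smulRight J
  have hLmap : ∀ x y, Lmap (x, y) = x • (1 : Mat n F) + y • J := fun x y => rfl
  have hmul : ∀ x y x' y', Lmap (x, y) * Lmap (x', y') = Lmap (x * x' + d * (y * y'), x * y' + y * x') := by
    intro x y x' y'
    simp only [hLmap, add_mul, mul_add, Matrix.smul_mul, Matrix.mul_smul, one_mul, mul_one, hJJ, smul_smul]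
    module
  have hinj : Function.Injective Lmap := (injective_iff_map_eq_zero _).2 fun ⟨x, y⟩ h => by
    rw [hLmap] at h
    by_cases hy : y = 0
    · subst hy
      have := congrFun (congrFun h 0) 0
      simp at this
      simp [this]
    · exfalso
      refine hsq ⟨-(x / y), ?_⟩
      have hJ' : J = (-(x / y)) • (1 : Mat n F) := by
        have := congrArg (fun X : Mat n F => y⁻¹ • X) h
        simp only [smul_add, smul_smul, inv_mul_cancel₀ hy, one_smul, smul_zero] at this
        rw [eq_neg_of_add_eq_zero_right this, neg_smul, div_eq_inv_mul]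
      have := congrFun (congrFun hJJ 0) 0
      rw [hJ'] at this
      simp only [Matrix.smul_mul, Matrix.mul_smul, mul_one, smul_smul, Matrix.smul_apply, Matrix.one_apply_eq,
        smul_eq_mul] at this
      exact this.symm
  let K : Subalgebra F (Mat n F) := Submodule.toSubalgebra (LinearMap.range Lmap)
    ⟨(1, 0), by simp [hLmap]⟩ (by rintro _ _ ⟨⟨x, y⟩, rfl⟩ ⟨⟨x', y'⟩, rfl⟩; exact ⟨_, (hmul x y x' y').symm⟩)
  have hK : ∀ X, X ∈ K ↔ ∃ x y : F, Lmap (x, y) = X := fun X =>
    ⟨fun ⟨⟨x, y⟩, h⟩ => ⟨x, y, h⟩, fun ⟨x, y, h⟩ => ⟨(x, y), h⟩⟩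
  have hadj : ∀ x y u v, polar Q (Lmap (x, y) *ᵥ u) v = polar Q u (Lmap (x, -y) *ᵥ v) := by
    intro x y u v
    simp only [hLmap, Matrix.add_mulVec, Matrix.smul_mulVec, Matrix.one_mulVec, hb.add_left, hb.add_right,
      hb.smul_left, hb.smul_right, hJ]
    ring
  refine ⟨K, ⟨?_, ?_, ?_⟩, fun k hk => ?_, fun hs => ?_, fun h hh k => ?_⟩
  · rintro X hX Y hY
    obtain ⟨x, y, rfl⟩ := (hK X).1 hX
    obtain ⟨x', y', rfl⟩ := (hK Y).1 hY
    rw [hmul, hmul]; congr 2 <;> ring
  · intro X hX hX0
    obtain ⟨x, y, rfl⟩ := (hK X).1 hX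
    have hN : x * x - d * (y * y) ≠ 0 := by
      intro e
      by_cases hy : y = 0
      · subst hy
        refine hX0 ?_
        rw [show x = 0 from mul_self_eq_zero.1 (by linear_combination e), ← map_zero Lmap]
        rfl
      · exact hsq ⟨x / y, by field_simp; linear_combination -e⟩
    refine ⟨Lmap (x / (x * x - d * (y * y)), -y / (x * x - d * (y * y))), (hK _).2 ⟨_, _, rfl⟩, ?_⟩
    rw [hmul, show x * (x / (x * x - d * (y * y))) + d * (y * (-y / (x * x - d * (y * y)))) = 1 by
        rw [show x * (x / (x * x - d * (y * y))) + d * (y * (-y / (x * x - d * (y * y)))) =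
          (x * x - d * (y * y)) / (x * x - d * (y * y)) by ring, div_self hN],
      show x * (-y / (x * x - d * (y * y))) + y * (x / (x * x - d * (y * y))) = 0 by field_simp; ring]
    simp [hLmap]
  · change Module.finrank F (LinearMap.range Lmap) = 2
    rw [LinearMap.finrank_range_of_inj hinj, Module.finrank_prod, Module.finrank_self]
  · obtain ⟨x, y, rfl⟩ := (hK k).1 hk
    exact ⟨_, (hK _).2 ⟨x, -y, rfl⟩, hadj x y⟩
  · have e := (hf.adj_unique (hs _ ((hK _).2 ⟨0, 1, rfl⟩))).symm.trans (hf.adj_unique (hadj 0 1))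
    have h' := (Prod.ext_iff.1 (hinj e)).2
    exact h2 (by linear_combination h')
  · have key : ∀ g ∈ H, ∀ X ∈ K, (g : Mat n F) * X * ((g⁻¹ : GL (Fin n) F) : Mat n F) ∈ K := by
      intro g hg X hX
      obtain ⟨x, y, rfl⟩ := (hK X).1 hX
      rcases hconj g hg with hc | hc
      · refine (hK _).2 ⟨x, y, ?_⟩
        simp [hLmap, mul_add, add_mul, hc, mul_assoc]
      · refine (hK _).2 ⟨x, -y, ?_⟩
        simp [hLmap, mul_add, add_mul, hc, mul_assoc]
    refine ⟨key h hh k, fun hX => ?_⟩
    have := key h⁻¹ (H.inv_mem hh) _ hX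
    simpa [mul_assoc] using this

end CfsgLib.Classical.OrthEven
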