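import Cfsg.Agent.Lib.Classical.OrthEven.Rational
import Cfsg.Agent.Lib.Classical.OrthEven.Fields
import Cfsg.Agent.Lib.Classical.OrthEven.Skew
import Cfsg.Agent.Lib.Classical.AschGen.SymTypeProps

/-!
# Subfield groups, and groups of symplectic type on an eight-dimensional space
-/

set_option autoImplicit false
set_option linter.unusedSectionVars false

namespace CfsgLib.Classical.OrthEven

open Matrix Cfsg Cfsg.Geo QuadraticMap CfsgLib.Orth CfsgLib.Classical CfsgLib.Classical.AschPrime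
  CfsgLib.Classical.AschForm CfsgLib.Classical.AschGen
open scoped MatrixGroups

variable {F : Type*} [Field F] [Fintype F] {n : ℕ} {Q : (Fin n → F) → F} (hQ : IsNondegenerateQuadraticForm Q)
  {H : Subgroup (GL (Fin n) F)} (hH : H ≤ omegaGL Q)
include hQ hH

/-- A rational structure of the polar form carries a multiple of the quadratic form, for an irreducible group. -/
theorem quad_rational (hn : 2 ≤ n) {F₀ : Subfield F} {c : F} (hc : c ≠ 0) {P : GL (Fin n) F}
    (hP : IsFormRationalStructure (polar Q) F₀ c P) (hirr : ActsIrreducibly (matrixSet H))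
    (hle : H ≤ subfieldSubgroup F₀ P) : IsQuadFormRationalStructure (fun v => c * Q v) F₀ P := by
  classical
  intro u hu
  show c * Q _ ∈ F₀
  by_cases h2 : (2 : F) = 0
  swap
  · have h := hP u u hu hu
    rw [b_self hQ] at h
    have h2m : (2 : F)⁻¹ ∈ F₀ := F₀.inv_mem (by exact_mod_cast natCast_mem F₀ 2)
    have := F₀.mul_mem h2m h
    rwa [mul_left_comm c, inv_mul_cancel_left₀ h2] at this
  haveI : CharP F 2 := CharTwo.of_one_ne_zero_of_two_eq_zero one_ne_zero h2
  haveI : Fintype F₀ := Fintype.ofFinite _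
  obtain ⟨τ, hτ⟩ := exists_frob_fixed F₀
  let ψ : (Fin n → F₀) → F := fun w => τ (c * Q ((P : Mat n F) *ᵥ fun i => (w i : F))) -
    c * Q ((P : Mat n F) *ᵥ fun i => (w i : F))
  have hadd : ∀ w w', ψ (w + w') = ψ w + ψ w' := by
    intro w w'
    have e : ((P : Mat n F) *ᵥ fun i => ((w + w') i : F)) =
        ((P : Mat n F) *ᵥ fun i => (w i : F)) + (P : Mat n F) *ᵥ fun i => (w' i : F) := by
      rw [← Matrix.mulVec_add]; rfl
    have hm := (hτ _).mpr (hP _ _ (fun i => (w i).2) (fun i => (w' i).2))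
    simp only [ψ, e, q_add hQ, mul_add, map_add, hm]
    ring
  have hsmul : ∀ (a : F₀) w, ψ (a • w) = (a : F) * a * ψ w := by
    intro a w
    have e : ((P : Mat n F) *ᵥ fun i => ((a • w) i : F)) = (a : F) • ((P : Mat n F) *ᵥ fun i => (w i : F)) := by
      rw [← Matrix.mulVec_smul]; rfl
    simp only [ψ, e, q_smul hQ, map_mul, (hτ _).mpr a.2]
    ring
  choose s hs using fun w => CfsgLib.Derangements.EvenForms.exists_sqrt (F := F) (ψ w)
  let φ : (Fin n → F) →ₗ[F] F :=
    (∑ i, (s (Pi.single i 1)) • (LinearMap.proj (R := F) (φ := fun _ : Fin n => F) i)).comp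
      (Matrix.toLin' ((P⁻¹ : GL (Fin n) F) : Mat n F))
  have hφ : ∀ w : Fin n → F₀, φ ((P : Mat n F) *ᵥ fun i => (w i : F)) ^ 2 = ψ w := by
    intro w
    have hsum : ∀ S : Finset (Fin n), ψ (∑ i ∈ S, w i • Pi.single i 1) = ∑ i ∈ S, ((w i : F) * s (Pi.single i 1)) ^ 2 := by
      intro S
      induction S using Finset.induction_on with
      | empty =>
        have := hsmul 0 0
        simpa using this
      | insert i S hi ih => rw [Finset.sum_insert hi, Finset.sum_insert hi, hadd, hsmul, ih, mul_pow, hs]; ring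
    conv_rhs => rw [pi_eq_sum_univ' w, hsum, ← CharTwo.sum_sq]
    congr 1
    simp [φ, Matrix.mulVec_mulVec, LinearMap.sum_apply, mul_comm]
  suffices h0 : φ = 0 by
    let w : Fin n → F₀ := fun i => ⟨u i, hu i⟩
    refine (hτ _).mp (sub_eq_zero.1 (show ψ w = 0 from ?_))
    rw [← hφ, h0]; simp
  by_contra h0
  -- the kernel of `φ` would be invariant
  have hn0 : 0 < n := by omega
  have hinv : ∀ h ∈ H, ∀ v, φ ((h : Mat n F) *ᵥ v) = φ v := by
    intro h hh v
    obtain ⟨d, hd, hmem⟩ := (CfsgLib.Classical.SubfieldMax.mem_subfieldSubgroup_iff F₀ P h).1 (hle hh)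
    -- the multiplier lies in the subfield
    obtain ⟨x₀, hx₀⟩ : ∃ x₀ : (Fin n → F₀) × (Fin n → F₀),
        polar Q ((P : Mat n F) *ᵥ fun i => (x₀.1 i : F)) ((P : Mat n F) *ᵥ fun i => (x₀.2 i : F)) ≠ 0 := by
      by_contra hall
      push Not at hall
      obtain ⟨-, x, hx⟩ := hQ.nondegenerate ((P : Mat n F) *ᵥ Pi.single ⟨0, hn0⟩ 1) (fun e => by
        simpa using congrFun (Matrix.mulVec_injective_iff_isUnit.2 P.isUnit (e.trans (Matrix.mulVec_zero _).symm)) ⟨0, hn0⟩)
      apply hx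
      have hbas : ∀ i j : Fin n, polar Q ((P : Mat n F) *ᵥ Pi.single i 1) ((P : Mat n F) *ᵥ Pi.single j 1) = 0 := by
        intro i j
        have hsing : ∀ k : Fin n, (fun l => ((Pi.single k 1 : Fin n → F₀) l : F)) = Pi.single k 1 := fun k => by
          funext l; by_cases h : l = k
          · subst h; simp
          · simp [Pi.single_eq_of_ne h]
        simpa [hsing] using hall (Pi.single i 1, Pi.single j 1)
      have e : x = ∑ j, (((P⁻¹ : GL (Fin n) F) : Mat n F) *ᵥ x) j • ((P : Mat n F) *ᵥ Pi.single j 1) := by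
        simp only [← Matrix.mulVec_smul, ← Matrix.mulVec_sum, ← pi_eq_sum_univ']
        rw [Matrix.mulVec_mulVec, Units.mul_inv, Matrix.one_mulVec]
      rw [e]
      exact LinearMap.mem_ker.1 ((LinearMap.ker (polarBilin (qf hQ) ((P : Mat n F) *ᵥ Pi.single ⟨0, hn0⟩ 1))).sum_mem
        fun j _ => Submodule.smul_mem _ _ (LinearMap.mem_ker.2 (hbas _ j)))
    let A : Mat n F := d • ((P⁻¹ * h * P : GL (Fin n) F) : Mat n F)
    have hA : ∀ i j, A i j ∈ F₀ := hmem
    have hAu : ∀ w : Fin n → F₀, ∀ i, (A *ᵥ fun k => (w k : F)) i ∈ F₀ := fun w i => by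
      simp only [Matrix.mulVec, dotProduct]
      exact F₀.sum_mem fun k _ => F₀.mul_mem (hA i k) (w k).2
    have hPA : ∀ x, (h : Mat n F) *ᵥ ((P : Mat n F) *ᵥ x) = d⁻¹ • ((P : Mat n F) *ᵥ (A *ᵥ x)) := fun x => by
      rw [show A *ᵥ x = d • (((P⁻¹ * h * P : GL (Fin n) F) : Mat n F) *ᵥ x) from Matrix.smul_mulVec _ _ _,
        Matrix.mulVec_smul, inv_smul_smul₀ hd, Matrix.mulVec_mulVec, Matrix.mulVec_mulVec, ← Units.val_mul,
        ← Units.val_mul, show P * (P⁻¹ * h * P) = h * P by group]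
    have hd2 : d * d ∈ F₀ := by
      have e1 := polar_of_isometry (omega_isometry (hH hh)) ((P : Mat n F) *ᵥ fun i => (x₀.1 i : F))
        ((P : Mat n F) *ᵥ fun i => (x₀.2 i : F))
      rw [hPA, hPA, hQ.polar_bilinear.smul_left, hQ.polar_bilinear.smul_right] at e1
      set X := polar Q ((P : Mat n F) *ᵥ fun i => (x₀.1 i : F)) ((P : Mat n F) *ᵥ fun i => (x₀.2 i : F)) with hX
      set Y := polar Q ((P : Mat n F) *ᵥ (A *ᵥ fun i => (x₀.1 i : F))) ((P : Mat n F) *ᵥ (A *ᵥ fun i => (x₀.2 i : F))) with hY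
      have eY : c * Y ∈ F₀ := hP _ _ (hAu _) (hAu _)
      have eX : c * X ∈ F₀ := hP _ _ (fun i => (x₀.1 i).2) (fun i => (x₀.2 i).2)
      have e3 := F₀.mul_mem eY (F₀.inv_mem eX)
      have e2 : Y = d * d * X := by rw [← e1]; field_simp
      rwa [e2, show c * (d * d * X) * (c * X)⁻¹ = d * d by field_simp] at e3
    have hdF : d ∈ F₀ := by
      refine (hτ d).1 (CharTwo.sq_injective ?_)
      show τ d ^ 2 = d ^ 2
      rw [← map_pow, pow_two, (hτ _).mpr hd2]
    have key : ∀ w : Fin n → F₀, φ ((h : Mat n F) *ᵥ ((P : Mat n F) *ᵥ fun i => (w i : F))) =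
        φ ((P : Mat n F) *ᵥ fun i => (w i : F)) := by
      intro w
      let w' : Fin n → F₀ := fun i => ⟨d⁻¹ * (A *ᵥ fun k => (w k : F)) i, F₀.mul_mem (F₀.inv_mem hdF) (hAu w i)⟩
      have e : (h : Mat n F) *ᵥ ((P : Mat n F) *ᵥ fun i => (w i : F)) = (P : Mat n F) *ᵥ fun i => (w' i : F) := by
        rw [hPA, ← Matrix.mulVec_smul]; rfl
      refine CharTwo.sq_injective (?_ : _ ^ 2 = _ ^ 2)
      rw [e, hφ, hφ]
      simp only [ψ, ← e, omega_isometry (hH hh)]
    have hsing : ∀ k : Fin n, (fun l => ((Pi.single k 1 : Fin n → F₀) l : F)) = Pi.single k 1 := fun k => by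
      funext l; by_cases h : l = k
      · subst h; simp
      · simp [Pi.single_eq_of_ne h]
    have e : v = ∑ j, (((P⁻¹ : GL (Fin n) F) : Mat n F) *ᵥ v) j • ((P : Mat n F) *ᵥ Pi.single j 1) := by
      simp only [← Matrix.mulVec_smul, ← Matrix.mulVec_sum, ← pi_eq_sum_univ']
      rw [Matrix.mulVec_mulVec, Units.mul_inv, Matrix.one_mulVec]
    rw [e, Matrix.mulVec_sum, map_sum, map_sum]
    refine Finset.sum_congr rfl fun j _ => ?_
    rw [Matrix.mulVec_smul, map_smul, map_smul, ← hsing j, key]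
  have hr := φ.finrank_range_add_finrank_ker
  have hr' := (LinearMap.range φ).finrank_le
  rw [Module.finrank_fin_fun] at hr
  rw [Module.finrank_self] at hr'
  rcases irr_iff.mp hirr (LinearMap.ker φ) (by
    rintro _ ⟨h, hh, rfl⟩ v hv
    exact LinearMap.mem_ker.2 ((hinv h hh v).trans (LinearMap.mem_ker.1 hv))) with h | h
  · rw [h, finrank_bot] at hr; omega
  · exact h0 (LinearMap.ker_eq_top.1 h)

omit hH in
/-- A skew element with scalar square on an eight-dimensional space forces plus type. -/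
theorem plus_of_skew (hn : n = 8) (h2 : (2 : F) ≠ 0) {X : Mat n F} {d : F} (hd : d ≠ 0)
    (hXX : X * X = d • (1 : Mat n F)) (hX : ∀ u v, polar Q (X *ᵥ u) v = -polar Q u (X *ᵥ v)) :
    IsPlusTypeOn Q ⊤ := by
  classical
  have hb := hQ.polar_bilinear
  have hXX' : ∀ v, X *ᵥ (X *ᵥ v) = d • v := fun v => by
    rw [Matrix.mulVec_mulVec, hXX, Matrix.smul_mulVec, Matrix.one_mulVec]
  by_cases hsq : IsSquare d
  · rcases skew_square hQ (H := (⊥ : Subgroup (GL (Fin n) F))) (by omega) h2 hd hXX hX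
      (fun h hh => .inl (by rw [(Subgroup.mem_bot.1 hh)]; simp)) with ⟨K, hK, -, -, -⟩ | ⟨k, D, hk, hD, hts, -⟩
    · -- not possible but harmless: use the eigenspaces
      obtain ⟨s, hs⟩ := hsq
      have hs0 : s ≠ 0 := fun e => hd (by rw [hs, e, mul_zero])
      let E : F → Submodule F (Fin n → F) := fun t => LinearMap.ker (Matrix.toLin' X - t • LinearMap.id)
      have hE : ∀ t v, v ∈ E t ↔ X *ᵥ v = t • v := fun t v => by simp [E, LinearMap.mem_ker, sub_eq_zero]
      have hts : ∀ t, t ≠ 0 → IsTotallySingularQuad Q (E t) := by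
        intro t ht v hv
        have h := hX v v
        rw [(hE t v).1 hv, hb.smul_left, hb.smul_right, b_self hQ] at h
        have : (2 * t) * (2 * Q v) = 0 := by linear_combination h
        exact (mul_eq_zero.1 ((mul_eq_zero.1 this).resolve_left (mul_ne_zero h2 ht))).resolve_left h2
      have htop : E s ⊔ E (-s) = ⊤ := by
        refine eq_top_iff.2 fun v _ => ?_
        have e : v = (2 * s)⁻¹ • (s • v + X *ᵥ v) + (2 * s)⁻¹ • (s • v - X *ᵥ v) := by
          rw [← smul_add, show s • v + X *ᵥ v + (s • v - X *ᵥ v) = (2 * s) • v by module, smul_smul,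
            inv_mul_cancel₀ (mul_ne_zero h2 hs0), one_smul]
        rw [e]
        refine Submodule.add_mem_sup (Submodule.smul_mem _ _ ((hE _ _).2 ?_)) (Submodule.smul_mem _ _ ((hE _ _).2 ?_))
        · rw [Matrix.mulVec_add, Matrix.mulVec_smul, hXX', hs]; module
        · rw [Matrix.mulVec_sub, Matrix.mulVec_smul, hXX', hs]; module
      have h1 := singular_finrank_le (qf_nondeg hQ) (E s) (hts s hs0)
      have h3 := singular_finrank_le (qf_nondeg hQ) (E (-s)) (hts _ (neg_ne_zero.2 hs0))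
      have h4 := Submodule.finrank_sup_add_finrank_inf_eq (E s) (E (-s))
      rw [htop, finrank_top] at h4
      rw [Module.finrank_fin_fun] at h1 h3 h4
      exact ⟨E s, le_top, hts s hs0, by rw [finrank_top, Module.finrank_fin_fun]; omega⟩
    · exact ⟨D 0, le_top, hts 0, by rw [finrank_top, Module.finrank_fin_fun, hD.finrank_eq 0, hk]⟩
  -- the nonsplit case
  have hpair : ∀ u, Q u = 0 → Q (X *ᵥ u) = 0 ∧ polar Q u (X *ᵥ u) = 0 := by
    intro u hu
    have a := hX u (X *ᵥ u)
    rw [hXX', b_self hQ, hb.smul_right, b_self hQ, hu] at a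
    refine ⟨(mul_eq_zero.1 (show (2 : F) * Q (X *ᵥ u) = 0 by linear_combination a)).resolve_left h2, ?_⟩
    have b := hX u u
    rw [b_comm hQ] at b
    exact (mul_eq_zero.1 (show (2 : F) * polar Q u (X *ᵥ u) = 0 by linear_combination b)).resolve_left h2
  have hnons : ∀ u : Fin n → F, u ≠ 0 → ∀ a b : F, a • u + b • (X *ᵥ u) = 0 → a = 0 ∧ b = 0 := by
    intro u hu a b h
    by_cases hb0 : b = 0
    · subst hb0
      rw [zero_smul, add_zero, smul_eq_zero] at h
      exact ⟨h.resolve_right hu, rfl⟩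
    · exfalso
      have e : X *ᵥ u = (-(a / b)) • u := by
        have := congrArg (b⁻¹ • ·) h
        simp only [smul_add, smul_smul, inv_mul_cancel₀ hb0, one_smul, smul_zero] at this
        rw [eq_neg_of_add_eq_zero_right this, neg_smul, div_eq_inv_mul]
      have e2 := hXX' u
      rw [e, Matrix.mulVec_smul, e, smul_smul] at e2
      refine hsq ⟨-(a / b), ?_⟩
      have := sub_eq_zero.2 e2
      rw [← sub_smul, smul_eq_zero] at this
      exact (sub_eq_zero.1 (this.resolve_right hu)).symm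
  obtain ⟨u, -, hu0, hu⟩ := exists_singular_mem hQ (W := ⊤) (by rw [finrank_top, Module.finrank_fin_fun]; omega)
  let gU : F × F →ₗ[F] (Fin n → F) :=
    LinearMap.coprod (LinearMap.toSpanSingleton F _ u) (LinearMap.toSpanSingleton F _ (X *ᵥ u))
  have hgU : ∀ a b, gU (a, b) = a • u + b • (X *ᵥ u) := fun a b => rfl
  have hgUinj : Function.Injective gU := (injective_iff_map_eq_zero gU).2 fun ⟨a, b⟩ h => by
    obtain ⟨h1, h3⟩ := hnons u hu0 a b h
    exact Prod.ext h1 h3
  set U := LinearMap.range gU with hU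
  have hUd : Module.finrank F U = 2 := by
    rw [LinearMap.finrank_range_of_inj hgUinj, Module.finrank_prod, Module.finrank_self]
  have hUX : ∀ w ∈ U, X *ᵥ w ∈ U := by
    rintro _ ⟨⟨a, b⟩, rfl⟩
    refine ⟨(b * d, a), ?_⟩
    rw [hgU, hgU, Matrix.mulVec_add, Matrix.mulVec_smul, Matrix.mulVec_smul, hXX', smul_smul, add_comm]
  obtain ⟨hQxu, huxu⟩ := hpair u hu
  have hUself : ∀ x ∈ U, Q x = 0 ∧ ∀ y ∈ U, polar Q x y = 0 := by
    rintro _ ⟨⟨a, b⟩, rfl⟩
    refine ⟨?_, ?_⟩
    · rw [hgU, q_add hQ, q_smul hQ, q_smul hQ, hb.smul_left, hb.smul_right, hu, hQxu, huxu]; ring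
    · rintro _ ⟨⟨a', b'⟩, rfl⟩
      simp only [hgU, hb.add_left, hb.add_right, hb.smul_left, hb.smul_right, b_self hQ, hu, hQxu, huxu,
        b_comm hQ (X *ᵥ u) u]
      ring
  -- the orthogonal complement and a complement of `U` in it
  set Up := (herm hQ).perp U with hUp
  have hUpd : n ≤ Module.finrank F U + Module.finrank F Up := (herm hQ).finrank_perp U
  have hUle : U ≤ Up := fun x hx y hy => (hUself x hx).2 y hy
  obtain ⟨S, hS⟩ := Submodule.exists_isCompl (U.comap Up.subtype)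
  have hSd : 3 ≤ Module.finrank F (S.map Up.subtype) := by
    rw [← (Submodule.equivMapOfInjective _ Up.injective_subtype S).finrank_eq]
    have := Submodule.finrank_add_eq_of_isCompl hS
    rw [(Submodule.comapSubtypeEquivOfLe hUle).finrank_eq] at this
    omega
  obtain ⟨v, hv, hv0, hvQ⟩ := exists_singular_mem hQ hSd
  obtain ⟨⟨v, hvUp⟩, hvS, rfl⟩ := hv
  simp only [Submodule.subtype_apply] at hv0 hvQ
  have hvU : v ∉ U := fun h => by
    have := Submodule.disjoint_def.1 hS.disjoint ⟨v, hvUp⟩ h hvS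
    exact hv0 (congrArg Subtype.val this)
  have hXvUp : ∀ y ∈ U, polar Q (X *ᵥ v) y = 0 := fun y hy => by
    rw [hX, hvUp _ (hUX y hy), neg_zero]
  obtain ⟨hQxv, hvxv⟩ := hpair v hvQ
  let g : (F × F) × (F × F) →ₗ[F] (Fin n → F) := LinearMap.coprod gU
    (LinearMap.coprod (LinearMap.toSpanSingleton F _ v) (LinearMap.toSpanSingleton F _ (X *ᵥ v)))
  have hg : ∀ a b c e, g ((a, b), (c, e)) = gU (a, b) + (c • v + e • (X *ᵥ v)) := fun a b c e => rfl
  have hginj : Function.Injective g := (injective_iff_map_eq_zero g).2 fun ⟨⟨a, b⟩, ⟨c, e⟩⟩ h => by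
    rw [hg] at h
    by_cases hce : c = 0 ∧ e = 0
    · obtain ⟨rfl, rfl⟩ := hce
      rw [zero_smul, zero_smul, add_zero, add_zero] at h
      have := hgUinj (h.trans (map_zero gU).symm)
      rw [this]; rfl
    · exfalso
      have hw : c • v + e • (X *ᵥ v) ∈ U := by
        rw [eq_neg_of_add_eq_zero_right h]; exact U.neg_mem ⟨_, rfl⟩
      have hw' := hUX _ hw
      rw [Matrix.mulVec_add, Matrix.mulVec_smul, Matrix.mulVec_smul, hXX', smul_smul] at hw'
      have h3 := U.sub_mem (U.smul_mem c hw) (U.smul_mem e hw')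
      have hne : c * c - e * (e * d) ≠ 0 := fun h0 => by
        by_cases he : e = 0
        · exact hce ⟨mul_self_eq_zero.1 (by rw [he] at h0; linear_combination h0), he⟩
        · exact hsq ⟨c / e, by rw [div_mul_div_comm, eq_div_iff (mul_ne_zero he he)]; linear_combination -h0⟩
      refine hvU ((U.smul_mem_iff hne).1 ?_)
      convert h3 using 1
      module
  refine ⟨LinearMap.range g, le_top, ?_, ?_⟩
  · rintro _ ⟨⟨⟨a, b⟩, ⟨c, e⟩⟩, rfl⟩
    rw [hg, q_add hQ, (hUself _ ⟨_, rfl⟩).1, q_add hQ, q_smul hQ, q_smul hQ, hvQ, hQxv, hb.smul_left, hb.smul_right,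
      hvxv, hb.add_right, hb.smul_right, hb.smul_right, b_comm hQ _ v, hvUp _ ⟨_, rfl⟩, b_comm hQ _ (X *ᵥ v),
      hXvUp _ ⟨_, rfl⟩]
    ring
  · rw [LinearMap.finrank_range_of_inj hginj, Module.finrank_prod, Module.finrank_prod, Module.finrank_self,
      finrank_top, Module.finrank_fin_fun, hn]

omit hH in
/-- A group of symplectic type of similitudes on an eight-dimensional space forces plus type. -/
theorem plus_of_symType (hn : n = 8) {r m : ℕ} {R : Subgroup (GL (Fin n) F)} (hm : n = r ^ m)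
    (hR : SymType r R) (hsim : ∀ x ∈ R, ∃ c : F, c ≠ 0 ∧
      ∀ u v, polar Q ((x : Mat n F) *ᵥ u) ((x : Mat n F) *ᵥ v) = c * polar Q u v) :
    IsPlusTypeOn Q ⊤ := by
  classical
  have hn0 : 0 < n := by omega
  have hm0 : m ≠ 0 := by rintro rfl; rw [pow_zero] at hm; omega
  obtain rfl : r = 2 :=
    (Nat.prime_dvd_prime_iff_eq hR.prime Nat.prime_two).1 (hR.prime.dvd_of_dvd_pow
      (n := 3) (by rw [show 2 ^ 3 = n by omega, hm]; exact dvd_pow_self r hm0))
  have h2 : (2 : F) ≠ 0 := by exact_mod_cast hR.natCast_ne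
  have hb := hQ.polar_bilinear
  obtain ⟨u₀, v₀, huv⟩ : ∃ u v, polar Q u v ≠ 0 := by
    obtain ⟨-, y, hy⟩ := hQ.nondegenerate (Pi.single ⟨0, hn0⟩ 1) (fun e => by simpa using congrFun e ⟨0, hn0⟩)
    exact ⟨_, y, hy⟩
  choose μ hμ0 hμ using hsim
  -- commutators are signs
  have hanti : ∀ x (_ : x ∈ R) y (_ : y ∈ R), x * y ≠ y * x → (x : Mat n F) * y = -((y : Mat n F) * x) := by
    intro x hx y hy hne
    obtain ⟨c, hc⟩ := (mem_scalars_iff _).mp (hR.comm x hx y hy)
    have e : (x : Mat n F) * y = (c : F) • ((y : Mat n F) * x) := by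
      rw [← Units.val_mul, ← Units.val_mul, show x * y = (x * y * x⁻¹ * y⁻¹) * (y * x) by group, Units.val_mul, hc,
        Matrix.smul_mul, one_mul, Units.val_mul]
    have e1 := hμ x hx ((y : Mat n F) *ᵥ u₀) ((y : Mat n F) *ᵥ v₀)
    rw [hμ y hy, Matrix.mulVec_mulVec, Matrix.mulVec_mulVec, e, Matrix.smul_mulVec, Matrix.smul_mulVec,
      hb.smul_left, hb.smul_right, ← Matrix.mulVec_mulVec, ← Matrix.mulVec_mulVec, hμ y hy, hμ x hx] at e1
    have hcc : (c : F) * c = 1 := mul_right_cancel₀ (mul_ne_zero (mul_ne_zero (hμ0 x hx) (hμ0 y hy)) huv)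
      (by linear_combination e1)
    rcases mul_self_eq_one_iff.1 hcc with h | h
    · exact absurd (Units.ext (by rw [Units.val_mul, Units.val_mul, e, h, one_smul])) hne
    · rw [e, h, neg_one_smul]
  have hsq : ∀ x (_ : x ∈ R), ∃ c : F, c ≠ 0 ∧ (x : Mat n F) * x = c • (1 : Mat n F) := by
    intro x hx
    obtain ⟨c, hc⟩ := full_commutant hn0 hR.full (M := (x : Mat n F) * x) fun y hy => by
      by_cases hxy : x * y = y * x
      · have := congrArg Units.val hxy
        rw [Units.val_mul, Units.val_mul] at this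
        rw [mul_assoc, this, ← mul_assoc, this, mul_assoc]
      · rw [mul_assoc, hanti x hx y hy hxy, mul_neg, ← mul_assoc, hanti x hx y hy hxy, neg_mul, neg_neg, mul_assoc]
    refine ⟨c, fun h0 => ?_, hc⟩
    haveI : NeZero n := ⟨by omega⟩
    rw [h0, zero_smul, ← Units.val_mul] at hc
    exact Units.ne_zero _ hc
  -- every element is symmetric or skew
  have hadj : ∀ x (_ : x ∈ R), ∃ s : F, (s = 1 ∨ s = -1) ∧
      ∀ u v, polar Q ((x : Mat n F) *ᵥ u) v = s * polar Q u ((x : Mat n F) *ᵥ v) := by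
    intro x hx
    obtain ⟨c, hc, hxx⟩ := hsq x hx
    have key : ∀ u v, polar Q ((x : Mat n F) *ᵥ u) v = (μ x hx / c) * polar Q u ((x : Mat n F) *ᵥ v) := by
      intro u v
      have h := hμ x hx u ((x : Mat n F) *ᵥ v)
      rw [Matrix.mulVec_mulVec v (x : Mat n F) (x : Mat n F), hxx, Matrix.smul_mulVec, Matrix.one_mulVec,
        hb.smul_right] at h
      field_simp
      linear_combination h
    refine ⟨μ x hx / c, mul_self_eq_one_iff.1 ?_, key⟩
    obtain ⟨u, hu⟩ : ∃ u, polar Q ((x : Mat n F) *ᵥ u) v₀ ≠ 0 :=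
      ⟨((x⁻¹ : GL (Fin n) F) : Mat n F) *ᵥ u₀, by rwa [Matrix.mulVec_mulVec, Units.mul_inv, Matrix.one_mulVec]⟩
    refine mul_right_cancel₀ hu ?_
    conv_rhs => rw [one_mul, key, b_comm hQ, key, b_comm hQ v₀]
    ring
  obtain ⟨x, hx, hxs⟩ : ∃ x, x ∈ R ∧ ∀ u v, polar Q ((x : Mat n F) *ᵥ u) v = -polar Q u ((x : Mat n F) *ᵥ v) := by
    obtain ⟨x, hx, hns⟩ : ∃ x ∈ R, x ∉ scalars (Fin n) F := by
      by_contra hall
      push Not at hall
      exact algOf_comm_false (by omega) hR.full fun a ha b _ => scalars_comm (hall a ha) b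
    obtain ⟨y, hy, hne⟩ := hR.exists_noncomm hn0 hns
    obtain ⟨s, hs, hxs⟩ := hadj x hx
    obtain ⟨s', hs', hys⟩ := hadj y hy
    rcases hs with rfl | rfl
    swap
    · exact ⟨x, hx, fun u v => by rw [hxs, neg_one_mul]⟩
    rcases hs' with rfl | rfl
    swap
    · exact ⟨y, hy, fun u v => by rw [hys, neg_one_mul]⟩
    refine ⟨x * y, R.mul_mem hx hy, fun u v => ?_⟩
    simp only [one_mul] at hxs hys
    rw [Units.val_mul]
    have hneg : ∀ w, polar Q u (-w) = -polar Q u w := fun w => by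
      rw [← neg_one_smul F w, hb.smul_right, neg_one_mul]
    conv_rhs => rw [hanti x hx y hy hne, Matrix.neg_mulVec, hneg, neg_neg, ← Matrix.mulVec_mulVec, ← hys, ← hxs,
      Matrix.mulVec_mulVec]
  obtain ⟨c, hc, hxx⟩ := hsq x hx
  exact plus_of_skew hQ hn h2 hc hxx hxs

end CfsgLib.Classical.OrthEven
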