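import Cfsg.Agent.Lib.Classical.OrthEven.Skew
import Cfsg.Agent.Lib.Classical.TensorTwo

/-!
# Groups preserving a tensor decomposition of the polar form
-/

set_option autoImplicit false
set_option linter.unusedSectionVars false

namespace CfsgLib.Classical.OrthEven

open Matrix Cfsg Cfsg.Geo QuadraticMap CfsgLib.Orth CfsgLib.Classical CfsgLib.Classical.AschPrime
  CfsgLib.Classical.AschForm CfsgLib.Classical.TensorNonMax
open scoped MatrixGroups Kronecker

variable {F : Type*} [Field F] [Fintype F] {n : ℕ}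

/-- A tensor decomposition of the polar form preserved by `H`. -/
structure Tens (Q : (Fin n → F) → F) (H : Subgroup (GL (Fin n) F)) {n₁ n₂ : ℕ} (e : Fin n ≃ Fin n₁ × Fin n₂)
    (P : GL (Fin n) F) (f₁ : (Fin n₁ → F) → (Fin n₁ → F) → F) (f₂ : (Fin n₂ → F) → (Fin n₂ → F) → F) : Prop where
  quad : IsNondegenerateQuadraticForm Q
  le_omega : H ≤ omegaGL Q
  two_le₁ : 2 ≤ n₁
  two_le₂ : 2 ≤ n₂
  le : H ≤ tensorProductSubgroup n₁ n₂ e P
  bil₁ : IsBilinearForm f₁
  bil₂ : IsBilinearForm f₂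
  nd₁ : IsNondegenerateForm f₁
  nd₂ : IsNondegenerateForm f₂
  struct : IsTensorFormStructure id (polar Q) f₁ f₂ e P
  sym : ∃ ε : F, (ε = 1 ∨ ε = -1) ∧ (∀ u v, f₁ v u = ε * f₁ u v) ∧ ∀ u v, f₂ v u = ε * f₂ u v

variable {Q : (Fin n → F) → F} {H : Subgroup (GL (Fin n) F)} {n₁ n₂ : ℕ} {e : Fin n ≃ Fin n₁ × Fin n₂}
  {P : GL (Fin n) F} {f₁ : (Fin n₁ → F) → (Fin n₁ → F) → F} {f₂ : (Fin n₂ → F) → (Fin n₂ → F) → F}

theorem exists_pair {m : ℕ} (hm : 0 < m) {g : (Fin m → F) → (Fin m → F) → F} (hn : IsNondegenerateForm g) :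
    ∃ u v, g u v ≠ 0 := by
  obtain ⟨-, x, hx⟩ := hn (Pi.single ⟨0, hm⟩ 1) (fun e => by simpa using congrFun e ⟨0, hm⟩)
  exact ⟨_, x, hx⟩

theorem card_eq (e : Fin n ≃ Fin n₁ × Fin n₂) : n = n₁ * n₂ := by simpa using Fintype.card_congr e

theorem form_of (hT : IsTensorFormStructure id (polar Q) f₁ f₂ e P) (b₁ : IsBilinearForm f₁) (b₂ : IsBilinearForm f₂) :
    ∃ c : F, c ≠ 0 ∧ ∀ u u' w w', polar Q (tmap e P u w) (tmap e P u' w') = c * (f₁ u u' * f₂ w w') := by
  obtain ⟨c, hc, h⟩ := tmap_form e P (fun a b => rfl) hT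
  refine ⟨c, hc, fun u u' w w' => ?_⟩
  rw [h, gram_expand b₁.add_left b₁.smul_left b₁.add_right (τ := id) b₁.smul_right,
    gram_expand b₂.add_left b₂.smul_left b₂.add_right (τ := id) b₂.smul_right]

/-- From the general outcome. -/
theorem Tens.of_herm (hQ : IsNondegenerateQuadraticForm Q) (hH : H ≤ omegaGL Q) (h1 : 2 ≤ n₁) (h2 : 2 ≤ n₂)
    {ε₁ ε₂ : F} (hf₁ : Herm (RingHom.id F) ε₁ f₁) (hf₂ : Herm (RingHom.id F) ε₂ f₂)
    (hT : IsTensorFormStructure id (polar Q) f₁ f₂ e P) (hle : H ≤ tensorProductSubgroup n₁ n₂ e P) :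
    Tens Q H e P f₁ f₂ := by
  have b₁ : IsBilinearForm f₁ := ⟨hf₁.sesq.add_left, hf₁.sesq.smul_left, hf₁.sesq.add_right, hf₁.sesq.smul_right⟩
  have b₂ : IsBilinearForm f₂ := ⟨hf₂.sesq.add_left, hf₂.sesq.smul_left, hf₂.sesq.add_right, hf₂.sesq.smul_right⟩
  refine ⟨hQ, hH, h1, h2, hle, b₁, b₂, hf₁.nondeg, hf₂.nondeg, hT, ε₁, ?_, hf₁.symm, fun u v => ?_⟩
  · have := hf₁.eps_mul (by omega)
    rw [RingHom.id_apply] at this
    exact mul_self_eq_one_iff.1 this
  · obtain ⟨x, y, hxy⟩ := exists_pair (by omega) hf₂.nondeg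
    obtain ⟨x', y', hxy'⟩ := exists_pair (by omega) hf₁.nondeg
    obtain ⟨c, hc, h⟩ := form_of hT b₁ b₂
    have e1 := b_comm hQ (tmap e P x' x) (tmap e P y' y)
    rw [h, h, hf₁.symm x' y', hf₂.symm x y, RingHom.id_apply, RingHom.id_apply] at e1
    have h12 : ε₁ * ε₂ = 1 := by
      refine mul_right_cancel₀ (mul_ne_zero (mul_ne_zero hc hxy') hxy) ?_
      linear_combination -e1
    have h11 := hf₁.eps_mul (show 0 < n₁ by omega)
    rw [RingHom.id_apply] at h11
    rw [hf₂.symm u v, RingHom.id_apply]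
    congr 1
    linear_combination ε₁ * h12 - ε₂ * h11

theorem glReindex_apply {κ ι : Type} [Fintype κ] [DecidableEq κ] [Fintype ι] [DecidableEq ι] (σ : κ ≃ ι)
    (g : GL κ F) (i j : ι) : (glReindex σ g : Matrix ι ι F) i j = (g : Matrix κ κ F) (σ.symm i) (σ.symm j) := rfl

/-- The two factors in the other order. -/
theorem Tens.swap (T : Tens Q H e P f₁ f₂) :
    Tens Q H (e.trans (Equiv.prodComm _ _)) P f₂ f₁ := by
  obtain ⟨ε, hε, hs₁, hs₂⟩ := T.sym
  refine ⟨T.quad, T.le_omega, T.two_le₂, T.two_le₁, T.le.trans ?_, T.bil₂, T.bil₁, T.nd₂, T.nd₁, ?_, ε, hε, hs₂, hs₁⟩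
  · rintro _ ⟨_, ⟨g, ⟨a, b, hab⟩, rfl⟩, rfl⟩
    refine ⟨_, ⟨glReindex (Equiv.prodComm _ _) g, ⟨b, a, ?_⟩, rfl⟩, ?_⟩
    · ext ⟨i, j⟩ ⟨i', j'⟩
      rw [glReindex_apply, hab]
      simp [mul_comm]
    · congr 1
  · obtain ⟨c, hc, h⟩ := T.struct
    refine ⟨c, hc, fun x y => ?_⟩
    have hx : ∀ z : Fin n₂ × Fin n₁ → F,
        z ∘ (e.trans (Equiv.prodComm _ _)) = (z ∘ Equiv.prodComm _ _) ∘ e := fun z => rfl
    rw [hx, hx, h]
    congr 1
    simp only [formOfGram, id_eq]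
    refine Fintype.sum_equiv (Equiv.prodComm _ _) _ _ fun a => ?_
    refine Fintype.sum_equiv (Equiv.prodComm _ _) _ _ fun b => ?_
    simp [Matrix.kroneckerMap_apply, mul_comm]

theorem tens_span (X : Submodule F (Fin n → F)) (h : ∀ u w, tmap e P u w ∈ X) : X = ⊤ := by
  classical
  refine eq_top_iff.2 fun v _ => ?_
  set x := ((P⁻¹ : GL (Fin n) F) : Mat n F) *ᵥ v with hx
  have hv : v = (P : Mat n F) *ᵥ x := by rw [hx, Matrix.mulVec_mulVec, Units.mul_inv, Matrix.one_mulVec]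
  rw [hv, pi_eq_sum_univ' x, Matrix.mulVec_sum]
  refine X.sum_mem fun i _ => ?_
  rw [Matrix.mulVec_smul]
  refine X.smul_mem _ ?_
  have := h (Pi.single (e i).1 1) (Pi.single (e i).2 1)
  rw [tmap_apply] at this
  convert this using 2
  funext j
  by_cases hj : j = i
  · subst hj; simp
  · have hne : e j ≠ e i := fun he => hj (e.injective he)
    simp only [Function.comp_apply, Pi.single_eq_of_ne hj]
    rcases (not_and_or.1 fun h2 : (e j).1 = (e i).1 ∧ (e j).2 = (e i).2 => hne (Prod.ext h2.1 h2.2)) with h2 | h2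
    · simp [Pi.single_eq_of_ne h2]
    · simp [Pi.single_eq_of_ne h2]

/-- The similitudes induced on the factors. -/
theorem Tens.act (T : Tens Q H e P f₁ f₂) {h : GL (Fin n) F} (hh : h ∈ H) :
    ∃ (a : GL (Fin n₁) F) (b : GL (Fin n₂) F) (μ : F), μ ≠ 0 ∧
      (∀ u w, (h : Mat n F) *ᵥ tmap e P u w = tmap e P ((a : Mat n₁ F) *ᵥ u) ((b : Mat n₂ F) *ᵥ w)) ∧
      (∀ u v, f₁ ((a : Mat n₁ F) *ᵥ u) ((a : Mat n₁ F) *ᵥ v) = μ * f₁ u v) ∧
      ∀ u v, f₂ ((b : Mat n₂ F) *ᵥ u) ((b : Mat n₂ F) *ᵥ v) = μ⁻¹ * f₂ u v := by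
  obtain ⟨a, b, hab⟩ := tmap_mul e P (T.le hh)
  obtain ⟨c, hc, hf⟩ := form_of T.struct T.bil₁ T.bil₂
  have hiso : ∀ u u' w w', f₁ ((a : Mat n₁ F) *ᵥ u) ((a : Mat n₁ F) *ᵥ u') *
      f₂ ((b : Mat n₂ F) *ᵥ w) ((b : Mat n₂ F) *ᵥ w') = f₁ u u' * f₂ w w' := by
    intro u u' w w'
    have e1 := fixesForm_omega T.le_omega _ (mem_matrixSet hh) (tmap e P u w) (tmap e P u' w')
    rw [hab, hab, hf, hf] at e1
    exact mul_left_cancel₀ hc e1
  obtain ⟨x, y, hxy⟩ := exists_pair (show 0 < n₂ by have := T.two_le₂; omega) T.nd₂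
  obtain ⟨x', y', hxy'⟩ := exists_pair (show 0 < n₁ by have := T.two_le₁; omega) T.nd₁
  have hb0 : f₂ ((b : Mat n₂ F) *ᵥ x) ((b : Mat n₂ F) *ᵥ y) ≠ 0 := fun e0 => by
    have := hiso x' y' x y
    rw [e0, mul_zero] at this
    exact mul_ne_zero hxy' hxy this.symm
  set μ := f₂ x y / f₂ ((b : Mat n₂ F) *ᵥ x) ((b : Mat n₂ F) *ᵥ y) with hμ
  have hμ0 : μ ≠ 0 := div_ne_zero hxy hb0
  have h1 : ∀ u v, f₁ ((a : Mat n₁ F) *ᵥ u) ((a : Mat n₁ F) *ᵥ v) = μ * f₁ u v := fun u v => by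
    rw [hμ]
    field_simp
    linear_combination hiso u v x y
  refine ⟨a, b, μ, hμ0, hab, h1, fun w w' => ?_⟩
  have := hiso x' y' w w'
  rw [h1] at this
  field_simp
  refine mul_left_cancel₀ hxy' ?_
  linear_combination this

theorem Tens.quad_tmap (T : Tens Q H e P f₁ f₂) (h2 : (2 : F) ≠ 0) (halt : ∀ u, f₁ u u = 0) (u : Fin n₁ → F)
    (w : Fin n₂ → F) : Q (tmap e P u w) = 0 := by
  obtain ⟨c, hc, hf⟩ := form_of T.struct T.bil₁ T.bil₂
  have := hf u u w w
  rw [b_self T.quad, halt, zero_mul, mul_zero] at this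
  exact (mul_eq_zero.1 this).resolve_left h2

/-- In characteristic two a factor that is not alternating gives an invariant subspace. -/
theorem Tens.reduced_of_not_alt (T : Tens Q H e P f₁ f₂) (h2 : (2 : F) = 0) (hne : ∃ w, f₂ w w ≠ 0) :
    Reduced Q H := by
  classical
  have b₂ := T.bil₂
  obtain ⟨ε, hε, -, hs⟩ := T.sym
  have hε1 : ε = 1 := by
    rcases hε with h | h
    · exact h
    · rw [h]; linear_combination -h2
  obtain ⟨φ, hφ⟩ := exists_sqrt_functional h2 (fun w => f₂ w w)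
    (fun u v => by
      rw [b₂.add_left, b₂.add_right, b₂.add_right, hs u v, hε1]
      linear_combination f₂ u v * h2)
    (fun a v => by rw [b₂.smul_left, b₂.smul_right]; ring)
  have hφ0 : φ ≠ 0 := fun h0 => by
    obtain ⟨w, hw⟩ := hne
    exact hw (by rw [← hφ w, h0]; simp)
  let L : (Fin n₁ → LinearMap.ker φ) →ₗ[F] (Fin n → F) :=
    ∑ i, ((tmap e P (Pi.single i 1)).comp (LinearMap.ker φ).subtype).comp (LinearMap.proj i)
  have hL : ∀ z, L z = ∑ i, tmap e P (Pi.single i 1) (z i : Fin n₂ → F) := fun z => by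
    simp [L, LinearMap.sum_apply]
  have hmem : ∀ u w, φ w = 0 → tmap e P u w ∈ LinearMap.range L := by
    intro u w hw
    refine ⟨fun i => u i • ⟨w, hw⟩, ?_⟩
    rw [hL]
    conv_rhs => rw [pi_eq_sum_univ' u, map_sum, LinearMap.sum_apply]
    refine Finset.sum_congr rfl fun i _ => ?_
    rw [SetLike.val_smul, map_smul, map_smul, LinearMap.smul_apply]
  have hinv : ∀ h ∈ H, ∀ v ∈ LinearMap.range L, (h : Mat n F) *ᵥ v ∈ LinearMap.range L := by
    rintro h hh _ ⟨z, rfl⟩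
    obtain ⟨a, b, μ, hμ, hab, -, hb⟩ := T.act hh
    rw [hL, Matrix.mulVec_sum]
    refine (LinearMap.range L).sum_mem fun i _ => ?_
    rw [hab]
    refine hmem _ _ ?_
    have e1 := hφ ((b : Mat n₂ F) *ᵥ (z i : Fin n₂ → F))
    rw [hb, ← hφ, show φ (z i : Fin n₂ → F) = 0 from (z i).2] at e1
    simpa using e1
  have hr := LinearMap.finrank_range_add_finrank_ker φ
  rw [Module.finrank_fin_fun] at hr
  have hrange : Module.finrank F (LinearMap.range φ) = 1 := by
    refine le_antisymm ((Submodule.finrank_le _).trans (Module.finrank_self F).le) ?_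
    rw [Nat.one_le_iff_ne_zero, ne_eq, Submodule.finrank_eq_zero, LinearMap.range_eq_bot]
    exact hφ0
  have htwo := T.two_le₂
  have htwo' := T.two_le₁
  refine reduced_of_invariant T.quad T.le_omega (W := LinearMap.range L) ?_ ?_ hinv
  · obtain ⟨w, hw, hw0⟩ := Submodule.exists_mem_ne_zero_of_ne_bot (p := LinearMap.ker φ) (fun e0 => by
      rw [e0, finrank_bot] at hr; omega)
    intro e0
    have hm := hmem (Pi.single ⟨0, by omega⟩ 1) w hw
    rw [e0, Submodule.mem_bot] at hm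
    have hli : LinearIndependent F ![(Pi.single ⟨0, by omega⟩ 1 : Fin n₁ → F)] :=
      LinearIndependent.of_subsingleton (i := 0) (by simp)
    exact hw0 (tmap_indep e P hli (w := ![w]) (by simpa using hm) 0)
  · intro e0
    have h' := LinearMap.finrank_range_le L
    rw [e0, finrank_top, Module.finrank_fin_fun, Module.finrank_pi_fintype] at h'
    simp only [Finset.sum_const, Finset.card_univ, Fintype.card_fin, smul_eq_mul] at h'
    rw [card_eq e] at h'
    have h3 : n₁ * (Module.finrank F (LinearMap.ker φ) + 1) ≤ n₁ * Module.finrank F (LinearMap.ker φ) := by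
      rw [show Module.finrank F (LinearMap.ker φ) + 1 = n₂ by omega]; exact h'
    rw [mul_add, mul_one] at h3
    omega

/-- Two alternating factors: the form vanishes on pure tensors, or an invariant hyperplane. -/
theorem Tens.pure_zero_or_reduced (T : Tens Q H e P f₁ f₂) (halt₁ : ∀ u, f₁ u u = 0) (halt₂ : ∀ w, f₂ w w = 0) :
    (∀ u w, Q (tmap e P u w) = 0) ∨ Reduced Q H := by
  classical
  by_cases h2 : (2 : F) = 0
  swap
  · exact .inl (T.quad_tmap h2 halt₁)
  obtain ⟨c, hc, hf⟩ := form_of T.struct T.bil₁ T.bil₂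
  haveI : CharP F 2 := CharTwo.of_one_ne_zero_of_two_eq_zero one_ne_zero h2
  have hcard := card_eq e
  have := T.two_le₁
  have := T.two_le₂
  choose s hs using fun v : Fin n → F => CfsgLib.Derangements.EvenForms.exists_sqrt (F := F) (Q v)
  let β : (Fin n₁ → F) →ₗ[F] (Fin n₂ → F) →ₗ[F] F :=
    LinearMap.mk₂ F (fun u w => s (tmap e P u w))
      (fun u u' w => CharTwo.sq_injective (by
        show s _ ^ 2 = (s _ + s _) ^ 2
        rw [CharTwo.add_sq, hs, hs, hs, map_add, LinearMap.add_apply, q_add T.quad, hf, halt₂, mul_zero, mul_zero,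
          add_zero]))
      (fun a u w => CharTwo.sq_injective (by
        show s _ ^ 2 = (a * s _) ^ 2
        rw [mul_pow, hs, hs, map_smul, LinearMap.smul_apply, T.quad.smul]))
      (fun u w w' => CharTwo.sq_injective (by
        show s _ ^ 2 = (s _ + s _) ^ 2
        rw [CharTwo.add_sq, hs, hs, hs, map_add, q_add T.quad, hf, halt₁, zero_mul, mul_zero, add_zero]))
      (fun a u w => CharTwo.sq_injective (by
        show s _ ^ 2 = (a * s _) ^ 2
        rw [mul_pow, hs, hs, map_smul, T.quad.smul]))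
  have hβ : ∀ u w, β u w ^ 2 = Q (tmap e P u w) := fun u w => hs _
  -- the functional on the whole space
  let φ : (Fin n → F) →ₗ[F] F :=
    LinearMap.comp
      (∑ p : Fin n₁ × Fin n₂, (β (Pi.single p.1 1) (Pi.single p.2 1)) •
        (LinearMap.proj (R := F) (φ := fun _ : Fin n => F) (e.symm p)))
      (Matrix.toLin' ((P⁻¹ : GL (Fin n) F) : Mat n F))
  have hφ : ∀ u w, φ (tmap e P u w) = β u w := by
    intro u w
    have e1 : ((P⁻¹ : GL (Fin n) F) : Mat n F) *ᵥ tmap e P u w =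
        (fun p : Fin n₁ × Fin n₂ => u p.1 * w p.2) ∘ e := by
      rw [tmap_apply, Matrix.mulVec_mulVec, Units.inv_mul, Matrix.one_mulVec]
    simp only [φ, LinearMap.comp_apply, Matrix.toLin'_apply, e1, LinearMap.sum_apply, LinearMap.smul_apply,
      LinearMap.proj_apply, Function.comp_apply, Equiv.apply_symm_apply, smul_eq_mul]
    conv_rhs => rw [pi_eq_sum_univ' u, map_sum, LinearMap.sum_apply]
    rw [Fintype.sum_prod_type]
    refine Finset.sum_congr rfl fun i _ => ?_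
    rw [map_smul, LinearMap.smul_apply, smul_eq_mul]
    conv_rhs => rw [pi_eq_sum_univ' w, map_sum, Finset.mul_sum]
    refine Finset.sum_congr rfl fun j _ => ?_
    rw [map_smul, smul_eq_mul]
    ring
  by_cases h0 : φ = 0
  · refine .inl fun u w => ?_
    rw [← hβ, ← hφ, h0]; simp
  refine .inr (reduced_of_functional T.quad T.le_omega (by nlinarith) h0 fun h hh v hv => ?_)
  obtain ⟨a, b, μ, hμ, hab, -, -⟩ := T.act hh
  have heq : φ.comp (Matrix.toLin' (h : Mat n F)) = φ := by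
    refine LinearMap.ext fun x => ?_
    have hx : x ∈ LinearMap.eqLocus (φ.comp (Matrix.toLin' (h : Mat n F))) φ := by
      rw [tens_span (e := e) (P := P) (LinearMap.eqLocus (φ.comp (Matrix.toLin' (h : Mat n F))) φ) fun u w => ?_]
      · trivial
      show φ (Matrix.toLin' (h : Mat n F) (tmap e P u w)) = φ (tmap e P u w)
      rw [Matrix.toLin'_apply, hab, hφ, hφ]
      refine CharTwo.sq_injective (?_ : _ ^ 2 = _ ^ 2)
      rw [hβ, hβ, ← hab, omega_isometry (T.le_omega hh)]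
    exact hx
  have := LinearMap.congr_fun heq v
  rw [LinearMap.comp_apply, Matrix.toLin'_apply, hv] at this
  exact this

/-- The sum of the slices over a subspace. -/
theorem plus_of_pure (T : Tens Q H e P f₁ f₂) (hn : n₁ = 2) (hz : ∀ u w, Q (tmap e P u w) = 0) :
    IsPlusTypeOn Q ⊤ := by
  subst hn
  let L := tmap e P (Pi.single 0 1)
  have hinj : Function.Injective L := (injective_iff_map_eq_zero _).2 fun w hw => by
    have hli : LinearIndependent F ![(Pi.single 0 1 : Fin 2 → F)] :=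
      LinearIndependent.of_subsingleton (i := 0) (by simp)
    exact tmap_indep e P hli (w := ![w]) (by simpa using hw) 0
  refine ⟨LinearMap.range L, le_top, ?_, ?_⟩
  · rintro _ ⟨w, rfl⟩
    exact hz _ w
  · rw [LinearMap.finrank_range_of_inj hinj, finrank_top, Module.finrank_fin_fun, Module.finrank_fin_fun, card_eq e]

/-- A two-dimensional orthogonal factor. -/
theorem Tens.two_symmetric (T : Tens Q H e P f₁ f₂) (hn : n₁ = 2) (h2 : (2 : F) ≠ 0)
    (hs : ∀ u v, f₁ u v = f₁ v u) :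
    (∃ K : Subalgebra F (Mat n F), IsFieldSubalgebra 2 K ∧ IsAdjointClosedFor (polar Q) K ∧
      ¬ IsSelfAdjointFor (polar Q) K ∧ H ≤ subalgebraNormalizer K) ∨
    (∃ (k : ℕ) (D : Fin 2 → Submodule F (Fin n → F)), 2 * k = n ∧ IsMDecomposition k D ∧
      (∀ i, IsTotallySingularQuad Q (D i)) ∧ H ≤ decompositionStabilizer D) := by
  classical
  subst hn
  obtain ⟨c, hc, hf⟩ := form_of T.struct T.bil₁ T.bil₂
  have b₁ := T.bil₁
  set G := gramMatrix f₁ with hG
  have hval : ∀ u v, f₁ u v = u 0 * (G 0 0 * v 0 + G 0 1 * v 1) + u 1 * (G 1 0 * v 0 + G 1 1 * v 1) := by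
    intro u v
    rw [← gram_expand b₁.add_left b₁.smul_left b₁.add_right (τ := id) b₁.smul_right u v]
    simp [formOfGram, Fin.sum_univ_two, hG]
    ring
  have hsym : G 1 0 = G 0 1 := hs _ _
  set D := G 0 0 * G 1 1 - G 0 1 * G 0 1 with hD
  have hD0 : D ≠ 0 := by
    intro h0
    by_cases h00 : G 0 0 = 0 ∧ G 0 1 = 0
    · obtain ⟨⟨x, hx⟩, -⟩ := T.nd₁ (Pi.single 0 1) (fun e0 => by simpa using congrFun e0 0)
      apply hx
      rw [hval, hsym]
      simp [h00.1, h00.2]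
    · obtain ⟨⟨x, hx⟩, -⟩ := T.nd₁ ![-G 0 1, G 0 0] (fun e0 => h00
        ⟨by simpa using congrFun e0 1, by simpa using congrFun e0 0⟩)
      apply hx
      rw [hval, hsym]
      simp only [Matrix.cons_val_zero, Matrix.cons_val_one]
      linear_combination x 1 * h0
  -- the matrix of `f₁ (J₀ u, v) = u₀ v₁ - u₁ v₀`
  set J₀ : Matrix (Fin 2) (Fin 2) F := !![-G 0 1 / D, -G 1 1 / D; G 0 0 / D, G 0 1 / D] with hJ₀
  have hkey : ∀ u v, f₁ (J₀ *ᵥ u) v = u 0 * v 1 - u 1 * v 0 := by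
    intro u v
    rw [hval, hsym, hJ₀]
    simp [Matrix.mulVec, dotProduct, Fin.sum_univ_two]
    field_simp
    rw [hD]
    ring
  have hskew : ∀ u v, f₁ (J₀ *ᵥ u) v = -f₁ u (J₀ *ᵥ v) := by
    intro u v
    rw [hs u, hkey, hkey]; ring
  have hJJ : J₀ * J₀ = (-(1 / D)) • (1 : Matrix (Fin 2) (Fin 2) F) := by
    rw [hJ₀]
    ext i j
    fin_cases i <;> fin_cases j <;> simp [Matrix.mul_apply, Fin.sum_univ_two] <;> field_simp <;> rw [hD] <;> ring
  set J : Mat n F := leftOp e P J₀ with hJ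
  have hd : (-(1 / D)) ≠ 0 := neg_ne_zero.2 (div_ne_zero one_ne_zero hD0)
  refine skew_square T.quad (by rw [card_eq e]; have := T.two_le₂; omega) h2 hd (J := J) ?_ ?_ ?_
  · refine ext_tmap e P fun u w => ?_
    rw [← Matrix.mulVec_mulVec, hJ, leftOp_tmap, leftOp_tmap, Matrix.mulVec_mulVec, hJJ, Matrix.smul_mulVec,
      Matrix.one_mulVec, Matrix.smul_mulVec, Matrix.one_mulVec, map_smul, LinearMap.smul_apply]
  · have hb := T.quad.polar_bilinear
    have key : ∀ u w x, polar Q (J *ᵥ tmap e P u w) x = -polar Q (tmap e P u w) (J *ᵥ x) := by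
      intro u w x
      let A : (Fin n → F) →ₗ[F] F := QuadraticMap.polarBilin (qf T.quad) (J *ᵥ tmap e P u w) +
        (QuadraticMap.polarBilin (qf T.quad) (tmap e P u w)).comp (Matrix.toLin' J)
      have hA : LinearMap.ker A = ⊤ := tens_span _ fun u' w' => by
        show polar Q (J *ᵥ tmap e P u w) (tmap e P u' w') + polar Q (tmap e P u w) (J *ᵥ tmap e P u' w') = 0
        rw [hJ, leftOp_tmap, leftOp_tmap, hf, hf, hskew]; ring
      have := hA.ge (Submodule.mem_top (x := x))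
      exact eq_neg_of_add_eq_zero_left this
    intro x y
    let B : (Fin n → F) →ₗ[F] F := ((QuadraticMap.polarBilin (qf T.quad)).flip y).comp (Matrix.toLin' J) +
      (QuadraticMap.polarBilin (qf T.quad)).flip (J *ᵥ y)
    have hB : LinearMap.ker B = ⊤ := tens_span _ fun u w => by
      show polar Q (J *ᵥ tmap e P u w) y + polar Q (tmap e P u w) (J *ᵥ y) = 0
      rw [key]; ring
    have := hB.ge (Submodule.mem_top (x := x))
    exact eq_neg_of_add_eq_zero_left this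
  · intro h hh
    obtain ⟨a, b, μ, hμ, hab, ha, -⟩ := T.act hh
    have hdet : ∀ u v : Fin 2 → F, ((a : Mat 2 F) *ᵥ u) 0 * ((a : Mat 2 F) *ᵥ v) 1 -
        ((a : Mat 2 F) *ᵥ u) 1 * ((a : Mat 2 F) *ᵥ v) 0 = (a : Mat 2 F).det * (u 0 * v 1 - u 1 * v 0) := by
      intro u v
      simp [Matrix.mulVec, dotProduct, Fin.sum_univ_two, Matrix.det_fin_two]; ring
    have hcm : ∀ u, (a : Mat 2 F) *ᵥ (J₀ *ᵥ u) = (μ / (a : Mat 2 F).det) • (J₀ *ᵥ ((a : Mat 2 F) *ᵥ u)) := by
      intro u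
      have hda : (a : Mat 2 F).det ≠ 0 := by rw [← GeneralLinearGroup.val_det_apply]; exact Units.ne_zero _
      by_contra hne
      obtain ⟨-, y, hy⟩ := T.nd₁ _ (sub_ne_zero.2 hne)
      obtain ⟨v, rfl⟩ : ∃ v, (a : Mat 2 F) *ᵥ v = y :=
        ⟨((a⁻¹ : GL (Fin 2) F) : Mat 2 F) *ᵥ y, by rw [Matrix.mulVec_mulVec, Units.mul_inv, Matrix.one_mulVec]⟩
      apply hy
      rw [sub_eq_add_neg, b₁.add_left, ← neg_one_smul F ((μ / (a : Mat 2 F).det) • _), b₁.smul_left, b₁.smul_left,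
        ha, hkey, hkey, hdet]
      field_simp
      ring
    have hμd : μ * μ = (a : Mat 2 F).det * (a : Mat 2 F).det := by
      have e00 := ha (Pi.single 0 1) (Pi.single 0 1)
      have e01 := ha (Pi.single 0 1) (Pi.single 1 1)
      have e11 := ha (Pi.single 1 1) (Pi.single 1 1)
      simp only [hval, hsym] at e00 e01 e11
      simp [Matrix.mulVec, dotProduct, Fin.sum_univ_two] at e00 e01 e11
      refine mul_right_cancel₀ hD0 ?_
      rw [hD, Matrix.det_fin_two]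
      linear_combination -(((a : Mat 2 F) 0 1) * (G 0 0 * (a : Mat 2 F) 0 1 + G 0 1 * (a : Mat 2 F) 1 1) +
        (a : Mat 2 F) 1 1 * (G 0 1 * (a : Mat 2 F) 0 1 + G 1 1 * (a : Mat 2 F) 1 1)) * e00 +
        ((a : Mat 2 F) 0 0 * (G 0 0 * (a : Mat 2 F) 0 1 + G 0 1 * (a : Mat 2 F) 1 1) +
        (a : Mat 2 F) 1 0 * (G 0 1 * (a : Mat 2 F) 0 1 + G 1 1 * (a : Mat 2 F) 1 1) + μ * G 0 1) * e01 -
        μ * G 0 0 * e11
    have hc' : μ / (a : Mat 2 F).det = 1 ∨ μ / (a : Mat 2 F).det = -1 := by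
      have hda : (a : Mat 2 F).det ≠ 0 := by rw [← GeneralLinearGroup.val_det_apply]; exact Units.ne_zero _
      refine mul_self_eq_one_iff.1 ?_
      field_simp
      linear_combination hμd
    rcases hc' with e1 | e1
    · refine .inl (ext_tmap e P fun u w => ?_)
      rw [← Matrix.mulVec_mulVec, ← Matrix.mulVec_mulVec, hab, hJ, leftOp_tmap, leftOp_tmap, hab, hcm, e1, one_smul]
    · refine .inr (ext_tmap e P fun u w => ?_)
      rw [Matrix.neg_mulVec, ← Matrix.mulVec_mulVec, ← Matrix.mulVec_mulVec, hab, hJ, leftOp_tmap, leftOp_tmap, hab,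
        hcm, e1, map_smul, LinearMap.smul_apply, neg_one_smul]

end CfsgLib.Classical.OrthEven
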