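import Cfsg.Agent.Lib.Classical.OrthEven.Frames
import Cfsg.Agent.Lib.Classical.OrthEven.Special
import Cfsg.Agent.Lib.Classical.OrthEven.Power
import Cfsg.Agent.Lib.Classical.OrthEven.Tensor
import Cfsg.Agent.Lib.Classical.OrthEven.FieldOdd
import Cfsg.Agent.Lib.Classical.AschForm.Outcome

/-!
# Where a group of isometries of an even-dimensional quadratic form lies
-/

set_option autoImplicit false
set_option linter.unusedSectionVars false

namespace CfsgLib.Classical.OrthEven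

open Matrix Cfsg Cfsg.Geo QuadraticMap CfsgLib.Orth CfsgLib.Classical CfsgLib.Classical.AschPrime
  CfsgLib.Classical.AschForm CfsgLib.Classical.AschGen
open scoped MatrixGroups

variable {F : Type*} [Field F] [Fintype F] {n : ℕ}

/-- The geometric possibilities for a group of isometries of `Q`. -/
def Geometric (Q : (Fin n → F) → F) (H : Subgroup (GL (Fin n) F)) : Prop :=
  Reduced Q H ∨
  (∃ (t m : ℕ) (D : Fin t → Submodule F (Fin n → F)), IsOrthogonalMDecomposition Q m D ∧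
      H ≤ decompositionStabilizer D) ∨
  (∃ (k : ℕ) (D : Fin 2 → Submodule F (Fin n → F)), 2 * k = n ∧ IsMDecomposition k D ∧
      (∀ i, IsTotallySingularQuad Q (D i)) ∧ H ≤ decompositionStabilizer D) ∨
  (∃ (r : ℕ) (K : Subalgebra F (Mat n F)), r.Prime ∧ r ∣ n ∧ IsFieldSubalgebra r K ∧
      IsSelfAdjointFor (polar Q) K ∧ H ≤ subalgebraNormalizer K) ∨
  (∃ K : Subalgebra F (Mat n F), IsFieldSubalgebra 2 K ∧ IsAdjointClosedFor (polar Q) K ∧
      ¬ IsSelfAdjointFor (polar Q) K ∧ Similar Q K ∧ H ≤ subalgebraNormalizer K) ∨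
  (∃ (n₁ n₂ : ℕ) (e : Fin n ≃ Fin n₁ × Fin n₂) (P : GL (Fin n) F)
      (f₁ : (Fin n₁ → F) → (Fin n₁ → F) → F) (f₂ : (Fin n₂ → F) → (Fin n₂ → F) → F), Tens Q H e P f₁ f₂) ∨
  (∃ (m t : ℕ) (e : Fin n ≃ (Fin t → Fin m)) (P : GL (Fin n) F) (ε₁ : F)
      (f₁ : (Fin m → F) → (Fin m → F) → F) (L : Subgroup (GL (Fin m) F)), 2 ≤ m ∧ 2 ≤ t ∧
      Herm (RingHom.id F) ε₁ f₁ ∧ IsTensorPowerFormStructure id (polar Q) f₁ e P ∧
      ⁅L, L⁆ = L ∧ ¬ L ≤ scalars (Fin m) F ∧ FixesForm (matrixSet L) f₁ ∧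
      H ≤ tensorWreathSubgroup m t e P) ∨
  (∃ (F₀ : Subfield F) (l : ℕ) (P : GL (Fin n) F) (ζ : F), l.Prime ∧ F₀ ≠ ⊤ ∧
      Fintype.card F = Nat.card F₀ ^ l ∧ ζ ≠ 0 ∧ IsQuadFormRationalStructure (fun v => ζ * Q v) F₀ P ∧
      H ≤ subfieldSubgroup F₀ P) ∨
  (∃ (r m : ℕ) (R : Subgroup (GL (Fin n) F)), 1 ≤ m ∧ n = r ^ m ∧ SymType r R ∧
      ∀ x ∈ R, ∃ c : F, c ≠ 0 ∧ ∀ u v, polar Q ((x : Mat n F) *ᵥ u) ((x : Mat n F) *ᵥ v) = c * polar Q u v) ∨
  InOrthogonalResidualClass H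

variable {Q : (Fin n → F) → F} (hQ : IsNondegenerateQuadraticForm Q)
include hQ

omit hQ in
theorem le_isometry {H : Subgroup (GL (Fin n) F)} (hH : H ≤ omegaGL Q) : H ≤ Cfsg.isometryGroup F Q := by
  intro h hh
  obtain ⟨x, -, rfl⟩ := hH hh
  exact x.2

omit hQ in
theorem subfield_ne_top {F₀ : Subfield F} {l : ℕ} (hl : l.Prime) (hc : Fintype.card F = Nat.card F₀ ^ l) :
    F₀ ≠ ⊤ := by
  intro h
  have h1 : Nat.card F₀ = Fintype.card F := by
    rw [h, Nat.card_congr Subfield.topEquiv.toEquiv, Nat.card_eq_fintype_card]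
  rw [h1] at hc
  have := Nat.pow_lt_pow_right (Fintype.one_lt_card (α := F)) hl.one_lt
  rw [pow_one, ← hc] at this
  exact lt_irrefl _ this

/-- Two subspaces swapped or fixed. -/
theorem reduced_of_two {H : Subgroup (GL (Fin n) F)} (hH : H ≤ omegaGL Q) {D : Fin 2 → Submodule F (Fin n → F)}
    {k : ℕ} (hD : IsMDecomposition k D) (hle : H ≤ decompositionStabilizer D) :
    Reduced Q H ∨ ∀ i j, ∃ h ∈ H, (D i).map (Matrix.toLin' (h : Mat n F)) = D j := by
  classical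
  by_cases hfix : ∀ h ∈ H, (D 0).map (Matrix.toLin' (h : Mat n F)) = D 0
  · refine .inl (reduced_of_invariant hQ hH (W := D 0) (fun e => ?_) (fun e => ?_) fun h hh v hv =>
      (hfix h hh).le ⟨v, hv, Matrix.toLin'_apply _ _⟩)
    · have := hD.finrank_eq 0
      rw [e, finrank_bot] at this
      exact hD.pos.ne this
    · have h1 := hD.finrank_eq 0
      rw [e, finrank_top, Module.finrank_fin_fun] at h1
      have h2 := AschGen.decomp_card hD
      have := hD.pos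
      omega
  · right
    push Not at hfix
    obtain ⟨h, hh, hne⟩ := hfix
    obtain ⟨σ, hσ⟩ := hle hh
    have hD01 : ∀ i : Fin 2, i ≠ 0 → i = 1 := by decide
    have h0 : σ 0 = 1 := hD01 _ fun e => hne ((hσ 0).trans (congrArg D e))
    have h1 : σ 1 = 0 := by
      by_contra h1
      exact absurd (σ.injective ((hD01 _ h1).trans h0.symm)) (by decide)
    intro i j
    have hone : ∀ i, (D i).map (Matrix.toLin' ((1 : GL (Fin n) F) : Mat n F)) = D i := fun i => by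
      rw [Units.val_one, Matrix.toLin'_one, Submodule.map_id]
    fin_cases i <;> fin_cases j
    · exact ⟨1, H.one_mem, hone 0⟩
    · exact ⟨h, hh, (hσ 0).trans (congrArg D h0)⟩
    · exact ⟨h, hh, (hσ 1).trans (congrArg D h1)⟩
    · exact ⟨1, H.one_mem, hone 1⟩

/-- Two halves totally isotropic for the polar form. -/
theorem halves_cases (hn : 6 ≤ n) {H : Subgroup (GL (Fin n) F)} (hH : H ≤ omegaGL Q) {k : ℕ}
    {D : Fin 2 → Submodule F (Fin n → F)} (hk : 2 * k = n) (hD : IsMDecomposition k D)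
    (hts : ∀ i, IsTotallySingularFor (polar Q) (D i)) (hle : H ≤ decompositionStabilizer D) :
    Reduced Q H ∨ ∀ i, IsTotallySingularQuad Q (D i) := by
  classical
  by_cases h2 : (2 : F) = 0
  swap
  · refine .inr fun i w hw => ?_
    have e := hts i w hw w hw
    rw [b_self hQ] at e
    exact (mul_eq_zero.1 e).resolve_left h2
  haveI : CharP F 2 := CharTwo.of_one_ne_zero_of_two_eq_zero one_ne_zero h2
  rcases reduced_of_two hQ hH hD hle with h | htr
  · exact .inl h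
  by_cases hall : ∀ i, IsTotallySingularQuad Q (D i)
  · exact .inr hall
  left
  let Z : Fin 2 → Submodule F (Fin n → F) := fun i =>
    { carrier := {w | w ∈ D i ∧ Q w = 0}
      add_mem' := fun {a b} ha hb => ⟨(D i).add_mem ha.1 hb.1, by
        rw [q_add hQ, ha.2, hb.2, hts i a ha.1 b hb.1]; ring⟩
      zero_mem' := ⟨(D i).zero_mem, q_zero hQ⟩
      smul_mem' := fun c a ha => ⟨(D i).smul_mem _ ha.1, by rw [q_smul hQ, ha.2, mul_zero]⟩ }
  push Not at hall
  obtain ⟨i₀, hi₀⟩ := hall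
  simp only [IsTotallySingularQuad, not_forall] at hi₀
  obtain ⟨w₀, hw₀, hw₀Q⟩ := hi₀
  have hall' : ∀ i, ∃ w ∈ D i, Q w ≠ 0 := fun i => by
    obtain ⟨h, hh, hmap⟩ := htr i₀ i
    exact ⟨_, hmap.le ⟨w₀, hw₀, rfl⟩, by rw [Matrix.toLin'_apply, omega_isometry (hH hh)]; exact hw₀Q⟩
  have hlt : ∀ i, Z i < D i := fun i => by
    refine lt_of_le_not_ge (fun w hw => hw.1) fun hle' => ?_
    obtain ⟨w, hw, hwQ⟩ := hall' i
    exact hwQ (hle' hw).2
  obtain ⟨w₁, hw₁, hw₁Q⟩ := hall' 0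
  have hZ0 : Z 0 ≠ ⊥ := by
    intro h0
    have hDd := hD.finrank_eq 0
    have hle1 : D 0 ≤ Submodule.span F {w₁} := fun x hx => by
      obtain ⟨c, hc⟩ := CfsgLib.Derangements.EvenForms.exists_sqrt (F := F) (Q x / Q w₁)
      have hm : x + c • w₁ ∈ Z 0 := by
        refine ⟨(D 0).add_mem hx ((D 0).smul_mem _ hw₁), ?_⟩
        rw [q_add hQ, q_smul hQ, hts 0 x hx _ ((D 0).smul_mem _ hw₁), ← pow_two, hc]
        field_simp
        linear_combination Q x * h2
      rw [h0, Submodule.mem_bot] at hm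
      rw [eq_neg_of_add_eq_zero_left hm, Submodule.mem_span_singleton]
      exact ⟨-c, by rw [neg_smul]⟩
    have := Submodule.finrank_mono hle1
    rw [finrank_span_singleton (fun e => hw₁Q (by rw [e, q_zero hQ]))] at this
    omega
  refine reduced_of_invariant hQ hH (W := Z 0 ⊔ Z 1) (fun e => hZ0 (le_bot_iff.1 (e ▸ le_sup_left))) (fun e => ?_) ?_
  · have h1 := Submodule.finrank_sup_add_finrank_inf_eq (Z 0) (Z 1)
    rw [e, finrank_top, Module.finrank_fin_fun] at h1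
    have a := Submodule.finrank_lt_finrank_of_lt (hlt 0)
    have b := Submodule.finrank_lt_finrank_of_lt (hlt 1)
    rw [hD.finrank_eq] at a b
    omega
  · intro h hh v hv
    obtain ⟨a, ha, b, hb, rfl⟩ := Submodule.mem_sup.1 hv
    obtain ⟨σ, hσ⟩ := hle hh
    have key : ∀ i, ∀ x ∈ Z i, (h : Mat n F) *ᵥ x ∈ Z 0 ⊔ Z 1 := fun i x hx => by
      have hx' : (h : Mat n F) *ᵥ x ∈ Z (σ i) :=
        ⟨(hσ i).le ⟨x, hx.1, Matrix.toLin'_apply _ _⟩, (omega_isometry (hH hh) x).trans hx.2⟩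
      have h01 : ∀ j : Fin 2, Z j ≤ Z 0 ⊔ Z 1 := fun j => by
        fin_cases j
        · exact le_sup_left
        · exact le_sup_right
      exact h01 _ hx'
    rw [Matrix.mulVec_add]
    exact (Z 0 ⊔ Z 1).add_mem (key 0 a ha) (key 1 b hb)

/-- Aschbacher's theorem for a group of isometries of an even-dimensional quadratic form. -/
theorem geometric (hn : 6 ≤ n) {H : Subgroup (GL (Fin n) F)} (hH : H ≤ omegaGL Q) : Geometric Q H := by
  classical
  have hf := herm hQ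
  rcases AschForm.outcome (by omega) hf (fixesForm_omega hH) with
    ⟨W, h0, hW, hle⟩ | ⟨W, h0, hW, hd, hle⟩ | ⟨t, m, D, hD, hle, htr⟩ | ⟨k, D, hk, hD, hts, hle⟩ |
    ⟨r, K, hr, hK, hKt, hle⟩ | ⟨n₁, n₂, e, P, ε₁, ε₂, f₁, f₂, h1, h2, hf₁, hf₂, hT, hle⟩ |
    ⟨m, t, e, P, ε₁, f₁, L, hm, ht, hf₁, hT, hperf, hL0, hfix, hle⟩ |
    ⟨F₀, l, P, c, hl, hcard, hc, hP, hirr, hle⟩ | ⟨r, m, R, hm, hnm, hR, -, hsim, -, -⟩ | ⟨M, hM, hMf⟩
  · exact .inl (reduced_of_isotropic hQ hH h0 hW fun h hh v hv => ((hle hh) v).1 hv)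
  · exact .inl (.inr (.inr (.inl ⟨W, h0, hW, hd, hle⟩)))
  · rcases htr with htr | rfl
    · exact .inr (.inl ⟨t, m, D, ⟨hD, isometric_of_transitive (le_isometry hH) htr⟩, hle⟩)
    · rcases reduced_of_two hQ hH hD.decomp hle with h | htr'
      · exact .inl h
      · exact .inr (.inl ⟨2, m, D, ⟨hD, isometric_of_transitive (le_isometry hH) htr'⟩, hle⟩)
  · rcases halves_cases hQ hn hH hk hD hts hle with h | h
    · exact .inl h
    · exact .inr (.inr (.inl ⟨k, D, hk, hD, h, hle⟩))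
  · rcases hKt with ⟨-, hs⟩ | ⟨-, rfl, hadj, hns⟩ | ⟨hne, -⟩
    · exact .inr (.inr (.inr (.inl ⟨r, K, hr, AschGen.field_dvd (by omega) hK, hK, hs, hle⟩)))
    · rcases similar_or_reduced hQ hH (by omega) hK hadj hns hle with h | h
      · exact .inr (.inr (.inr (.inr (.inl ⟨K, hK, hadj, hns, h, hle⟩))))
      · exact .inl h
    · exact absurd rfl hne
  · exact .inr (.inr (.inr (.inr (.inr (.inl
      ⟨n₁, n₂, e, P, f₁, f₂, Tens.of_herm hQ hH h1 h2 hf₁ hf₂ hT hle⟩)))))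
  · exact .inr (.inr (.inr (.inr (.inr (.inr (.inl
      ⟨m, t, e, P, ε₁, f₁, L, hm, ht, hf₁, hT, hperf, hL0, hfix, hle⟩))))))
  · rw [Nat.card_eq_fintype_card] at hcard
    exact .inr (.inr (.inr (.inr (.inr (.inr (.inr (.inl ⟨F₀, l, P, c, hl, subfield_ne_top hl hcard, hcard, hc,
      quad_rational hQ hH (by omega) hc hP hirr hle, hle⟩)))))))
  · exact .inr (.inr (.inr (.inr (.inr (.inr (.inr (.inr (.inl ⟨r, m, R, hm, hnm, hR, hsim⟩))))))))
  · refine .inr (.inr (.inr (.inr (.inr (.inr (.inr (.inr (.inr ⟨M, hM, ?_⟩))))))))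
    rintro ⟨σ, f, hfu, hfix⟩
    obtain ⟨F₀, hne, hreal⟩ := OrthPrime.realisable_of_unitary (by omega) hM.absIrred hQ.polar_bilinear hQ.nondegenerate
      hMf hfu hfix
    exact hM.no_subfield F₀ hne hreal

end CfsgLib.Classical.OrthEven
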