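import Cfsg.Agent.Lib.Classical.OrthEven.Maximal
import Cfsg.Agent.Lib.Classical.AschSp.Basic

/-!
# Cases shared by the dimensions ten and twelve
-/

set_option autoImplicit false
set_option linter.unusedSectionVars false

namespace CfsgLib.Classical.OrthEven

open Matrix Cfsg Cfsg.Geo QuadraticMap CfsgLib.Orth CfsgLib.Classical CfsgLib.Classical.AschPrime
  CfsgLib.Classical.AschForm
open scoped MatrixGroups

variable {F : Type*} [Field F] [Fintype F] {n : ℕ}

/-- The stabilisers of small non-degenerate subspaces and of points. -/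
def SmallList (Q : (Fin n → F) → F) (H : Subgroup (GL (Fin n) F)) : Prop :=
  (Odd (Fintype.card F) ∧ ∃ W : Submodule F (Fin n → F), W ≠ ⊥ ∧ W ≠ ⊤ ∧ Odd (Module.finrank F W) ∧
      2 * Module.finrank F W ≠ n ∧ IsNondegenerateOn (polar Q) W ∧ H = subspaceStabilizer W ⊓ omegaGL Q) ∨
  (∃ W : Submodule F (Fin n → F), Module.finrank F W = 2 ∧ IsNondegenerateOn (polar Q) W ∧
      ¬ IsPlusTypeOn Q W ∧ H = subspaceStabilizer W ⊓ omegaGL Q) ∨
  (4 ≤ Fintype.card F ∧ ∃ W : Submodule F (Fin n → F), Module.finrank F W = 2 ∧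
      IsNondegenerateOn (polar Q) W ∧ IsPlusTypeOn Q W ∧ H = subspaceStabilizer W ⊓ omegaGL Q) ∨
  (∃ W : Submodule F (Fin n → F), Module.finrank F W = 4 ∧ IsNondegenerateOn (polar Q) W ∧
      H = subspaceStabilizer W ⊓ omegaGL Q) ∨
  (¬ Odd (Fintype.card F) ∧ ∃ v : Fin n → F, Q v ≠ 0 ∧
      H = subspaceStabilizer (Submodule.span F {v}) ⊓ omegaGL Q)

theorem card_ne_six : Fintype.card F ≠ 6 := by
  intro h
  obtain ⟨p, hcp⟩ := CharP.exists F
  obtain ⟨e, hpp, hcard⟩ := FiniteField.card F p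
  rw [hcard] at h
  have h2 : 2 ∣ p ^ (e : ℕ) := ⟨3, h⟩
  have h3 : 3 ∣ p ^ (e : ℕ) := ⟨2, h⟩
  have e2 := (Nat.prime_dvd_prime_iff_eq Nat.prime_two hpp).1 (Nat.prime_two.dvd_of_dvd_pow h2)
  have e3 := (Nat.prime_dvd_prime_iff_eq Nat.prime_three hpp).1 (Nat.prime_three.dvd_of_dvd_pow h3)
  omega

/-- An alternating non-degenerate form lives in even dimension. -/
theorem even_of_alternating {m : ℕ} {g : (Fin m → F) → (Fin m → F) → F} (hb : IsBilinearForm g)
    (hnd : IsNondegenerateForm g) (halt : ∀ u, g u u = 0) : Even m := by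
  have hskew : ∀ v w, g v w = -g w v := fun v w => by
    have h := halt (v + w)
    rw [hb.add_left, hb.add_right, hb.add_right, halt v, halt w] at h
    linear_combination h
  have h := AschSp.nondeg_finrank_even (f := g) ⟨hb, hskew, halt, hnd⟩ (W := ⊤) fun w _ hw => by
    obtain ⟨⟨x, hx⟩, ⟨y, hy⟩⟩ := hnd w hw
    exact ⟨⟨x, Submodule.mem_top, hx⟩, y, Submodule.mem_top, hy⟩
  rwa [finrank_top, Module.finrank_fin_fun] at h

theorem pair_decomp {m : ℕ} (hm : 0 < m) {A B : Submodule F (Fin n → F)} (hA : Module.finrank F A = m)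
    (hB : Module.finrank F B = m) (hc : IsCompl A B) : IsMDecomposition m ![A, B] where
  two_le := le_rfl
  pos := hm
  finrank_eq i := by fin_cases i <;> assumption
  indep := (iSupIndep_pair (i := (0 : Fin 2)) (j := 1) (by decide) (fun k => by omega)).mpr hc.disjoint
  iSup_eq_top := eq_top_iff.mpr (hc.sup_eq_top.symm.le.trans
    (sup_le (le_iSup ![A, B] 0) (le_iSup ![A, B] 1)))

theorem le_pair_stab {H : Subgroup (GL (Fin n) F)} {A B : Submodule F (Fin n → F)}
    (hA : H ≤ subspaceStabilizer A) (hB : H ≤ subspaceStabilizer B) : H ≤ decompositionStabilizer ![A, B] := by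
  intro h hh
  have hmap : ∀ S : Submodule F (Fin n → F), H ≤ subspaceStabilizer S →
      S.map (Matrix.toLin' (h : Mat n F)) = S := fun S hS => by
    ext x
    rw [Submodule.mem_map]
    refine ⟨?_, fun hx => ⟨((h⁻¹ : GL (Fin n) F) : Mat n F) *ᵥ x, ?_, ?_⟩⟩
    · rintro ⟨y, hy, rfl⟩; exact (hS hh y).1 hy
    · exact (hS (H.inv_mem hh) x).1 hx
    · rw [Matrix.toLin'_apply, Matrix.mulVec_mulVec, Units.mul_inv, Matrix.one_mulVec]
  exact ⟨1, fun i => by fin_cases i <;> simp [hmap A hA, hmap B hB]⟩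

theorem isCompl_of_pair {m : ℕ} {D : Fin 2 → Submodule F (Fin n → F)} (hD : IsMDecomposition m D) :
    IsCompl (D 0) (D 1) := by
  refine ⟨hD.indep.pairwiseDisjoint (by decide), codisjoint_iff.2 (eq_top_iff.2 ?_)⟩
  rw [← hD.iSup_eq_top]
  exact iSup_le fun i => by fin_cases i <;> simp

variable {Q : (Fin n → F) → F} (hQ : IsNondegenerateQuadraticForm Q)
  {H : Subgroup (GL (Fin n) F)} (hH : IsMaximalIn (omegaGL Q) H)
include hQ hH

/-- A non-degenerate subspace of less than half the dimension. -/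
theorem small_cases (hn : 7 ≤ n) (hn' : n ≤ 12) {U : Submodule F (Fin n → F)} (h0 : U ≠ ⊥)
    (hU : IsNondegenerateOn (polar Q) U) (hd : 2 * Module.finrank F U < n) (hle : H ≤ subspaceStabilizer U) :
    SmallList Q H := by
  have hHle : H ≤ omegaGL Q := hH.1.le
  have heq := eq_stab_of_lt hQ hn hH h0 (by omega) hle
  have hd0 : Module.finrank F U ≠ 0 := fun e => h0 (Submodule.finrank_eq_zero.1 e)
  rcases Nat.even_or_odd (Module.finrank F U) with he | ho
  · have hd2 : Module.finrank F U = 2 ∨ Module.finrank F U = 4 := by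
      obtain ⟨c, hc⟩ := he
      omega
    rcases hd2 with hd2 | hd4
    · by_cases hp : IsPlusTypeOn Q U
      · by_cases hq : 4 ≤ Fintype.card F
        · exact .inr (.inr (.inl ⟨hq, U, hd2, hU, hp, heq⟩))
        · obtain ⟨v, hv, hle'⟩ := plane_line hQ hHle hq hU hd2 hp hle
          have hv0 : Q v ≠ 0 := by rw [hv]; exact one_ne_zero
          by_cases hodd : Odd (Fintype.card F)
          · have hvn : v ≠ 0 := fun e => hv0 (by rw [e, q_zero hQ])
            refine .inl ⟨hodd, Submodule.span F {v}, ?_, ?_, ?_, ?_,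
              nondegenerateOn_line hQ (odd_card_iff.1 hodd) hv0, eq_point hQ hn hH hv0 hle'⟩
            · simpa using hvn
            · intro e
              have := congrArg (fun S : Submodule F (Fin n → F) => Module.finrank F S) e
              simp only [finrank_span_singleton hvn, finrank_top, Module.finrank_fin_fun] at this
              omega
            · rw [finrank_span_singleton hvn]; exact odd_one
            · rw [finrank_span_singleton hvn]; omega
          · exact .inr (.inr (.inr (.inr ⟨hodd, v, hv0, eq_point hQ hn hH hv0 hle'⟩)))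
      · exact .inr (.inl ⟨U, hd2, hU, hp, heq⟩)
    · exact .inr (.inr (.inr (.inl ⟨U, hd4, hU, heq⟩)))
  · refine .inl ⟨?_, U, h0, fun e => ?_, ho, by omega, hU, heq⟩
    · rw [odd_card_iff]
      exact fun h2 => Nat.not_even_iff_odd.2 ho (even_of_nondegenerateOn hQ h2 hU)
    · rw [e, finrank_top, Module.finrank_fin_fun] at hd; omega

omit hH in
/-- Two orthogonal halves of odd dimension. -/
theorem odd_halves {k : ℕ} {D : Fin 2 → Submodule F (Fin n → F)} (hk : Odd k)
    (hD : IsNondegenerateMDecomposition (polar Q) k D) :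
    Odd (Fintype.card F) ∧ (AreIsometricFor Q (D 0) (D 1) → (IsPlusTypeOn Q ⊤ ↔ Fintype.card F % 4 ≠ 3)) ∧
      (¬ AreIsometricFor Q (D 0) (D 1) → (IsPlusTypeOn Q ⊤ ↔ Fintype.card F % 4 = 3)) := by
  have h2 : (2 : F) ≠ 0 := fun h2 => Nat.not_even_iff_odd.2 hk
    (hD.decomp.finrank_eq 0 ▸ even_of_nondegenerateOn hQ h2 (hD.nondegenerate 0))
  obtain ⟨c, rfl⟩ := hk
  have hc := isCompl_of_pair hD.decomp
  have ho := hD.orthogonal 0 1 (by decide)
  exact ⟨odd_card_iff.2 h2, plus_iff_of_isometric_odd hQ h2 (hD.nondegenerate 0) hc ho (hD.decomp.finrank_eq 0),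
    plus_iff_of_not_isometric_odd hQ h2 (hD.nondegenerate 0) (hD.nondegenerate 1) hc ho
      (hD.decomp.finrank_eq 0) (hD.decomp.finrank_eq 1)⟩

omit hH in
/-- A decomposition into lines: a prime field or a subfield group. -/
theorem lines_cases (hH' : H ≤ omegaGL Q) {D : Fin n → Submodule F (Fin n → F)}
    (hD : IsOrthogonalMDecomposition Q 1 D) (hle : H ≤ decompositionStabilizer D) :
    (∃ p : ℕ, p.Prime ∧ Odd p ∧ Fintype.card F = p) ∨
    ∃ (F₀ : Subfield F) (l : ℕ) (P : GL (Fin n) F) (ζ : F), l.Prime ∧ F₀ ≠ ⊤ ∧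
      Fintype.card F = Nat.card F₀ ^ l ∧ ζ ≠ 0 ∧ IsQuadFormRationalStructure (fun v => ζ * Q v) F₀ P ∧
      H ≤ subfieldSubgroup F₀ P := by
  obtain ⟨v, a, ha, h2, hv, hvo, hDv⟩ := exists_frame hQ hD
  by_cases hp : (Fintype.card F).Prime
  · exact .inl ⟨_, hp, odd_card_iff.2 h2, rfl⟩
  · obtain ⟨F₁, l, hne, hl, hcard⟩ := OrthPrime.exists_prime_index_bot hp
    rw [show D = fun i => Submodule.span F {v i} from funext hDv] at hle
    obtain ⟨P, hP, hle'⟩ := monomial_rational hQ hH' h2 ha hv hvo hle F₁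
    exact .inr ⟨F₁, l, P, a⁻¹, hl, hne, hcard, inv_ne_zero ha, hP, hle'⟩

end CfsgLib.Classical.OrthEven
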