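import Cfsg.Agent.Lib.Classical.OrthEven.Maximal

/-!
# The maximal subgroups in dimension eight, minus type
-/

set_option autoImplicit false
set_option linter.unusedSectionVars false

namespace CfsgLib.Classical.OrthEven

open Matrix Cfsg Cfsg.Geo QuadraticMap CfsgLib.Orth CfsgLib.Classical CfsgLib.Classical.AschPrime
  CfsgLib.Classical.AschForm
open scoped MatrixGroups

variable {F : Type*} [Field F] [Fintype F] {Q : (Fin 8 → F) → F}

/-- The classes in dimension eight, minus type. -/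
theorem eight_minus_cases (hQ : IsNondegenerateQuadraticForm Q) (hminus : ¬ IsPlusTypeOn Q ⊤)
    {H : Subgroup (GL (Fin 8) F)} (hH : IsMaximalIn (omegaGL Q) H) :
    (∃ W : Submodule F (Fin 8 → F), W ≠ ⊥ ∧ IsTotallySingularQuad Q W ∧ H = subspaceStabilizer W ⊓ omegaGL Q) ∨
    (Odd (Fintype.card F) ∧ ∃ W : Submodule F (Fin 8 → F), W ≠ ⊥ ∧ W ≠ ⊤ ∧ Odd (Module.finrank F W) ∧
      IsNondegenerateOn (polar Q) W ∧ H = subspaceStabilizer W ⊓ omegaGL Q) ∨
    (∃ W : Submodule F (Fin 8 → F), Module.finrank F W = 2 ∧ IsNondegenerateOn (polar Q) W ∧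
      ¬ IsPlusTypeOn Q W ∧ H = subspaceStabilizer W ⊓ omegaGL Q) ∨
    (4 ≤ Fintype.card F ∧ ∃ W : Submodule F (Fin 8 → F), Module.finrank F W = 2 ∧
      IsNondegenerateOn (polar Q) W ∧ IsPlusTypeOn Q W ∧ H = subspaceStabilizer W ⊓ omegaGL Q) ∨
    (∃ W : Submodule F (Fin 8 → F), Module.finrank F W = 4 ∧ IsNondegenerateOn (polar Q) W ∧
      H = subspaceStabilizer W ⊓ omegaGL Q) ∨
    (¬ Odd (Fintype.card F) ∧ ∃ v : Fin 8 → F, Q v ≠ 0 ∧
      H = subspaceStabilizer (Submodule.span F {v}) ⊓ omegaGL Q) ∨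
    (∃ K : Subalgebra F (Mat 8 F), IsFieldSubalgebra 2 K ∧ H = subalgebraNormalizer K ⊓ omegaGL Q) ∨
    (∃ (F₀ : Subfield F) (r : ℕ) (P : GL (Fin 8) F) (ζ : F), r.Prime ∧ Odd r ∧
      Fintype.card F = Nat.card F₀ ^ r ∧ ζ ≠ 0 ∧ IsQuadFormRationalStructure (fun v => ζ * Q v) F₀ P ∧
      H = subfieldSubgroup F₀ P ⊓ omegaGL Q) ∨
    InOrthogonalResidualClass H := by
  classical
  have hn : 7 ≤ 8 := by norm_num
  have hHle : H ≤ omegaGL Q := hH.1.le
  have red : Reduced Q H →
    (∃ W : Submodule F (Fin 8 → F), W ≠ ⊥ ∧ IsTotallySingularQuad Q W ∧ H = subspaceStabilizer W ⊓ omegaGL Q) ∨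
    (Odd (Fintype.card F) ∧ ∃ W : Submodule F (Fin 8 → F), W ≠ ⊥ ∧ W ≠ ⊤ ∧ Odd (Module.finrank F W) ∧
      IsNondegenerateOn (polar Q) W ∧ H = subspaceStabilizer W ⊓ omegaGL Q) ∨
    (∃ W : Submodule F (Fin 8 → F), Module.finrank F W = 2 ∧ IsNondegenerateOn (polar Q) W ∧
      ¬ IsPlusTypeOn Q W ∧ H = subspaceStabilizer W ⊓ omegaGL Q) ∨
    (4 ≤ Fintype.card F ∧ ∃ W : Submodule F (Fin 8 → F), Module.finrank F W = 2 ∧
      IsNondegenerateOn (polar Q) W ∧ IsPlusTypeOn Q W ∧ H = subspaceStabilizer W ⊓ omegaGL Q) ∨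
    (∃ W : Submodule F (Fin 8 → F), Module.finrank F W = 4 ∧ IsNondegenerateOn (polar Q) W ∧
      H = subspaceStabilizer W ⊓ omegaGL Q) ∨
    (¬ Odd (Fintype.card F) ∧ ∃ v : Fin 8 → F, Q v ≠ 0 ∧
      H = subspaceStabilizer (Submodule.span F {v}) ⊓ omegaGL Q) := by
    rintro (⟨U, h0, hU, hle⟩ | ⟨hev, v, hv, hle⟩ | ⟨U, h0, hU, hd, hle⟩ | ⟨U, hU, hd, hle⟩)
    · exact .inl ⟨U, h0, hU, eq_stab_ts hQ hn hH h0 hU hle⟩
    · exact .inr (.inr (.inr (.inr (.inr ⟨hev, v, hv, eq_point hQ hn hH hv hle⟩))))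
    · have heq := eq_stab_of_lt hQ hn hH h0 (by omega) hle
      rcases Nat.even_or_odd (Module.finrank F U) with he | ho
      · have hd2 : Module.finrank F U = 2 := by
          obtain ⟨c, hc⟩ := he
          have : Module.finrank F U ≠ 0 := fun e => h0 (Submodule.finrank_eq_zero.1 e)
          omega
        by_cases hp : IsPlusTypeOn Q U
        · by_cases hq : 4 ≤ Fintype.card F
          · exact .inr (.inr (.inr (.inl ⟨hq, U, hd2, hU, hp, heq⟩)))
          · obtain ⟨v, hv, hle'⟩ := plane_line hQ hHle hq hU hd2 hp hle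
            have hv0 : Q v ≠ 0 := by rw [hv]; exact one_ne_zero
            by_cases hodd : Odd (Fintype.card F)
            · have hvn : v ≠ 0 := fun e => hv0 (by rw [e, q_zero hQ])
              refine .inr (.inl ⟨hodd, Submodule.span F {v}, ?_, ?_, ?_,
                nondegenerateOn_line hQ (odd_card_iff.1 hodd) hv0, eq_point hQ hn hH hv0 hle'⟩)
              · simpa using hvn
              · intro e
                have := congrArg (fun S : Submodule F (Fin 8 → F) => Module.finrank F S) e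
                simp only [finrank_span_singleton hvn, finrank_top, Module.finrank_fin_fun] at this
                omega
              · rw [finrank_span_singleton hvn]; exact odd_one
            · exact .inr (.inr (.inr (.inr (.inr ⟨hodd, v, hv0, eq_point hQ hn hH hv0 hle'⟩))))
        · exact .inr (.inr (.inl ⟨U, hd2, hU, hp, heq⟩))
      · refine .inr (.inl ⟨?_, U, h0, fun e => ?_, ho, hU, heq⟩)
        · rw [odd_card_iff]
          exact fun h2 => Nat.not_even_iff_odd.2 ho (even_of_nondegenerateOn hQ h2 hU)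
        · rw [e, finrank_top, Module.finrank_fin_fun] at hd; omega
    · have h0 : U ≠ ⊥ := fun e => by rw [e, finrank_bot] at hd; omega
      exact .inr (.inr (.inr (.inr (.inl ⟨U, by omega, hU, eq_stab_of_lt hQ hn hH h0 (by omega) hle⟩))))
  have noHalves : ∀ (k : ℕ) (D : Fin 2 → Submodule F (Fin 8 → F)), 2 * k = 8 → IsMDecomposition k D →
      (∀ i, IsTotallySingularQuad Q (D i)) → False := fun k D hk hD hts =>
    hminus ⟨D 0, le_top, hts 0, by rw [finrank_top, Module.finrank_fin_fun, hD.finrank_eq 0, hk]⟩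
  rcases geometric hQ (by norm_num) hHle with h | ⟨t, m, D, hD, hle⟩ | ⟨k, D, hk, hD, hts, hle⟩ |
    ⟨r, K, hr, hrd, hK, -, hle⟩ | ⟨K, hK, -, -, -, hle⟩ | ⟨n₁, n₂, e, P, f₁, f₂, T⟩ |
    ⟨m, t, e, P, ε₁, f₁, L, hm, ht, hf₁, hT, hperf, hL0, hfix, hle⟩ |
    ⟨F₀, l, P, ζ, hl, hne, hcard, hζ, hP, hle⟩ | ⟨r, m, R, hm, hnm, hR, hsim⟩ | h
  · exact (red h).imp_right (Or.imp_right (Or.imp_right (Or.imp_right (Or.imp_right Or.inl))))
  · exfalso
    have htm := AschGen.decomp_card hD.decomp.decomp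
    have hm : 0 < m := hD.decomp.decomp.pos
    have ht := hD.decomp.decomp.two_le
    rcases Nat.even_or_odd m with he | ho
    · refine hminus ((plus_iff_members hQ hD.decomp he
        (fun i j => plus_iff_of_isometric (hD.isometric i j)) ⟨0, by omega⟩).1 ?_)
      obtain ⟨c, hc⟩ := he
      have hc1 : 1 ≤ c := by omega
      have hc4 : c ≤ 2 := by
        by_contra hc3
        nlinarith
      interval_cases c <;> subst hc
      · exact ⟨2, by omega⟩
      · exact ⟨1, by omega⟩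
    · obtain ⟨c, rfl⟩ := ho
      have h1 : c = 0 := by
        have hdvd : 2 * c + 1 ∣ 8 := ⟨t, by rw [← htm]; ring⟩
        have hle8 := Nat.le_of_dvd (by norm_num) hdvd
        have : c ≤ 3 := by omega
        interval_cases c <;> simp_all (config := { decide := true })
      subst h1
      obtain rfl : t = 8 := by simpa using htm
      obtain ⟨v, a, ha, h2, hv, hvo, -⟩ := exists_frame hQ hD
      exact hminus ((frame_type hQ h2 (s := 4) rfl (by norm_num) ha hv hvo).1 ⟨2, rfl⟩)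
  · exact (noHalves k D hk hD hts).elim
  · obtain rfl : r = 2 := (Nat.prime_dvd_prime_iff_eq hr Nat.prime_two).1 (hr.dvd_of_dvd_pow (n := 3) hrd)
    exact .inr (.inr (.inr (.inr (.inr (.inr (.inl ⟨K, hK, eq_field hQ hn hH hr hK hle⟩))))))
  · exact .inr (.inr (.inr (.inr (.inr (.inr (.inl ⟨K, hK, eq_field hQ hn hH Nat.prime_two hK hle⟩))))))
  · have plane : ∀ {a b : ℕ} {e' : Fin 8 ≃ Fin a × Fin b} {g₁ : (Fin a → F) → (Fin a → F) → F}
        {g₂ : (Fin b → F) → (Fin b → F) → F}, a = 2 → Tens Q H e' P g₁ g₂ →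
          Reduced Q H ∨ ∃ K : Subalgebra F (Mat 8 F), IsFieldSubalgebra 2 K ∧ H ≤ subalgebraNormalizer K :=
      fun {a b e' g₁ g₂} ha T' => by
        rcases tens_plane hQ hH T' ha with h | ⟨K, hK, -, -, hle⟩ | ⟨k, D, hk, hD, hts, -⟩ | ⟨-, -, hz⟩
        · exact .inl h
        · exact .inr ⟨K, hK, hle⟩
        · exact (noHalves k D hk hD hts).elim
        · exact (hminus (plus_of_pure T' ha hz)).elim
    have hc := card_eq e
    have h1 := T.two_le₁
    have h2 := T.two_le₂
    have key : Reduced Q H ∨ ∃ K : Subalgebra F (Mat 8 F), IsFieldSubalgebra 2 K ∧ H ≤ subalgebraNormalizer K := by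
      by_cases hn₁ : n₁ = 2
      · exact plane hn₁ T
      · refine plane ?_ T.swap
        have : n₁ ≤ 4 := by nlinarith
        interval_cases n₁ <;> omega
    rcases key with h | ⟨K, hK, hle⟩
    · exact (red h).imp_right (Or.imp_right (Or.imp_right (Or.imp_right (Or.imp_right Or.inl))))
    · exact .inr (.inr (.inr (.inr (.inr (.inr (.inl ⟨K, hK, eq_field hQ hn hH Nat.prime_two hK hle⟩))))))
  · have hc : 8 = m ^ t := by simpa using Fintype.card_congr e
    have h1 : m ^ 2 ≤ m ^ t := Nat.pow_le_pow_right (by omega) ht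
    obtain rfl : m = 2 := by nlinarith
    obtain rfl : t = 3 := Nat.pow_right_injective (le_refl 2) hc.symm
    rcases cube_reduced hQ hHle hf₁ hT hperf hL0 hfix hle with h | h
    · exact (red h).imp_right (Or.imp_right (Or.imp_right (Or.imp_right (Or.imp_right Or.inl))))
    · exact absurd h hminus
  · have hodd : Odd l := by
      rcases hl.eq_two_or_odd' with rfl | h
      · exact absurd (plus_of_rational hQ (k := 4) rfl hcard hζ hP) hminus
      · exact h
    exact .inr (.inr (.inr (.inr (.inr (.inr (.inr (.inl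
      ⟨F₀, l, P, ζ, hl, hodd, hcard, hζ, hP, eq_subfield hQ hn hH hne hle⟩)))))))
  · exact absurd (plus_of_symType hQ rfl hnm hR hsim) hminus
  · exact .inr (.inr (.inr (.inr (.inr (.inr (.inr (.inr h)))))))

end CfsgLib.Classical.OrthEven
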