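import Cfsg.Agent.Lib.Classical.OrthEven.OddParts
import Cfsg.Agent.Lib.Classical.AschGen.NotSL
import Cfsg.Agent.Lib.Classical.SubfieldMax.Member

/-!
# Orthogonal frames of equal norm, four odd parts, and monomial groups
-/

set_option autoImplicit false
set_option linter.unusedSectionVars false

namespace CfsgLib.Classical.OrthEven

open Matrix Cfsg Cfsg.Geo QuadraticMap CfsgLib.Orth CfsgLib.Classical CfsgLib.Classical.AschPrime
  CfsgLib.Classical.AschForm CfsgLib.Derangements.OrthInv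
open scoped MatrixGroups

variable {F : Type*} [Field F] [Fintype F] {n : ℕ} {Q : (Fin n → F) → F} (hQ : IsNondegenerateQuadraticForm Q)
include hQ

/-- Pairwise orthogonal isometric lines give a frame of equal norm. -/
theorem exists_frame {D : Fin n → Submodule F (Fin n → F)} (hD : IsOrthogonalMDecomposition Q 1 D) :
    ∃ (v : Fin n → Fin n → F) (a : F), a ≠ 0 ∧ (2 : F) ≠ 0 ∧ (∀ i, Q (v i) = a) ∧
      (∀ i j, i ≠ j → polar Q (v i) (v j) = 0) ∧ ∀ i, D i = Submodule.span F {v i} := by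
  obtain ⟨i₀⟩ : Nonempty (Fin n) := ⟨⟨0, by have := hD.decomp.decomp.two_le; omega⟩⟩
  obtain ⟨w, hw, hw0⟩ := Submodule.exists_mem_ne_zero_of_ne_bot (p := D i₀) (fun e => by
    have := hD.decomp.decomp.finrank_eq i₀
    rw [e, finrank_bot] at this; omega)
  have h2a : (2 : F) * Q w ≠ 0 := by
    obtain ⟨x, hx, hxw⟩ := (hD.decomp.nondegenerate i₀ w hw hw0).1
    obtain ⟨c, hc⟩ := exists_smul_eq_of_finrank_eq_one (hD.decomp.decomp.finrank_eq i₀)
      (x := (⟨w, hw⟩ : D i₀)) (fun e => hw0 (congrArg Subtype.val e)) ⟨x, hx⟩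
    intro h
    apply hxw
    rw [show x = c • w from (congrArg Subtype.val hc).symm, hQ.polar_bilinear.smul_left, b_self hQ, h, mul_zero]
  choose e he using fun i => hD.isometric i₀ i
  refine ⟨fun i => (e i ⟨w, hw⟩ : D i), Q w, right_ne_zero_of_mul h2a, left_ne_zero_of_mul h2a, fun i => he i _,
    fun i j h => hD.decomp.orthogonal i j h _ (Subtype.coe_prop _) _ (Subtype.coe_prop _), fun i => ?_⟩
  have hv0 : ((e i ⟨w, hw⟩ : D i) : Fin n → F) ≠ 0 := fun h => hw0 (congrArg Subtype.val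
    ((LinearEquiv.map_eq_zero_iff (e i)).1 (Subtype.ext h)))
  refine (Submodule.eq_of_le_of_finrank_eq ((Submodule.span_singleton_le_iff_mem _ _).2 (Subtype.coe_prop _)) ?_).symm
  rw [finrank_span_singleton hv0, hD.decomp.decomp.finrank_eq i]

/-- Non-degenerate pairwise orthogonal subspaces are independent. -/
theorem indep_of_orth {t : ℕ} {D : Fin t → Submodule F (Fin n → F)} (hnd : ∀ i, IsNondegenerateOn (polar Q) (D i))
    (ho : ∀ i j, i ≠ j → AreOrthogonalFor (polar Q) (D i) (D j)) : iSupIndep D := by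
  intro i
  rw [Submodule.disjoint_def]
  intro x hx hx'
  by_contra h0
  obtain ⟨y, hy, hyx⟩ := (hnd i x hx h0).1
  have hle : (⨆ (j) (_ : j ≠ i), D j) ≤ LinearMap.ker (polarBilin (qf hQ) y) :=
    iSup₂_le fun j hj z hz => ho i j (Ne.symm hj) y hy z hz
  exact hyx (hle hx')

/-- The type of a space with a frame of equal norm. -/
theorem frame_type (h2 : (2 : F) ≠ 0) {s : ℕ} (hn : n = 2 * s) (hs : 2 ≤ s) {v : Fin n → Fin n → F} {a : F}
    (ha : a ≠ 0) (hv : ∀ i, Q (v i) = a) (ho : ∀ i j, i ≠ j → polar Q (v i) (v j) = 0) :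
    (Even s → IsPlusTypeOn Q ⊤) ∧ (Odd s → (IsPlusTypeOn Q ⊤ ↔ Fintype.card F % 4 ≠ 3)) := by
  classical
  have hb := hQ.polar_bilinear
  have hli : LinearIndependent F v := Fintype.linearIndependent_iff.2 fun g hg i => by
    have e := congrArg (polarBilin (qf hQ) (v i)) hg
    rw [map_sum, Finset.sum_eq_single i (fun j _ hj => by
      rw [map_smul, polarBilin_apply_apply, coe_qf hQ, ho i j (Ne.symm hj), smul_zero]) (by simp), map_smul,
      map_zero, polarBilin_apply_apply, coe_qf hQ, b_self hQ, hv, smul_eq_mul] at e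
    exact (mul_eq_zero.1 e).resolve_right (mul_ne_zero h2 ha)
  let c₀ : Fin s → Fin n := fun i => ⟨2 * i.1, by omega⟩
  let c₁ : Fin s → Fin n := fun i => ⟨2 * i.1 + 1, by omega⟩
  have h01 : ∀ i j, c₀ i ≠ c₁ j := fun i j e => by
    have := congrArg Fin.val e; simp only [c₀, c₁] at this; omega
  have h00 : ∀ i j, i ≠ j → c₀ i ≠ c₀ j := fun i j h e => h (Fin.ext (by
    have := congrArg Fin.val e; simp only [c₀] at this; omega))
  have h11 : ∀ i j, i ≠ j → c₁ i ≠ c₁ j := fun i j h e => h (Fin.ext (by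
    have := congrArg Fin.val e; simp only [c₁] at this; omega))
  let g : Fin s → F × F →ₗ[F] (Fin n → F) := fun i =>
    LinearMap.coprod (LinearMap.toSpanSingleton F _ (v (c₀ i))) (LinearMap.toSpanSingleton F _ (v (c₁ i)))
  have hg : ∀ i x y, g i (x, y) = x • v (c₀ i) + y • v (c₁ i) := fun i x y => rfl
  have hgQ : ∀ i x y, Q (g i (x, y)) = (x * x + y * y) * a := fun i x y => by
    rw [hg, q_add hQ, q_smul hQ, q_smul hQ, hv, hv, hb.smul_left, hb.smul_right, ho _ _ (h01 i i)]; ring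
  let D' : Fin s → Submodule F (Fin n → F) := fun i => LinearMap.range (g i)
  have hginj : ∀ i, Function.Injective (g i) := fun i => (injective_iff_map_eq_zero (g i)).2 fun ⟨x, y⟩ h => by
    rw [hg] at h
    have := LinearIndependent.pair_iff.1 (show LinearIndependent F ![v (c₀ i), v (c₁ i)] by
      convert hli.comp ![c₀ i, c₁ i] (by
        intro p q; fin_cases p <;> fin_cases q <;> simp [h01 i i, Ne.symm (h01 i i)]) using 1
      funext p; fin_cases p <;> rfl) x y h
    exact Prod.ext this.1 this.2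
  have hnd : ∀ i, IsNondegenerateOn (polar Q) (D' i) := by
    rintro i _ ⟨⟨x, y⟩, rfl⟩ h0
    suffices h : ∃ z ∈ D' i, polar Q z (g i (x, y)) ≠ 0 by
      obtain ⟨z, hz, hzx⟩ := h
      exact ⟨⟨z, hz, hzx⟩, z, hz, by rwa [b_comm hQ]⟩
    by_cases hx : x = 0
    · have hy : y ≠ 0 := fun hy => h0 (by rw [hx, hy]; exact map_zero (g i))
      refine ⟨v (c₁ i), ⟨(0, 1), by rw [hg]; simp⟩, ?_⟩
      rw [hg, hb.add_right, hb.smul_right, hb.smul_right, b_self hQ, hx, hv]
      simp [h2, ha, hy]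
    · refine ⟨v (c₀ i), ⟨(1, 0), by rw [hg]; simp⟩, ?_⟩
      rw [hg, hb.add_right, hb.smul_right, hb.smul_right, b_self hQ, hv, ho _ _ (h01 i i)]
      simp [h2, ha, hx]
  have horth : ∀ i j, i ≠ j → AreOrthogonalFor (polar Q) (D' i) (D' j) := by
    rintro i j hij _ ⟨⟨x, y⟩, rfl⟩ _ ⟨⟨x', y'⟩, rfl⟩
    simp [hg, hb.add_left, hb.add_right, hb.smul_left, hb.smul_right, ho _ _ (h00 i j hij), ho _ _ (h11 i j hij),
      ho _ _ (h01 i j), ho _ _ (Ne.symm (h01 j i))]
  have hD : IsNondegenerateMDecomposition (polar Q) 2 D' := by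
    refine ⟨⟨hs, two_pos, fun i => by
      rw [LinearMap.finrank_range_of_inj (hginj i), Module.finrank_prod, Module.finrank_self],
      indep_of_orth hQ hnd horth, eq_top_iff.2 ?_⟩, hnd, horth⟩
    rw [← hli.span_eq_top_of_card_eq_finrank' (by simp), Submodule.span_le]
    rintro _ ⟨i, rfl⟩
    rcases Nat.even_or_odd' i.1 with ⟨j, hj | hj⟩
    · refine Submodule.mem_iSup_of_mem (⟨j, by omega⟩ : Fin s) ⟨(1, 0), ?_⟩
      rw [hg, one_smul, zero_smul, add_zero]
      exact congrArg v (Fin.ext hj.symm)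
    · refine Submodule.mem_iSup_of_mem (⟨j, by omega⟩ : Fin s) ⟨(0, 1), ?_⟩
      rw [hg, one_smul, zero_smul, zero_add]
      exact congrArg v (Fin.ext hj.symm)
  have htype : ∀ i, IsPlusTypeOn Q (D' i) ↔ IsSquare (-1 : F) := by
    intro i
    constructor
    · rintro ⟨S, hS, hSQ, hSd⟩
      rw [hD.decomp.finrank_eq i] at hSd
      obtain ⟨z, hz, hz0⟩ := Submodule.exists_mem_ne_zero_of_ne_bot (p := S) (fun e => by
        rw [e, finrank_bot] at hSd; omega)
      obtain ⟨⟨x, y⟩, rfl⟩ := hS hz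
      have e := hSQ _ hz
      rw [hgQ] at e
      replace e := (mul_eq_zero.1 e).resolve_right ha
      by_cases hy : y = 0
      · subst hy
        refine absurd ?_ hz0
        rw [show x = 0 from mul_self_eq_zero.1 (by linear_combination e)]
        exact map_zero (g i)
      · refine ⟨x / y, ?_⟩
        rw [div_mul_div_comm, eq_div_iff (mul_ne_zero hy hy)]
        linear_combination -e
    · rintro ⟨r, hr⟩
      refine ⟨Submodule.span F {g i (r, 1)}, (Submodule.span_singleton_le_iff_mem _ _).2 ⟨_, rfl⟩, fun w hw => ?_, ?_⟩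
      · obtain ⟨c, rfl⟩ := Submodule.mem_span_singleton.1 hw
        rw [q_smul hQ, hgQ, ← hr]; ring
      · rw [finrank_span_singleton (fun h => one_ne_zero ((Prod.ext_iff.1 (hginj i (h.trans (map_zero (g i)).symm))).2)),
          hD.decomp.finrank_eq i]
  obtain ⟨h1, h3⟩ := plus_iff_members hQ hD even_two (fun i j => (htype i).trans (htype j).symm) ⟨0, by omega⟩
  exact ⟨h1, fun ho' => ((h3 ho').trans (htype _)).trans neg_one_square_iff⟩

/-- Four pairwise orthogonal isometric subspaces of odd dimension make plus type. -/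
theorem four_plus (h2 : (2 : F) ≠ 0) {k : ℕ} {D : Fin 4 → Submodule F (Fin n → F)}
    (hD : IsOrthogonalMDecomposition Q (2 * k + 1) D) : IsPlusTypeOn Q ⊤ := by
  classical
  have hb := hQ.polar_bilinear
  obtain ⟨α, Φ, hα, hΦ⟩ := odd_core hQ h2 (hD.decomp.nondegenerate 0) (hD.decomp.decomp.finrank_eq 0)
  choose e he using fun i => hD.isometric 0 i
  obtain ⟨L, hL, hLd⟩ := CfsgLib.Derangements.EvenForms.plus_plusForm (F := F) k
  obtain ⟨p, hchar⟩ := CharP.exists F
  haveI : NeZero p := ⟨(CharP.char_is_prime F p).ne_zero⟩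
  obtain ⟨x, y, hxy⟩ : ∃ x y : F, x ^ 2 + y ^ 2 = -1 := by
    obtain ⟨a, b, hab⟩ := CharP.sq_add_sq F p (-1)
    exact ⟨(a : F), (b : F), by simpa using hab⟩
  let w : Fin 4 → Fin 2 → F := ![![x, -y], ![y, x], ![1, 0], ![0, 1]]
  let Ψ : Fin 4 → ((Fin k ⊕ Fin k → F) × F) →ₗ[F] (Fin n → F) := fun i =>
    (D i).subtype.comp (Φ.trans (e i)).toLinearMap
  have hΨQ : ∀ i p, Q (Ψ i p) = plusForm F k p.1 + p.2 * p.2 * α := fun i p => (he i (Φ p)).trans (hΦ p)
  let f : (Fin 4 → L) × (Fin 2 → F) →ₗ[F] (Fin n → F) :=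
    ∑ i, (Ψ i).comp (LinearMap.prod (L.subtype.comp ((LinearMap.proj i).comp (LinearMap.fst F _ _)))
      ((∑ j, w i j • LinearMap.proj j).comp (LinearMap.snd F _ _)))
  have hf : ∀ p, f p = ∑ i, Ψ i ((p.1 i : Fin k ⊕ Fin k → F), ∑ j, w i j * p.2 j) := fun p => by
    simp [f, LinearMap.sum_apply]
  have hinj : Function.Injective f := (injective_iff_map_eq_zero f).2 fun p hp => by
    rw [hf] at hp
    have hz : ∀ i, Ψ i ((p.1 i : Fin k ⊕ Fin k → F), ∑ j, w i j * p.2 j) = 0 := fun i =>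
      (iSupIndep_iff_finset_sum_eq_zero_imp_eq_zero _).1 hD.decomp.decomp.indep Finset.univ
        (fun i => Ψ i ((p.1 i : Fin k ⊕ Fin k → F), ∑ j, w i j * p.2 j)) (fun i _ => Subtype.coe_prop _) hp i
        (Finset.mem_univ i)
    have hz' : ∀ i, ((p.1 i : Fin k ⊕ Fin k → F), ∑ j, w i j * p.2 j) = 0 := fun i =>
      (LinearEquiv.map_eq_zero_iff (Φ.trans (e i))).1 (Subtype.ext (hz i))
    refine Prod.ext (funext fun i => Subtype.ext (Prod.ext_iff.1 (hz' i)).1) (funext fun j => ?_)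
    fin_cases j
    · simpa [w, Fin.sum_univ_two] using (Prod.ext_iff.1 (hz' 2)).2
    · simpa [w, Fin.sum_univ_two] using (Prod.ext_iff.1 (hz' 3)).2
  refine ⟨LinearMap.range f, le_top, ?_, ?_⟩
  · rintro _ ⟨p, rfl⟩
    have hcross : ∀ i j, i ≠ j → ∀ u u', polar Q (Ψ i u) (Ψ j u') = 0 := fun i j h u u' =>
      hD.decomp.orthogonal i j h _ (Subtype.coe_prop _) _ (Subtype.coe_prop _)
    rw [hf, Fin.sum_univ_four]
    simp only [q_add hQ, hb.add_left, hΨQ, hL _ (p.1 _).2, hcross 0 1 (by decide), hcross 0 2 (by decide),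
      hcross 0 3 (by decide), hcross 1 2 (by decide), hcross 1 3 (by decide), hcross 2 3 (by decide)]
    simp [w, Fin.sum_univ_two]
    linear_combination (p.2 0 * p.2 0 + p.2 1 * p.2 1) * α * hxy
  · rw [LinearMap.finrank_range_of_inj hinj, Module.finrank_prod, Module.finrank_pi_fintype, Module.finrank_pi,
      hLd, finrank_top, Module.finrank_fin_fun, ← AschGen.decomp_card hD.decomp.decomp]
    simp
    ring

/-- A monomial group over a field with a subfield: it is rational for a multiple of the form. -/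
theorem monomial_rational {H : Subgroup (GL (Fin n) F)} (hH : H ≤ omegaGL Q) {v : Fin n → Fin n → F} {a : F}
    (h2 : (2 : F) ≠ 0) (ha : a ≠ 0) (hv : ∀ i, Q (v i) = a) (ho : ∀ i j, i ≠ j → polar Q (v i) (v j) = 0)
    (hle : H ≤ decompositionStabilizer fun i => Submodule.span F {v i}) (F₁ : Subfield F) :
    ∃ P : GL (Fin n) F, IsQuadFormRationalStructure (fun x => a⁻¹ * Q x) F₁ P ∧ H ≤ subfieldSubgroup F₁ P := by
  classical
  have hb := hQ.polar_bilinear
  have hli : LinearIndependent F v := Fintype.linearIndependent_iff.2 fun g hg i => by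
    have e := congrArg (polarBilin (qf hQ) (v i)) hg
    rw [map_sum, Finset.sum_eq_single i (fun j _ hj => by
      rw [map_smul, polarBilin_apply_apply, coe_qf hQ, ho i j (Ne.symm hj), smul_zero]) (by simp), map_smul,
      map_zero, polarBilin_apply_apply, coe_qf hQ, b_self hQ, hv, smul_eq_mul] at e
    exact (mul_eq_zero.1 e).resolve_right (mul_ne_zero h2 ha)
  let M : Mat n F := Matrix.of fun i j => v j i
  obtain ⟨P, hP⟩ : IsUnit M := by
    rw [← Matrix.linearIndependent_cols_iff_isUnit]; exact hli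
  have hPu : ∀ u, (P : Mat n F) *ᵥ u = ∑ j, u j • v j := fun u => by
    funext i
    simp [hP, M, Matrix.mulVec, dotProduct, Finset.sum_apply, mul_comm]
  refine ⟨P, fun u hu => ?_, fun h hh => ?_⟩
  · show a⁻¹ * Q _ ∈ F₁
    have hsum : ∀ s : Finset (Fin n), Q (∑ j ∈ s, u j • v j) = (∑ j ∈ s, u j * u j) * a := by
      intro s
      induction s using Finset.induction_on with
      | empty => simp [q_zero hQ]
      | insert j s hj ih =>
        have hz : polar Q (u j • v j) (∑ i ∈ s, u i • v i) = 0 :=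
          LinearMap.mem_ker.1 ((LinearMap.ker (polarBilin (qf hQ) (u j • v j))).sum_mem fun i hi =>
            LinearMap.mem_ker.2 (show polar Q _ _ = 0 by
              rw [hb.smul_left, hb.smul_right, ho j i (fun e => hj (e ▸ hi))]; ring))
        rw [Finset.sum_insert hj, Finset.sum_insert hj, q_add hQ, q_smul hQ, hv, ih, hz]
        ring
    rw [hPu, hsum, mul_comm, mul_assoc, mul_inv_cancel₀ ha, mul_one]
    exact F₁.sum_mem fun j _ => F₁.mul_mem (hu j) (hu j)
  · refine (CfsgLib.Classical.SubfieldMax.mem_subfieldSubgroup_iff F₁ P h).2 ⟨1, one_ne_zero, fun i j => ?_⟩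
    obtain ⟨σ, hσ⟩ := hle hh
    obtain ⟨c, hc⟩ := Submodule.mem_span_singleton.1 (show (h : Mat n F) *ᵥ v j ∈ Submodule.span F {v (σ j)} by
      exact (hσ j).le ⟨v j, Submodule.mem_span_singleton_self _, by simp⟩)
    have hcc : c = 1 ∨ c = -1 := by
      refine mul_self_eq_one_iff.1 (mul_right_cancel₀ ha ?_)
      rw [one_mul, ← hv (σ j), ← q_smul hQ, hc, omega_isometry (hH hh), hv, hv]
    have hcol : ((P⁻¹ * h * P : GL (Fin n) F) : Mat n F) *ᵥ Pi.single j 1 = c • Pi.single (σ j) 1 := by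
      refine Matrix.mulVec_injective_iff_isUnit.2 P.isUnit ?_
      rw [Matrix.mulVec_mulVec, ← Units.val_mul, show P * (P⁻¹ * h * P) = h * P by group, Units.val_mul,
        ← Matrix.mulVec_mulVec, Matrix.mulVec_smul, hPu, hPu]
      rw [Finset.sum_eq_single j (fun i _ hi => by rw [Pi.single_eq_of_ne hi, zero_smul]) (by simp),
        Finset.sum_eq_single (σ j) (fun i _ hi => by rw [Pi.single_eq_of_ne hi, zero_smul]) (by simp),
        Pi.single_eq_same, Pi.single_eq_same, one_smul, one_smul, hc]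
    have := congrFun hcol i
    rw [Matrix.mulVec_single_one] at this
    simp only [Matrix.col_apply] at this
    rw [one_mul, this, Pi.smul_apply, smul_eq_mul]
    by_cases hi : i = σ j
    · subst hi
      rw [Pi.single_eq_same, mul_one]
      rcases hcc with rfl | rfl
      · exact F₁.one_mem
      · exact F₁.neg_mem F₁.one_mem
    · rw [Pi.single_eq_of_ne hi, mul_zero]; exact F₁.zero_mem

end CfsgLib.Classical.OrthEven
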