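import Cfsg.Agent.Lib.Classical.OrthEven.Cases
import Cfsg.Agent.Lib.Classical.RefineCases

/-!
# Common facts for the maximal subgroups
-/

set_option autoImplicit false
set_option linter.unusedSectionVars false

namespace CfsgLib.Classical.OrthEven

open Matrix Cfsg Cfsg.Geo QuadraticMap CfsgLib.Orth CfsgLib.Classical CfsgLib.Classical.AschPrime
  CfsgLib.Classical.AschForm
open scoped MatrixGroups

variable {F : Type*} [Field F] [Fintype F] {n : ℕ} {Q : (Fin n → F) → F} (hQ : IsNondegenerateQuadraticForm Q)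
  (hn : 7 ≤ n) {H : Subgroup (GL (Fin n) F)} (hH : IsMaximalIn (omegaGL Q) H)
include hQ hn hH

theorem eq_stab {W : Submodule F (Fin n → F)} (h0 : W ≠ ⊥) (h1 : W ≠ ⊤) (hle : H ≤ subspaceStabilizer W) :
    H = subspaceStabilizer W ⊓ omegaGL Q :=
  maximal_eq_inf hH hle (not_le_stab hQ (by omega) h0 h1)

theorem eq_stab_of_lt {W : Submodule F (Fin n → F)} (h0 : W ≠ ⊥) (hd : Module.finrank F W < n)
    (hle : H ≤ subspaceStabilizer W) : H = subspaceStabilizer W ⊓ omegaGL Q :=
  eq_stab hQ hn hH h0 (fun e => by rw [e, finrank_top, Module.finrank_fin_fun] at hd; exact lt_irrefl n hd) hle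

theorem eq_stab_ts {W : Submodule F (Fin n → F)} (h0 : W ≠ ⊥) (hts : IsTotallySingularQuad Q W)
    (hle : H ≤ subspaceStabilizer W) : H = subspaceStabilizer W ⊓ omegaGL Q := by
  refine eq_stab_of_lt hQ hn hH h0 ?_ hle
  have h := CfsgLib.Orth.singular_finrank_le (qf_nondeg hQ) W hts
  rw [Module.finrank_fin_fun] at h
  omega

theorem eq_point {v : Fin n → F} (hv : Q v ≠ 0) (hle : H ≤ subspaceStabilizer (Submodule.span F {v})) :
    H = subspaceStabilizer (Submodule.span F {v}) ⊓ omegaGL Q := by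
  have hv0 : v ≠ 0 := fun e => hv (by rw [e, q_zero hQ])
  refine eq_stab_of_lt hQ hn hH (fun e => hv0 ((Submodule.mem_bot F).1 (e ▸ Submodule.mem_span_singleton_self v))) ?_ hle
  rw [finrank_span_singleton hv0]
  omega

theorem eq_field {r : ℕ} {K : Subalgebra F (Mat n F)} (hr : r.Prime) (hK : IsFieldSubalgebra r K)
    (hle : H ≤ subalgebraNormalizer K) : H = subalgebraNormalizer K ⊓ omegaGL Q :=
  maximal_eq_inf hH hle (not_le_normalizer hQ hn hK hr.two_le)

theorem eq_subfield {F₀ : Subfield F} (h : F₀ ≠ ⊤) {P : GL (Fin n) F} (hle : H ≤ subfieldSubgroup F₀ P) :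
    H = subfieldSubgroup F₀ P ⊓ omegaGL Q :=
  maximal_eq_inf hH hle (not_le_subfield hQ hn h P)

theorem eq_decomp {t m : ℕ} {D : Fin t → Submodule F (Fin n → F)} (hD : IsMDecomposition m D)
    (horth : m = 2 → ∀ i j, i ≠ j → AreOrthogonalFor (polar Q) (D i) (D j))
    (h1 : m = 1 → (2 : F) ≠ 0) (hle : H ≤ decompositionStabilizer D) :
    H = decompositionStabilizer D ⊓ omegaGL Q := by
  refine maximal_eq_inf hH hle ?_
  by_cases hm : m = 1
  · subst hm
    intro hΩ
    obtain rfl : t = n := by simpa using AschGen.decomp_card hD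
    obtain ⟨N, hN, hN0, hroot⟩ := exists_root_family hQ (n := t) (by omega)
    obtain ⟨g, hg, hgN⟩ := hroot 1
    rw [one_smul] at hgN
    exact OrthPrime.not_mem_decomp (h1 rfl) hD hgN hN hN0 (hΩ hg)
  · exact not_le_decomp hQ hn hD (by have := hD.pos; omega) horth

omit hn in
/-- A subgroup between gives a contradiction with maximality. -/
theorem false_of_between {X : Subgroup (GL (Fin n) F)} (hle : H ≤ X)
    (h : ∃ K : Subgroup (GL (Fin n) F), X ⊓ omegaGL Q < K ∧ K < omegaGL Q) : False := by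
  obtain ⟨K, h1, h2⟩ := h
  have hlt : H < K := (le_inf hle hH.1.le).trans_lt h1
  rcases hH.2 K hlt.le h2.le with h | h
  · exact hlt.ne h.symm
  · exact h2.ne h

omit hn hH in
/-- The stabiliser of a plane of plus type over two or three elements fixes a non-singular line. -/
theorem plane_line (hH' : H ≤ omegaGL Q) (hq : ¬ 4 ≤ Fintype.card F) {U : Submodule F (Fin n → F)}
    (hU : IsNondegenerateOn (polar Q) U) (hd : Module.finrank F U = 2) (hplus : IsPlusTypeOn Q U)
    (hle : H ≤ subspaceStabilizer U) : ∃ v, Q v = 1 ∧ H ≤ subspaceStabilizer (Submodule.span F {v}) := by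
  classical
  obtain ⟨S, hSU, hS, hSd⟩ := hplus
  obtain ⟨e, heS, he0⟩ := Submodule.exists_mem_ne_zero_of_ne_bot (p := S) (fun h => by
    rw [h, finrank_bot] at hSd; omega)
  have heQ : Q e = 0 := hS e heS
  obtain ⟨f, hf, hfQ, hef⟩ := RefineSet.exists_partner_sub (Q := qf hQ)
    (fun w hw hw0 => (hU w hw hw0).2) (hSU heS) he0 heQ
  rw [coe_qf hQ] at hef
  change Q f = 0 at hfQ
  have key : ∀ x ∈ U, Q x = 1 → x = e + f ∨ x = -(e + f) := by
    intro x hx hQx
    have hx' := RefineSet.expand (Q := qf hQ) (b := ![e, f]) (c := ![f, e]) (W := U)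
      (by intro j; fin_cases j <;> simp [hf, hSU heS])
      (by intro a b; fin_cases a <;> fin_cases b <;>
        simp [coe_qf hQ, hef, b_comm hQ f e, b_self hQ, heQ, hfQ])
      (by rw [hd]; simp) hx
    rw [Fin.sum_univ_two] at hx'
    obtain ⟨α, β, rfl⟩ : ∃ α β : F, x = α • e + β • f := ⟨_, _, hx'⟩
    rw [q_add hQ, q_smul hQ, q_smul hQ, heQ, hfQ, hQ.polar_bilinear.smul_left, hQ.polar_bilinear.smul_right, hef] at hQx
    have hαβ : α * β = 1 := by linear_combination hQx
    have hα : α = 1 ∨ α = -1 := by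
      have h1 := FiniteField.pow_card_sub_one_eq_one α (left_ne_zero_of_mul (hαβ.trans_ne one_ne_zero))
      have h2 : Fintype.card F = 2 ∨ Fintype.card F = 3 := by
        have := Fintype.one_lt_card (α := F); omega
      rcases h2 with h2 | h2 <;> rw [h2] at h1
      · exact .inl (by simpa using h1)
      · exact mul_self_eq_one_iff.1 (by simpa [pow_two] using h1)
    rcases hα with rfl | rfl
    · left; rw [show β = 1 by linear_combination hαβ, one_smul, one_smul]
    · right
      rw [show β = -1 by linear_combination -hαβ]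
      module
  have hQv : Q (e + f) = 1 := by rw [q_add hQ, heQ, hfQ, hef]; ring
  refine ⟨e + f, hQv, le_subspaceStabilizer fun h hh w hw => ?_⟩
  obtain ⟨c, rfl⟩ := Submodule.mem_span_singleton.1 hw
  rw [Matrix.mulVec_smul]
  refine Submodule.smul_mem _ _ ?_
  have hmem : (h : Mat n F) *ᵥ (e + f) ∈ U := ((hle hh) _).1 (U.add_mem (hSU heS) hf)
  rcases key _ hmem ((omega_isometry (hH' hh) _).trans hQv) with h' | h'
  · rw [h']; exact Submodule.mem_span_singleton_self _
  · rw [h']; exact (Submodule.span F {e + f}).neg_mem (Submodule.mem_span_singleton_self _)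

omit hn hH in
theorem nondegenerateOn_line (h2 : (2 : F) ≠ 0) {v : Fin n → F} (hv : Q v ≠ 0) :
    IsNondegenerateOn (polar Q) (Submodule.span F {v}) := by
  intro w hw hw0
  obtain ⟨c, rfl⟩ := Submodule.mem_span_singleton.1 hw
  have hc : c ≠ 0 := fun e => hw0 (by rw [e, zero_smul])
  have h : polar Q v (c • v) ≠ 0 := by
    rw [hQ.polar_bilinear.smul_right, b_self hQ]
    exact mul_ne_zero hc (mul_ne_zero h2 hv)
  exact ⟨⟨v, Submodule.mem_span_singleton_self v, h⟩, v, Submodule.mem_span_singleton_self v, by rwa [b_comm hQ]⟩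

omit hn in
/-- Tensor decompositions with a plane factor under a form that is not of plus type. -/
theorem tens_plane {n₁ n₂ : ℕ} {e : Fin n ≃ Fin n₁ × Fin n₂} {P : GL (Fin n) F}
    {f₁ : (Fin n₁ → F) → (Fin n₁ → F) → F} {f₂ : (Fin n₂ → F) → (Fin n₂ → F) → F}
    (T : Tens Q H e P f₁ f₂) (h1 : n₁ = 2) :
    Reduced Q H ∨
    (∃ K : Subalgebra F (Mat n F), IsFieldSubalgebra 2 K ∧ IsAdjointClosedFor (polar Q) K ∧
      ¬ IsSelfAdjointFor (polar Q) K ∧ H ≤ subalgebraNormalizer K) ∨
    (∃ (k : ℕ) (D : Fin 2 → Submodule F (Fin n → F)), 2 * k = n ∧ IsMDecomposition k D ∧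
      (∀ i, IsTotallySingularQuad Q (D i)) ∧ H ≤ decompositionStabilizer D) ∨
    ((∀ u, f₁ u u = 0) ∧ (∀ w, f₂ w w = 0) ∧ ∀ u w, Q (TensorNonMax.tmap e P u w) = 0) := by
  classical
  obtain ⟨ε, hε, hs₁, hs₂⟩ := T.sym
  by_cases h2 : (2 : F) = 0
  · by_cases hw : ∃ w, f₂ w w ≠ 0
    · exact .inl (T.reduced_of_not_alt h2 hw)
    by_cases hu : ∃ u, f₁ u u ≠ 0
    · exact .inl (T.swap.reduced_of_not_alt h2 hu)
    push Not at hw hu
    rcases T.pure_zero_or_reduced hu hw with h | h
    · exact .inr (.inr (.inr ⟨hu, hw, h⟩))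
    · exact .inl h
  · rcases hε with rfl | rfl
    · rcases T.two_symmetric h1 h2 (fun u v => by rw [hs₁ v u, one_mul]) with h | h
      · exact .inr (.inl h)
      · exact .inr (.inr (.inl h))
    · have halt : ∀ u, f₁ u u = 0 := fun u => (mul_eq_zero.1
        (show (2 : F) * f₁ u u = 0 by linear_combination hs₁ u u)).resolve_left h2
      exact .inr (.inr (.inr ⟨halt, fun w => (mul_eq_zero.1
        (show (2 : F) * f₂ w w = 0 by linear_combination hs₂ w w)).resolve_left h2, T.quad_tmap h2 halt⟩))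

end CfsgLib.Classical.OrthEven
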