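import Cfsg.Agent.Lib.Classical.OrthEven.Types

/-!
# Odd-dimensional members, orthogonal frames, and forms rational over a quadratic subfield
-/

set_option autoImplicit false
set_option linter.unusedSectionVars false

namespace CfsgLib.Classical.OrthEven

open Matrix Cfsg Cfsg.Geo QuadraticMap CfsgLib.Orth CfsgLib.Classical CfsgLib.Classical.AschPrime
  CfsgLib.Classical.AschForm CfsgLib.Derangements.OrthInv
open scoped MatrixGroups Polynomial

variable {F : Type*} [Field F] [Fintype F]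

theorem isSquare_mul_of_not {a b : F} (ha : ¬ IsSquare a) (hb : ¬ IsSquare b) : IsSquare (a * b) := by
  classical
  have hab : a * b ≠ 0 := mul_ne_zero (fun e => ha (e ▸ IsSquare.zero)) (fun e => hb (e ▸ IsSquare.zero))
  refine (quadraticChar_one_iff_isSquare hab).1 ?_
  rw [map_mul, quadraticChar_neg_one_iff_not_isSquare.2 ha, quadraticChar_neg_one_iff_not_isSquare.2 hb]
  norm_num

theorem isSquare_mul_iff {a b : F} (ha : a ≠ 0) (hsq : IsSquare a) : IsSquare (a * b) ↔ IsSquare b := by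
  refine ⟨fun h => ?_, fun h => hsq.mul h⟩
  have := hsq.inv.mul h
  rwa [inv_mul_cancel_left₀ ha] at this

theorem neg_one_square_iff : IsSquare (-1 : F) ↔ Fintype.card F % 4 ≠ 3 :=
  FiniteField.isSquare_neg_one_iff

variable {n : ℕ} {Q : (Fin n → F) → F} (hQ : IsNondegenerateQuadraticForm Q)
include hQ

/-- A subspace of odd dimension is a hyperbolic space and a line. -/
theorem odd_core (h2 : (2 : F) ≠ 0) {U : Submodule F (Fin n → F)} (hU : IsNondegenerateOn (polar Q) U) {k : ℕ}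
    (hd : Module.finrank F U = 2 * k + 1) :
    ∃ (α : F) (Φ : ((Fin k ⊕ Fin k → F) × F) ≃ₗ[F] U), α ≠ 0 ∧
      ∀ p, Q (Φ p : Fin n → F) = plusForm F k p.1 + p.2 * p.2 * α := by
  obtain ⟨m, A, T, hT, hTA, hdim, hA2, hanis, hAn⟩ :=
    Orth.exists_decomposition (comp_nondeg ((nd_iff hQ U).1 hU))
  obtain rfl : m = k := by omega
  have hA1 : Module.finrank F A = 1 := by omega
  obtain ⟨a, haA, ha0⟩ := Submodule.exists_mem_ne_zero_of_ne_bot (p := A) (fun e => by
    rw [e, finrank_bot] at hA1; omega)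
  have hα : (qf hQ).comp U.subtype a ≠ 0 := fun h => ha0 (hanis a haA h)
  let Φ₀ : ((Fin m ⊕ Fin m → F) × F) →ₗ[F] U :=
    LinearMap.coprod T (LinearMap.toSpanSingleton F U a)
  have hΦ : ∀ p, Φ₀ p = T p.1 + p.2 • a := fun p => rfl
  have hval : ∀ p, (qf hQ).comp U.subtype (Φ₀ p) =
      plusForm F m p.1 + p.2 * p.2 * (qf hQ).comp U.subtype a := fun p => by
    rw [hΦ, QuadraticMap.map_add ((qf hQ).comp U.subtype), QuadraticMap.map_smul, hT,
      QuadraticMap.polar_smul_right, hTA _ a haA]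
    simp
  have hinj : Function.Injective Φ₀ := (injective_iff_map_eq_zero Φ₀).2 fun p hp => by
    have e : polar ((qf hQ).comp U.subtype) (Φ₀ p) a = 0 := by rw [hp, QuadraticMap.polar_zero_left]
    rw [hΦ, QuadraticMap.polar_add_left, QuadraticMap.polar_smul_left, hTA _ a haA, QuadraticMap.polar_self,
      zero_add, smul_eq_mul, two_nsmul, ← two_mul, ← mul_assoc, mul_eq_zero] at e
    have hp2 : p.2 = 0 := (mul_eq_zero.1 (e.resolve_right hα)).resolve_right h2
    rw [hΦ, hp2, zero_smul, add_zero] at hp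
    have := Orth.injective_of_preserving (Orth.plusForm_nondeg m) T hT (hp.trans (map_zero T).symm)
    exact Prod.ext this hp2
  refine ⟨(qf hQ).comp U.subtype a, LinearEquiv.ofInjectiveOfFinrankEq Φ₀ hinj ?_, hα, fun p => ?_⟩
  · rw [Module.finrank_prod, Module.finrank_pi, Module.finrank_self, hd]
    simp; omega
  · rw [← hval p]
    rfl

/-- The type of the sum of two complementary odd-dimensional subspaces. -/
theorem odd_pair (h2 : (2 : F) ≠ 0) {U W : Submodule F (Fin n → F)} (hc : IsCompl U W)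
    (ho : AreOrthogonalFor (polar Q) U W) {k : ℕ}
    {α β : F} (hα : α ≠ 0) (hβ : β ≠ 0) (Φ : ((Fin k ⊕ Fin k → F) × F) ≃ₗ[F] U)
    (Ψ : ((Fin k ⊕ Fin k → F) × F) ≃ₗ[F] W)
    (hΦ : ∀ p, Q (Φ p : Fin n → F) = plusForm F k p.1 + p.2 * p.2 * α)
    (hΨ : ∀ p, Q (Ψ p : Fin n → F) = plusForm F k p.1 + p.2 * p.2 * β) :
    IsPlusTypeOn Q ⊤ ↔ IsSquare (-(α * β)) := by
  classical
  have hb := hQ.polar_bilinear
  obtain ⟨L, hL, hLd⟩ := CfsgLib.Derangements.EvenForms.plus_plusForm (F := F) k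
  have hsum : ∀ p p', Q ((Φ p : Fin n → F) + (Ψ p' : Fin n → F)) =
      plusForm F k p.1 + p.2 * p.2 * α + (plusForm F k p'.1 + p'.2 * p'.2 * β) := fun p p' => by
    rw [q_add hQ, hΦ, hΨ, ho _ (Φ p).2 _ (Ψ p').2, add_zero]
  have hzero : ∀ p p', (Φ p : Fin n → F) + (Ψ p' : Fin n → F) = 0 → p = 0 ∧ p' = 0 := fun p p' h => by
    have h1 : (Φ p : Fin n → F) ∈ W := by
      rw [eq_neg_of_add_eq_zero_left h]; exact W.neg_mem (Ψ p').2
    have h2' : (Φ p : Fin n → F) = 0 := Submodule.disjoint_def.1 hc.disjoint _ (Φ p).2 h1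
    rw [h2', zero_add] at h
    exact ⟨(LinearEquiv.map_eq_zero_iff Φ).1 (Subtype.ext h2'), (LinearEquiv.map_eq_zero_iff Ψ).1 (Subtype.ext h)⟩
  have hn : n = 2 * (2 * k + 1) := by
    have h1 := Φ.finrank_eq
    have h3 := Ψ.finrank_eq
    have h4 := Submodule.finrank_add_eq_of_isCompl hc
    rw [Module.finrank_prod, Module.finrank_pi, Module.finrank_self] at h1 h3
    rw [Module.finrank_fin_fun] at h4
    simp at h1 h3
    omega
  constructor
  · intro hplus
    by_contra hsq
    -- the anisotropic plane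
    let g : F × F →ₗ[F] (Fin n → F) :=
      LinearMap.coprod (U.subtype.comp (Φ.toLinearMap.comp (LinearMap.inr F _ F)))
        (W.subtype.comp (Ψ.toLinearMap.comp (LinearMap.inr F _ F)))
    have hg : ∀ x y, g (x, y) = (Φ (0, x) : Fin n → F) + (Ψ (0, y) : Fin n → F) := fun x y => rfl
    have hgQ : ∀ x y, Q (g (x, y)) = x * x * α + y * y * β := fun x y => by rw [hg, hsum]; simp
    have hginj : Function.Injective g := (injective_iff_map_eq_zero g).2 fun ⟨x, y⟩ h => by
      obtain ⟨h1, h3⟩ := hzero _ _ ((hg x y).symm.trans h)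
      exact Prod.ext (Prod.ext_iff.1 h1).2 (Prod.ext_iff.1 h3).2
    have hgB : ∀ x y x' y', polar Q (g (x, y)) (g (x', y')) = 2 * (x * x' * α + y * y' * β) := fun x y x' y' => by
      show Q _ - Q _ - Q _ = _
      rw [← map_add, Prod.mk_add_mk, hgQ, hgQ, hgQ]
      ring
    have hPd : Module.finrank F (LinearMap.range g) = 2 := by
      rw [LinearMap.finrank_range_of_inj hginj, Module.finrank_prod, Module.finrank_self]
    have hPn : IsNondegenerateOn (polar Q) (LinearMap.range g) := by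
      rintro _ ⟨⟨x, y⟩, rfl⟩ h0
      suffices h : ∃ z ∈ LinearMap.range g, polar Q z (g (x, y)) ≠ 0 by
        obtain ⟨z, hz, hzx⟩ := h
        exact ⟨⟨z, hz, hzx⟩, z, hz, by rwa [b_comm hQ]⟩
      by_cases hx : x = 0
      · refine ⟨_, ⟨(0, 1), rfl⟩, ?_⟩
        rw [hgB, hx]
        have hy : y ≠ 0 := fun hy => h0 (by rw [hx, hy]; exact map_zero g)
        simp [h2, hy, hβ]
      · refine ⟨_, ⟨(1, 0), rfl⟩, ?_⟩
        rw [hgB]
        simp [h2, hx, hα]
    obtain ⟨Y, hcY, hYn, hoY, hYd, -⟩ := exists_compl hQ hPn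
    -- the totally singular part of the complement
    let f : L × L →ₗ[F] (Fin n → F) :=
      LinearMap.coprod (U.subtype.comp (Φ.toLinearMap.comp ((LinearMap.inl F _ F).comp L.subtype)))
        (W.subtype.comp (Ψ.toLinearMap.comp ((LinearMap.inl F _ F).comp L.subtype)))
    have hf : ∀ x y, f (x, y) = (Φ ((x : _), 0) : Fin n → F) + (Ψ ((y : _), 0) : Fin n → F) := fun x y => rfl
    have hfinj : Function.Injective f := (injective_iff_map_eq_zero f).2 fun ⟨x, y⟩ h => by
      obtain ⟨h1, h3⟩ := hzero _ _ ((hf x y).symm.trans h)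
      exact Prod.ext (Subtype.ext (Prod.ext_iff.1 h1).1) (Subtype.ext (Prod.ext_iff.1 h3).1)
    have hfY : LinearMap.range f ≤ Y := by
      rintro _ ⟨⟨x, y⟩, rfl⟩
      obtain ⟨p, hp, w, hw, hpw⟩ := Submodule.mem_sup.1 (hcY.sup_eq_top ▸ Submodule.mem_top (x := f (x, y)))
      obtain ⟨⟨a, b⟩, rfl⟩ := hp
      suffices g (a, b) = 0 by rw [← hpw, this, zero_add]; exact hw
      have key : ∀ z, polar Q (g z) (f (x, y)) = 0 := fun ⟨c, d⟩ => by
        show Q _ - Q _ - Q _ = _
        rw [hg, hf, show (Φ (0, c) : Fin n → F) + (Ψ (0, d) : Fin n → F) + ((Φ ((x : _), 0) : Fin n → F) + (Ψ ((y : _), 0) : Fin n → F)) =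
          (Φ ((x : _), c) : Fin n → F) + (Ψ ((y : _), d) : Fin n → F) by
            rw [show ((x : Fin k ⊕ Fin k → F), c) = (0, c) + ((x : Fin k ⊕ Fin k → F), 0) by simp,
              show ((y : Fin k ⊕ Fin k → F), d) = (0, d) + ((y : Fin k ⊕ Fin k → F), 0) by simp,
              map_add, map_add, Submodule.coe_add, Submodule.coe_add]
            abel, hsum, hsum, hsum]
        simp
        ring
      by_contra h0
      obtain ⟨z, ⟨cd, rfl⟩, hz⟩ := (hPn _ ⟨_, rfl⟩ h0).1
      apply hz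
      have := key cd
      rwa [← hpw, hb.add_right, hoY _ ⟨_, rfl⟩ w hw, add_zero] at this
    have hYplus : IsPlusTypeOn Q Y := ⟨LinearMap.range f, hfY, by
      rintro _ ⟨⟨x, y⟩, rfl⟩
      rw [hf, hsum]
      simp [hL _ x.2, hL _ y.2], by
      rw [LinearMap.finrank_range_of_inj hfinj, Module.finrank_prod, hLd]
      omega⟩
    have hP := (plus_top_iff hQ hPn hYn hcY hoY (by rw [hPd]; exact even_two)
      (by rw [show Module.finrank F Y = 2 * (2 * k) by omega]; exact even_two_mul _)).1 hplus |>.2 hYplus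
    obtain ⟨S, hSP, hS, hSd⟩ := hP
    have hS1 : Module.finrank F S = 1 := by omega
    obtain ⟨z, hz, hz0⟩ := Submodule.exists_mem_ne_zero_of_ne_bot (p := S) (fun e => by
      rw [e, finrank_bot] at hS1; omega)
    obtain ⟨⟨x, y⟩, rfl⟩ := hSP hz
    have e := hS _ hz
    rw [hgQ] at e
    by_cases hy : y = 0
    · subst hy
      have hx : x = 0 := mul_self_eq_zero.1 ((mul_eq_zero.1 (by simpa using e)).resolve_right hα)
      exact hz0 (by rw [hx]; exact map_zero g)
    · refine hsq ⟨x * α / y, ?_⟩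
      rw [div_mul_div_comm, eq_div_iff (mul_ne_zero hy hy)]
      linear_combination -α * e
  · rintro ⟨s, hs⟩
    let f : L × L × F →ₗ[F] (Fin n → F) :=
      LinearMap.coprod (U.subtype.comp (Φ.toLinearMap.comp ((LinearMap.inl F _ F).comp L.subtype)))
        (LinearMap.coprod (W.subtype.comp (Ψ.toLinearMap.comp ((LinearMap.inl F _ F).comp L.subtype)))
          (LinearMap.toSpanSingleton F (Fin n → F) ((Φ (0, s) : Fin n → F) + (Ψ (0, α) : Fin n → F))))
    have hf : ∀ x y t, f (x, y, t) = (Φ ((x : _), t * s) : Fin n → F) + (Ψ ((y : _), t * α) : Fin n → F) := by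
      intro x y t
      show (Φ ((x : _), 0) : Fin n → F) + ((Ψ ((y : _), 0) : Fin n → F) + t • ((Φ (0, s) : Fin n → F) + (Ψ (0, α) : Fin n → F))) = _
      rw [show ((x : Fin k ⊕ Fin k → F), t * s) = ((x : Fin k ⊕ Fin k → F), 0) + t • ((0 : Fin k ⊕ Fin k → F), s) by simp,
        show ((y : Fin k ⊕ Fin k → F), t * α) = ((y : Fin k ⊕ Fin k → F), 0) + t • ((0 : Fin k ⊕ Fin k → F), α) by simp,
        map_add, map_add, Submodule.coe_add, Submodule.coe_add, map_smul, map_smul, Submodule.coe_smul,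
        Submodule.coe_smul, smul_add]
      abel
    have hfinj : Function.Injective f := (injective_iff_map_eq_zero f).2 fun ⟨x, y, t⟩ h => by
      obtain ⟨h1, h3⟩ := hzero _ _ ((hf x y t).symm.trans h)
      have ht : t = 0 := (mul_eq_zero.1 ((Prod.ext_iff.1 h3).2 : t * α = 0)).resolve_right hα
      exact Prod.ext (Subtype.ext (Prod.ext_iff.1 h1).1) (Prod.ext (Subtype.ext (Prod.ext_iff.1 h3).1) ht)
    refine ⟨LinearMap.range f, le_top, ?_, ?_⟩
    · rintro _ ⟨⟨x, y, t⟩, rfl⟩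
      rw [hf, hsum, hL _ x.2, hL _ y.2]
      linear_combination -(t * t * α) * hs
    · rw [LinearMap.finrank_range_of_inj hfinj, Module.finrank_prod, Module.finrank_prod, Module.finrank_self,
        hLd, finrank_top, Module.finrank_fin_fun]
      omega

/-- Complementary isometric subspaces of odd dimension. -/
theorem plus_iff_of_isometric_odd (h2 : (2 : F) ≠ 0) {U W : Submodule F (Fin n → F)}
    (hU : IsNondegenerateOn (polar Q) U) (hc : IsCompl U W) (ho : AreOrthogonalFor (polar Q) U W) {k : ℕ}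
    (hd : Module.finrank F U = 2 * k + 1) (hiso : AreIsometricFor Q U W) :
    IsPlusTypeOn Q ⊤ ↔ Fintype.card F % 4 ≠ 3 := by
  obtain ⟨α, Φ, hα, hΦ⟩ := odd_core hQ h2 hU hd
  obtain ⟨e, he⟩ := hiso
  rw [odd_pair hQ h2 hc ho hα hα Φ (Φ.trans e) hΦ (fun p => by rw [LinearEquiv.trans_apply, he, hΦ]),
    ← neg_one_square_iff, show -(α * α) = (α * α) * (-1) by ring]
  exact isSquare_mul_iff (mul_ne_zero hα hα) ⟨α, rfl⟩

/-- Complementary subspaces of odd dimension that are not isometric. -/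
theorem plus_iff_of_not_isometric_odd (h2 : (2 : F) ≠ 0) {U W : Submodule F (Fin n → F)}
    (hU : IsNondegenerateOn (polar Q) U) (hW : IsNondegenerateOn (polar Q) W) (hc : IsCompl U W)
    (ho : AreOrthogonalFor (polar Q) U W) {k : ℕ}
    (hd : Module.finrank F U = 2 * k + 1) (hd' : Module.finrank F W = 2 * k + 1)
    (hiso : ¬ AreIsometricFor Q U W) : IsPlusTypeOn Q ⊤ ↔ Fintype.card F % 4 = 3 := by
  obtain ⟨α, Φ, hα, hΦ⟩ := odd_core hQ h2 hU hd
  obtain ⟨β, Ψ, hβ, hΨ⟩ := odd_core hQ h2 hW hd'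
  have hns : ¬ IsSquare (α * β) := by
    rintro ⟨s, hs⟩
    have hs0 : s ≠ 0 := fun e => mul_ne_zero hα hβ (by rw [hs, e, mul_zero])
    refine hiso ⟨Φ.symm.trans ((LinearEquiv.prodCongr (LinearEquiv.refl F _)
      (LinearEquiv.smulOfUnit (Units.mk0 (α / s) (div_ne_zero hα hs0)))).trans Ψ), fun u => ?_⟩
    obtain ⟨p, rfl⟩ := Φ.surjective u
    simp only [LinearEquiv.trans_apply, LinearEquiv.symm_apply_apply, hΨ, hΦ]
    show plusForm F k p.1 + (α / s) * p.2 * ((α / s) * p.2) * β = _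
    congr 1
    field_simp
    linear_combination p.2 ^ 2 * hs
  rw [odd_pair hQ h2 hc ho hα hβ Φ Ψ hΦ hΨ, show -(α * β) = α * β * (-1) by ring]
  constructor
  · intro h
    by_contra h3
    obtain ⟨i, hi⟩ := neg_one_square_iff.2 h3
    refine hns ?_
    have := h.mul (⟨i, hi⟩ : IsSquare (-1 : F))
    rwa [mul_assoc, neg_one_mul, neg_neg, mul_one] at this
  · intro h
    exact isSquare_mul_of_not hns fun hs => neg_one_square_iff.1 hs h

end CfsgLib.Classical.OrthEven
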