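import Cfsg.Agent.Lib.Classical.OrthEven.Types
import Cfsg.Agent.Lib.Classical.SubfieldMax.Member
import Mathlib.FieldTheory.Finite.Basic

/-!
# Forms rational over a subfield
-/

set_option autoImplicit false
set_option linter.unusedSectionVars false

namespace CfsgLib.Classical.OrthEven

open Matrix Cfsg Cfsg.Geo QuadraticMap CfsgLib.Orth CfsgLib.Classical CfsgLib.Classical.AschPrime
  CfsgLib.Classical.AschForm CfsgLib.Derangements.OrthInv
open scoped MatrixGroups Polynomial

variable {F : Type*} [Field F] [Fintype F]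

/-- A quadratic over a subfield of index two has a root. -/
theorem exists_root_index_two {F₀ : Subfield F} (hc : Fintype.card F = Nat.card F₀ ^ 2) {b c : F} (hb : b ∈ F₀)
    (hc' : c ∈ F₀) : ∃ t : F, t * t + b * t + c = 0 := by
  classical
  haveI : Fintype F₀ := Fintype.ofFinite _
  set q₀ := Nat.card F₀ with hq₀
  by_cases hroot : ∃ t : F₀, t * t + (⟨b, hb⟩ : F₀) * t + ⟨c, hc'⟩ = 0
  · obtain ⟨t, ht⟩ := hroot
    exact ⟨t, congrArg Subtype.val ht⟩
  let f : F₀[X] := Polynomial.X ^ 2 + Polynomial.C (⟨b, hb⟩ : F₀) * Polynomial.X + Polynomial.C (⟨c, hc'⟩ : F₀)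
  have hdeg : f.natDegree = 2 := by
    simp only [f]; compute_degree!
  have hmonic : f.Monic := by
    simp only [f]; monicity!
  have hirr : Irreducible f := by
    refine (Polynomial.Monic.irreducible_iff_roots_eq_zero_of_degree_le_three hmonic (by omega) (by omega)).2 ?_
    refine Multiset.eq_zero_of_forall_notMem fun t ht => hroot ⟨t, ?_⟩
    have := (Polynomial.mem_roots hmonic.ne_zero).1 ht
    simpa [f, Polynomial.IsRoot, pow_two] using this
  haveI : Fact (Irreducible f) := ⟨hirr⟩
  haveI : Module.Finite F₀ (AdjoinRoot f) := (AdjoinRoot.powerBasis hmonic.ne_zero).finite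
  haveI : Finite (AdjoinRoot f) := Module.finite_of_finite F₀
  haveI : Fintype (AdjoinRoot f) := Fintype.ofFinite _
  have hcardK : Fintype.card (AdjoinRoot f) = q₀ ^ 2 := by
    rw [← Nat.card_eq_fintype_card, Module.natCard_eq_pow_finrank (K := F₀) (V := AdjoinRoot f),
      (AdjoinRoot.powerBasis hmonic.ne_zero).finrank, AdjoinRoot.powerBasis_dim, hdeg]
  set g : F₀[X] := Polynomial.X ^ (q₀ ^ 2) - Polynomial.X with hg
  have hdvd : f ∣ g := by
    refine AdjoinRoot.mk_eq_zero.1 ?_
    rw [hg, map_sub, map_pow, AdjoinRoot.mk_X, ← hcardK, FiniteField.pow_card, sub_self]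
  obtain ⟨h, hh⟩ := hdvd
  have hq2 : 2 ≤ q₀ ^ 2 := by
    rw [← hc]; exact Fintype.one_lt_card
  have hgdeg : g.natDegree = q₀ ^ 2 := FiniteField.X_pow_card_sub_X_natDegree_eq F₀ (by omega)
  have hg0 : g ≠ 0 := fun e => by rw [e, Polynomial.natDegree_zero] at hgdeg; omega
  have hh0 : h ≠ 0 := fun e => hg0 (by rw [hh, e, mul_zero])
  have hhdeg : h.natDegree + 2 = q₀ ^ 2 := by
    rw [← hgdeg, hh, Polynomial.natDegree_mul hmonic.ne_zero hh0, hdeg]; ring
  by_contra hno
  push Not at hno
  have hroots : ∀ t : F, (h.map F₀.subtype).IsRoot t := by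
    intro t
    have e := congrArg (Polynomial.eval₂ F₀.subtype t) hh
    rw [hg, Polynomial.eval₂_sub, Polynomial.eval₂_pow, Polynomial.eval₂_X, ← hc, FiniteField.pow_card, sub_self,
      Polynomial.eval₂_mul] at e
    rw [Polynomial.IsRoot, Polynomial.eval_map]
    refine (mul_eq_zero.1 e.symm).resolve_left ?_
    simpa [f, pow_two] using hno t
  have hm0 : h.map F₀.subtype ≠ 0 := (Polynomial.map_ne_zero_iff Subtype.val_injective).2 hh0
  have := Polynomial.card_le_degree_of_subset_roots (p := h.map F₀.subtype) (Z := Finset.univ) (by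
    intro t _
    exact (Polynomial.mem_roots hm0).2 (hroots t))
  rw [Finset.card_univ, Polynomial.natDegree_map] at this
  omega

variable {n : ℕ} {Q : (Fin n → F) → F} (hQ : IsNondegenerateQuadraticForm Q)
include hQ

/-- A form rational over a subfield of index two has plus type. -/
theorem plus_of_rational {k : ℕ} (hn : n = 2 * k) {F₀ : Subfield F} (hc : Fintype.card F = Nat.card F₀ ^ 2)
    {ζ : F} (hζ : ζ ≠ 0) {P : GL (Fin n) F} (hP : IsQuadFormRationalStructure (fun v => ζ * Q v) F₀ P) :
    IsPlusTypeOn Q ⊤ := by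
  classical
  haveI : Fintype F₀ := Fintype.ofFinite _
  have hb := hQ.polar_bilinear
  let ι : (Fin n → F₀) → (Fin n → F) := fun u => (P : Mat n F) *ᵥ (fun i => (u i : F))
  have hιadd : ∀ u v, ι (u + v) = ι u + ι v := fun u v => by
    simp only [ι, ← Matrix.mulVec_add]; rfl
  have hιsmul : ∀ (a : F₀) u, ι (a • u) = (a : F) • ι u := fun a u => by
    simp only [ι, ← Matrix.mulVec_smul]; rfl
  have hmem : ∀ u, ζ * Q (ι u) ∈ F₀ := fun u => hP _ fun i => (u i).2
  let g : (Fin n → F₀) → F₀ := fun u => ⟨ζ * Q (ι u), hmem u⟩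
  have hpolar : ∀ u v, ((polar g u v : F₀) : F) = ζ * polar Q (ι u) (ι v) := fun u v => by
    simp only [QuadraticMap.polar, g, AddSubgroupClass.coe_sub, hιadd]
    ring
  let Q₀ : QuadraticForm F₀ (Fin n → F₀) := QuadraticMap.ofPolar g
    (fun a u => Subtype.ext (by
      show ζ * Q (ι (a • u)) = (a : F) * (a : F) * (ζ * Q (ι u))
      rw [hιsmul, q_smul hQ]; ring))
    (fun u u' v => Subtype.ext (by
      rw [AddMemClass.coe_add, hpolar, hpolar, hpolar, hιadd, hb.add_left]; ring))
    (fun a u v => Subtype.ext (by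
      rw [smul_eq_mul, MulMemClass.coe_mul, hpolar, hpolar, hιsmul, hb.smul_left]; ring))
  have hQ₀ : ∀ u, ((Q₀ u : F₀) : F) = ζ * Q (ι u) := fun u => rfl
  have hpolar₀ : ∀ u v, ((polar Q₀ u v : F₀) : F) = ζ * polar Q (ι u) (ι v) := hpolar
  have hι0 : ∀ u, ι u = 0 → u = 0 := fun u hu => by
    funext i
    exact Subtype.ext (congrFun (Matrix.mulVec_injective_iff_isUnit.2 P.isUnit
      (hu.trans (Matrix.mulVec_zero _).symm)) i)
  have hnd : (polarBilin Q₀).Nondegenerate := nondegenerate_of_left fun u hu => hι0 u (by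
    by_contra h0
    obtain ⟨-, x, hx⟩ := hQ.nondegenerate (ι u) h0
    refine hx ?_
    have hker : (⊤ : Submodule F (Fin n → F)) ≤ LinearMap.ker (polarBilin (qf hQ) (ι u)) := by
      have hsp : Submodule.span F (Set.range fun i : Fin n => ι (Pi.single i 1)) = ⊤ := by
        refine eq_top_iff.2 fun x _ => ?_
        have hι1 : ∀ i, ι (Pi.single i 1) = (P : Mat n F) *ᵥ Pi.single i 1 := fun i => by
          show (P : Mat n F) *ᵥ _ = _
          congr 1
          funext j
          by_cases hj : j = i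
          · subst hj; simp
          · simp [Pi.single_eq_of_ne hj]
        have e : x = ∑ i, (((P⁻¹ : GL (Fin n) F) : Mat n F) *ᵥ x) i • ι (Pi.single i 1) := by
          simp only [hι1, ← Matrix.mulVec_smul, ← Matrix.mulVec_sum, ← pi_eq_sum_univ']
          rw [Matrix.mulVec_mulVec, Units.mul_inv, Matrix.one_mulVec]
        rw [e]
        exact Submodule.sum_mem _ fun i _ => Submodule.smul_mem _ _ (Submodule.subset_span ⟨i, rfl⟩)
      rw [← hsp, Submodule.span_le]
      rintro _ ⟨i, rfl⟩
      have := congrArg Subtype.val (hu (Pi.single i 1))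
      rw [hpolar₀] at this
      exact LinearMap.mem_ker.2 ((mul_eq_zero.1 this).resolve_left hζ)
    exact LinearMap.mem_ker.1 (hker (Submodule.mem_top (x := x))))
  obtain ⟨m, A, T, hT, hTA, hdim, hA2, hanis, hAn⟩ := Orth.exists_decomposition (Q := Q₀) hnd
  rw [Module.finrank_fin_fun] at hdim
  set e := fun i : Fin m => ι (T (Pi.single (Sum.inl i) 1)) with he
  set f := fun i : Fin m => ι (T (Pi.single (Sum.inr i) 1)) with hf
  have hTp : ∀ x y, polar Q₀ (T x) (T y) = polar (plusForm F₀ m) x y := Orth.polar_of_preserving T hT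
  have hee : ∀ i j, polar Q (e i) (e j) = 0 := fun i j => by
    refine (mul_eq_zero.1 ((hpolar₀ _ _).symm.trans (?_ : _ = (0 : F)))).resolve_left hζ
    rw [hTp, plusForm_polar]
    simp [Pi.single_apply]
  have hef : ∀ i j, ζ * polar Q (e i) (f j) = if i = j then 1 else 0 := fun i j => by
    rw [← hpolar₀, hTp, plusForm_polar]
    by_cases h : i = j
    · subst h; simp [Pi.single_apply]
    · simp [Pi.single_apply, h, Ne.symm h]
  have heQ : ∀ i, Q (e i) = 0 := fun i => by
    refine (mul_eq_zero.1 ((hQ₀ _).symm.trans (?_ : _ = (0 : F)))).resolve_left hζ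
    rw [hT]
    simp [plusForm, Pi.single_apply]
  -- the totally singular span
  have span_sing : ∀ {κ : Type} [Fintype κ] (w : κ → (Fin n → F)), (∀ i, Q (w i) = 0) →
      (∀ i j, polar Q (w i) (w j) = 0) → IsTotallySingularQuad Q (Submodule.span F (Set.range w)) := by
    intro κ _ w h1 h2 x hx
    induction hx using Submodule.span_induction with
    | mem y hy => obtain ⟨i, rfl⟩ := hy; exact h1 i
    | zero => exact q_zero hQ
    | add a b ha hb' iha ihb =>
      have hz : ∀ i, polar Q (w i) b = 0 := fun i => by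
        have hle : Submodule.span F (Set.range w) ≤ LinearMap.ker (polarBilin (qf hQ) (w i)) :=
          Submodule.span_le.2 (by rintro _ ⟨j, rfl⟩; exact LinearMap.mem_ker.2 (h2 i j))
        exact LinearMap.mem_ker.1 (hle hb')
      have hab : polar Q a b = 0 := by
        have : Submodule.span F (Set.range w) ≤ LinearMap.ker ((polarBilin (qf hQ)).flip b) := Submodule.span_le.2 (by
          rintro _ ⟨i, rfl⟩; exact LinearMap.mem_ker.2 (hz i))
        exact LinearMap.mem_ker.1 (this ha)
      rw [q_add hQ, iha, ihb, hab, add_zero, add_zero]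
    | smul c a _ iha => rw [q_smul hQ, iha, mul_zero]
  have pair_f : ∀ (c : Fin m → F) j, ζ * polar Q (∑ i, c i • e i) (f j) = c j := fun c j => by
    rw [show polar Q (∑ i, c i • e i) (f j) = (polarBilin (qf hQ)).flip (f j) (∑ i, c i • e i) from rfl, map_sum,
      Finset.mul_sum, Finset.sum_eq_single j (fun i _ hi => ?_) (by simp)]
    · show ζ * polar Q _ _ = _
      rw [hb.smul_left, mul_left_comm, hef, if_pos rfl, mul_one]
    · show ζ * polar Q _ _ = _
      rw [hb.smul_left, mul_left_comm, hef, if_neg hi, mul_zero]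
  rcases Nat.eq_zero_or_pos (Module.finrank F₀ A) with hA0 | hApos
  · refine ⟨Submodule.span F (Set.range e), le_top, span_sing e heQ hee, ?_⟩
    have hli : LinearIndependent F e := Fintype.linearIndependent_iff.2 fun c hc j => by
      rw [← pair_f c j, hc, b_zero_left hQ, mul_zero]
    rw [finrank_span_eq_card hli, Fintype.card_fin, finrank_top, Module.finrank_fin_fun]
    omega
  have hA : Module.finrank F₀ A = 2 := by omega
  obtain ⟨a, ha, b, hb', ζ', hQa, hab, hQb, hno⟩ := exists_plane_basis (Q := Q₀) A hA hAn hanis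
  obtain ⟨t, ht⟩ := exists_root_index_two hc F₀.one_mem ζ'.2
  set z := t • ι a + ι b with hz
  have e1 : ζ * Q (ι a) = 1 := by rw [← hQ₀, hQa]; rfl
  have e2 : ζ * polar Q (ι a) (ι b) = 1 := by rw [← hpolar₀, hab]; rfl
  have e3 : ζ * Q (ι b) = ζ' := by rw [← hQ₀, hQb]
  have hzQ : Q z = 0 := by
    refine (mul_eq_zero.1 (?_ : ζ * Q z = 0)).resolve_left hζ
    rw [hz, q_add hQ, q_smul hQ, hb.smul_left]
    linear_combination t * t * e1 + t * e2 + e3 + ht
  have horth : ∀ x, ∀ c ∈ A, polar Q (ι (T x)) (ι c) = 0 := fun x c hc' =>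
    (mul_eq_zero.1 ((hpolar₀ _ _).symm.trans (by rw [hTA x c hc']; rfl))).resolve_left hζ
  have hzo : ∀ x, polar Q (ι (T x)) z = 0 := fun x => by
    rw [hz, hb.add_right, hb.smul_right, horth x a ha, horth x b hb', mul_zero, add_zero]
  have hz0 : z ≠ 0 := by
    intro h0
    have k1 : ζ * polar Q z (ι a) = 0 := by rw [h0, b_zero_left hQ, mul_zero]
    have k2 : ζ * polar Q z (ι b) = 0 := by rw [h0, b_zero_left hQ, mul_zero]
    rw [hz, hb.add_left, hb.smul_left, b_self hQ] at k1 k2
    rw [b_comm hQ (ι b) (ι a)] at k1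
    have r2 : t + 2 * (ζ' : F) = 0 := by linear_combination k2 - t * e2 - 2 * e3
    obtain ⟨x, hx⟩ : ∃ x : F₀, (x : F) = t := ⟨-(ζ' + ζ'), by push_cast; linear_combination -r2⟩
    refine hno x (Subtype.ext ?_)
    show (x : F) ^ 2 + (x : F) + (ζ' : F) = 0
    rw [hx]
    linear_combination ht
  let w : Option (Fin m) → (Fin n → F) := fun o => o.elim z e
  refine ⟨Submodule.span F (Set.range w), le_top, span_sing w ?_ ?_, ?_⟩
  · rintro (_ | i)
    · exact hzQ
    · exact heQ i
  · rintro (_ | i) (_ | j)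
    · show polar Q z z = 0
      rw [b_self hQ, hzQ, mul_zero]
    · show polar Q z (e j) = 0
      rw [b_comm hQ]; exact hzo _
    · exact hzo _
    · exact hee i j
  · have hli : LinearIndependent F w := Fintype.linearIndependent_iff.2 fun c hc' => by
      rw [Fintype.sum_option] at hc'
      change c none • z + ∑ i, c (some i) • e i = 0 at hc'
      have hsome : ∀ j, c (some j) = 0 := fun j => by
        have h0 : ζ * polar Q (c none • z + ∑ i, c (some i) • e i) (f j) = ζ * polar Q 0 (f j) :=
          congrArg (fun v => ζ * polar Q v (f j)) hc'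
        rw [hb.add_left, hb.smul_left, b_comm hQ z, show polar Q (f j) z = 0 from hzo _, mul_zero, zero_add,
          pair_f (fun i => c (some i)) j, b_zero_left hQ, mul_zero] at h0
        exact h0
      rintro (_ | j)
      · simp only [hsome, zero_smul, Finset.sum_const_zero, add_zero] at hc'
        exact (smul_eq_zero.1 hc').resolve_right hz0
      · exact hsome j
    rw [finrank_span_eq_card hli, Fintype.card_option, Fintype.card_fin, finrank_top, Module.finrank_fin_fun]
    omega

end CfsgLib.Classical.OrthEven
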