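import Cfsg.Agent.Lib.Classical.OrthEven.Proper
import Cfsg.Agent.Lib.Derangements.OrthNondegElusive

/-!
# Invariant subspaces, and the two families of maximal totally singular subspaces
-/

set_option autoImplicit false
set_option linter.unusedSectionVars false

namespace CfsgLib.Classical.OrthEven

open Matrix Cfsg Cfsg.Geo QuadraticMap CfsgLib.Orth CfsgLib.Classical CfsgLib.Classical.AschPrime
  CfsgLib.Classical.AschForm
open scoped MatrixGroups

variable {F : Type*} [Field F] {n : ℕ} {Q : (Fin n → F) → F}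

theorem two_eq_zero_iff [Fintype F] : (2 : F) = 0 ↔ ¬ Odd (Fintype.card F) := by
  constructor
  · intro h
    haveI : CharP F 2 := CharTwo.of_one_ne_zero_of_two_eq_zero one_ne_zero h
    exact Nat.not_odd_iff_even.2
      (Nat.even_iff.2 (FiniteField.even_card_of_char_two (ringChar.eq F 2)))
  · intro h
    by_contra h2
    exact h (Nat.odd_iff.2 (FiniteField.odd_card_of_char_ne_two (F := F) fun h' => h2 (by
      haveI := ringChar.eq_iff.1 h'
      exact CharTwo.two_eq_zero)))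

theorem odd_card_iff [Fintype F] : Odd (Fintype.card F) ↔ (2 : F) ≠ 0 := by
  rw [ne_eq, two_eq_zero_iff, not_not]

/-- Where a reducible group of isometries lies. -/
def Reduced [Fintype F] (Q : (Fin n → F) → F) (H : Subgroup (GL (Fin n) F)) : Prop :=
  (∃ U : Submodule F (Fin n → F), U ≠ ⊥ ∧ IsTotallySingularQuad Q U ∧ H ≤ subspaceStabilizer U) ∨
  (¬ Odd (Fintype.card F) ∧ ∃ v, Q v ≠ 0 ∧ H ≤ subspaceStabilizer (Submodule.span F {v})) ∨
  (∃ U : Submodule F (Fin n → F), U ≠ ⊥ ∧ IsNondegenerateOn (polar Q) U ∧ 2 * Module.finrank F U < n ∧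
      H ≤ subspaceStabilizer U) ∨
  (∃ U : Submodule F (Fin n → F), IsNondegenerateOn (polar Q) U ∧ 2 * Module.finrank F U = n ∧
      H ≤ subspaceStabilizer U)

variable [Fintype F] (hQ : IsNondegenerateQuadraticForm Q) {H : Subgroup (GL (Fin n) F)} (hH : H ≤ omegaGL Q)
include hQ hH

/-- A totally isotropic invariant subspace for the polar form. -/
theorem reduced_of_isotropic {W : Submodule F (Fin n → F)} (h0 : W ≠ ⊥) (hW : IsTotallySingularFor (polar Q) W)
    (hinv : ∀ h ∈ H, ∀ v ∈ W, (h : Mat n F) *ᵥ v ∈ W) : Reduced Q H := by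
  by_cases h2 : (2 : F) = 0
  swap
  · refine .inl ⟨W, h0, fun w hw => ?_, le_subspaceStabilizer hinv⟩
    have e := hW w hw w hw
    rw [b_self hQ] at e
    exact (mul_eq_zero.1 e).resolve_left h2
  haveI : CharP F 2 := CharTwo.of_one_ne_zero_of_two_eq_zero one_ne_zero h2
  let K : Submodule F (Fin n → F) :=
    { carrier := {w | w ∈ W ∧ Q w = 0}
      add_mem' := fun {a b} ha hb => ⟨W.add_mem ha.1 hb.1, by
        rw [q_add hQ, ha.2, hb.2, hW a ha.1 b hb.1]; ring⟩
      zero_mem' := ⟨W.zero_mem, q_zero hQ⟩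
      smul_mem' := fun c a ha => ⟨W.smul_mem _ ha.1, by rw [q_smul hQ, ha.2, mul_zero]⟩ }
  by_cases hK : K = ⊥
  swap
  · exact .inl ⟨K, hK, fun w hw => hw.2,
      le_subspaceStabilizer fun h hh v hv => ⟨hinv h hh v hv.1, (omega_isometry (hH hh) v).trans hv.2⟩⟩
  obtain ⟨v, hv, hv0⟩ := Submodule.exists_mem_ne_zero_of_ne_bot h0
  have hvQ : Q v ≠ 0 := fun e => hv0 ((Submodule.mem_bot F).1 (hK ▸ (⟨hv, e⟩ : v ∈ K)))
  refine .inr (.inl ⟨two_eq_zero_iff.1 h2, v, hvQ, ?_⟩)
  have heq : W = Submodule.span F {v} := by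
    refine le_antisymm (fun w hw => ?_) ((Submodule.span_singleton_le_iff_mem _ _).2 hv)
    obtain ⟨c, hc⟩ := CfsgLib.Derangements.EvenForms.exists_sqrt (F := F) (Q w / Q v)
    have hm : w + c • v ∈ K := by
      refine ⟨W.add_mem hw (W.smul_mem _ hv), ?_⟩
      rw [q_add hQ, q_smul hQ, hW w hw _ (W.smul_mem _ hv), ← pow_two, hc]
      field_simp
      linear_combination Q w * h2
    rw [hK, Submodule.mem_bot] at hm
    rw [eq_neg_of_add_eq_zero_left hm, Submodule.mem_span_singleton]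
    exact ⟨-c, by rw [neg_smul]⟩
  rw [← heq]
  exact le_subspaceStabilizer hinv

/-- An invariant subspace. -/
theorem reduced_of_invariant {W : Submodule F (Fin n → F)} (h0 : W ≠ ⊥) (h1 : W ≠ ⊤)
    (hinv : ∀ h ∈ H, ∀ v ∈ W, (h : Mat n F) *ᵥ v ∈ W) : Reduced Q H := by
  have hf := herm hQ
  have hP := hf.perp_invariant (fixesForm_omega hH) hinv
  by_cases hWW : W ⊓ hf.perp W = ⊥
  swap
  · exact reduced_of_isotropic hQ hH hWW (fun u hu v hv => hu.2 v hv.1)
      fun h hh v hv => ⟨hinv h hh v hv.1, hP h hh v hv.2⟩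
  have hsum := Submodule.finrank_sup_add_finrank_inf_eq W (hf.perp W)
  rw [hWW, finrank_bot] at hsum
  have hle := Submodule.finrank_le (W ⊔ hf.perp W)
  have hge := hf.finrank_perp W
  rw [Module.finrank_fintype_fun_eq_card, Fintype.card_fin] at hle
  have htop : W ⊔ hf.perp W = ⊤ := Submodule.eq_top_of_finrank_eq (by
    rw [Module.finrank_fintype_fun_eq_card, Fintype.card_fin]; omega)
  have hnW := hf.nondeg_of_sup htop fun u hu w hw => hf.zero_comm (hw u hu)
  have hnP := hf.nondeg_of_sup (U := hf.perp W) (W := W) (by rw [sup_comm]; exact htop) fun u hu w hw => hu w hw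
  rcases lt_trichotomy (2 * Module.finrank F W) n with hlt | heq | hgt
  · exact .inr (.inr (.inl ⟨W, h0, hnW, hlt, le_subspaceStabilizer hinv⟩))
  · exact .inr (.inr (.inr ⟨W, hnW, heq, le_subspaceStabilizer hinv⟩))
  · exact .inr (.inr (.inl ⟨hf.perp W, fun e => h1 (by rw [← htop, e, sup_bot_eq]), hnP, by omega,
      le_subspaceStabilizer hP⟩))

/-- A fixed functional gives an invariant subspace. -/
theorem reduced_of_functional (hn : 2 ≤ n) {φ : (Fin n → F) →ₗ[F] F} (h0 : φ ≠ 0)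
    (hinv : ∀ h ∈ H, ∀ v, φ v = 0 → φ ((h : Mat n F) *ᵥ v) = 0) : Reduced Q H := by
  have h1 := φ.finrank_range_add_finrank_ker
  have h2 := (LinearMap.range φ).finrank_le
  rw [Module.finrank_fin_fun] at h1
  rw [Module.finrank_self] at h2
  refine reduced_of_invariant hQ hH (W := LinearMap.ker φ) (fun e => ?_) (fun e => h0 (LinearMap.ker_eq_top.1 e))
    fun h hh v hv => hinv h hh v hv
  rw [e, finrank_bot] at h1
  omega

omit hH in
theorem exists_orth {g : GL (Fin n) F} (hg : g ∈ omegaGL Q) :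
    ∃ y : orthGroup (qf hQ), y ∈ commutator (orthGroup (qf hQ)) ∧
      Matrix.toLin' (g : Mat n F) = (y.1 : (Fin n → F) →ₗ[F] (Fin n → F)) := by
  rw [omegaGL_eq (Qf := Q) (qf hQ) (fun _ => rfl)] at hg
  obtain ⟨y, hy, rfl⟩ := hg
  exact ⟨y, hy, toLin'_orthToGL (qf hQ) (fun _ => rfl) y⟩

/-- A hyperplane of a maximal totally singular subspace: its stabiliser fixes one containing it. -/
theorem exists_lag_of_sub {k : ℕ} (hk : n = 2 * k) (hn : 5 ≤ n) (hplus : IsPlusTypeOn Q ⊤)
    {W : Submodule F (Fin n → F)} (hW : IsTotallySingularQuad Q W) (hd : Module.finrank F W + 1 = k)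
    (hle : H ≤ subspaceStabilizer W) :
    ∃ L : Submodule F (Fin n → F), IsTotallySingularQuad Q L ∧ Module.finrank F L = k ∧ H ≤ subspaceStabilizer L := by
  obtain ⟨U₀, -, hU₀, hU₀d⟩ := hplus
  rw [finrank_top] at hU₀d
  have hN := qf_nondeg hQ
  have hU₀L : IsLagrangian (qf hQ) U₀ := isLagrangian_of_finrank hN hU₀ hU₀d.symm
  rw [Module.finrank_fin_fun] at hU₀d
  obtain ⟨W', hW'le, hW'd⟩ := CfsgLib.Derangements.OrthInv.exists_sub_dim
    (W := U₀) (b := Module.finrank F W) (by omega)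
  obtain ⟨g, hg⟩ := exists_map_eq_submodule hN (good hQ hn) (LinearEquiv.ofFinrankEq W' W hW'd) (fun u => by
    show Q _ = Q _
    rw [hW _ (LinearEquiv.ofFinrankEq W' W hW'd u).2, hU₀ _ (hW'le u.2)])
  set L := U₀.map (g.1 : (Fin n → F) →ₗ[F] (Fin n → F)) with hLdef
  have hL : IsLagrangian (qf hQ) L := isLagrangian_map hU₀L g
  have hWL : W ≤ L := hg ▸ Submodule.map_mono hW'le
  have hLd : Module.finrank F L = k := by rw [hLdef, LinearEquiv.finrank_map_eq]; omega
  refine ⟨L, hL.1, hLd, fun h hh => ?_⟩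
  obtain ⟨y, hy, hye⟩ := exists_orth hQ (hH hh)
  have heven := lag_even_dist hN hL hy
  set L' := L.map (y.1 : (Fin n → F) →ₗ[F] (Fin n → F)) with hL'
  have hWL' : W ≤ L' := fun w hw => by
    have hw' := ((hle hh) (((h⁻¹ : GL (Fin n) F) : Mat n F) *ᵥ w)).2
      (by
        show ((h : Mat n F) *ᵥ _) ∈ W
        rwa [Matrix.mulVec_mulVec, Units.mul_inv, Matrix.one_mulVec])
    refine ⟨_, hWL hw', ?_⟩
    rw [← hye, Matrix.toLin'_apply, Matrix.mulVec_mulVec, Units.mul_inv, Matrix.one_mulVec]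
  have h1 : Module.finrank F W ≤ Module.finrank F ↥(L ⊓ L') := Submodule.finrank_mono (le_inf hWL hWL')
  have h2 := lag_finrank_le (U := L) (W := L')
  obtain ⟨r, hr⟩ := heven
  unfold lagDist at hr
  have h3 : L ⊓ L' = L := Submodule.eq_of_le_of_finrank_eq inf_le_left (by omega)
  have h4 : L' = L :=
    (Submodule.eq_of_le_of_finrank_eq (inf_eq_left.1 h3) (LinearEquiv.finrank_map_eq y.1 L).symm).symm
  intro v
  refine ⟨fun hv => ?_, fun hv => ?_⟩
  · show (h : Mat n F) *ᵥ v ∈ L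
    rw [← h4, hL', ← hye]
    exact ⟨v, hv, by simp⟩
  · change (h : Mat n F) *ᵥ v ∈ L at hv
    rw [← h4, hL', ← hye] at hv
    obtain ⟨x, hx, hxe⟩ := hv
    rw [Matrix.toLin'_apply] at hxe
    exact Matrix.mulVec_injective_iff_isUnit.2 h.isUnit hxe ▸ hx

/-- In odd half dimension no element of `Ω` exchanges two complementary maximal totally singular subspaces. -/
theorem fix_half {k : ℕ} (hk : n = 2 * k) (hodd : Odd k) {D : Fin 2 → Submodule F (Fin n → F)}
    (hD : IsMDecomposition k D) (hts : ∀ i, IsTotallySingularQuad Q (D i)) (hle : H ≤ decompositionStabilizer D) :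
    H ≤ subspaceStabilizer (D 0) := by
  have hN := qf_nondeg hQ
  refine le_subspaceStabilizer fun h hh v hv => ?_
  obtain ⟨σ, hσ⟩ := hle hh
  have hmem : (h : Mat n F) *ᵥ v ∈ D (σ 0) := by rw [← hσ 0]; exact ⟨v, hv, by simp⟩
  rcases eq_or_ne (σ 0) 0 with h0 | h0
  · rwa [h0] at hmem
  exfalso
  obtain ⟨y, hy, hye⟩ := exists_orth hQ (hH hh)
  have hL : IsLagrangian (qf hQ) (D 0) := isLagrangian_of_finrank hN (hts 0) (by
    rw [Module.finrank_fin_fun, hD.finrank_eq]; exact hk)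
  have heven := lag_even_dist hN hL hy
  unfold lagDist at heven
  rw [← hye, hσ 0, disjoint_iff.1 (hD.indep.pairwiseDisjoint (Ne.symm h0)), finrank_bot, Nat.sub_zero,
    hD.finrank_eq] at heven
  exact Nat.not_even_iff_odd.2 hodd heven

end CfsgLib.Classical.OrthEven
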