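import Cfsg.Agent.Lib.Classical.OrthEven.Common

/-!
# The maximal subgroups in dimension ten
-/

set_option autoImplicit false
set_option linter.unusedSectionVars false

namespace CfsgLib.Classical.OrthEven

open Matrix Cfsg Cfsg.Geo QuadraticMap CfsgLib.Orth CfsgLib.Classical CfsgLib.Classical.AschPrime
  CfsgLib.Classical.AschForm
open scoped MatrixGroups

variable {F : Type*} [Field F] [Fintype F]

/-- The classes of maximal subgroups in dimension ten, either type. -/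
def TenList (Q : (Fin 10 → F) → F) (H : Subgroup (GL (Fin 10) F)) : Prop :=
  (∃ W : Submodule F (Fin 10 → F), W ≠ ⊥ ∧ IsTotallySingularQuad Q W ∧
      (IsPlusTypeOn Q ⊤ → Module.finrank F W ≠ 4) ∧ H = subspaceStabilizer W ⊓ omegaGL Q) ∨
  SmallList Q H ∨
  ((∃ p : ℕ, p.Prime ∧ Fintype.card F = p ∧ Odd p ∧ (IsPlusTypeOn Q ⊤ ↔ p % 4 ≠ 3)) ∧
      ∃ D : Fin 10 → Submodule F (Fin 10 → F), IsOrthogonalMDecomposition Q 1 D ∧
        H = decompositionStabilizer D ⊓ omegaGL Q) ∨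
  (((IsPlusTypeOn Q ⊤ → 7 ≤ Fintype.card F) ∧ (¬ IsPlusTypeOn Q ⊤ → Fintype.card F ≠ 3)) ∧
      ∃ D : Fin 5 → Submodule F (Fin 10 → F), IsOrthogonalMDecomposition Q 2 D ∧
        H = decompositionStabilizer D ⊓ omegaGL Q) ∨
  ((Odd (Fintype.card F) ∧ (IsPlusTypeOn Q ⊤ ↔ Fintype.card F % 4 ≠ 3)) ∧
      ∃ D : Fin 2 → Submodule F (Fin 10 → F), IsOrthogonalMDecomposition Q 5 D ∧
        H = decompositionStabilizer D ⊓ omegaGL Q) ∨
  ((Odd (Fintype.card F) ∧ (IsPlusTypeOn Q ⊤ ↔ Fintype.card F % 4 = 3)) ∧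
      ∃ D : Fin 2 → Submodule F (Fin 10 → F), IsNondegenerateMDecomposition (polar Q) 5 D ∧
        ¬ AreIsometricFor Q (D 0) (D 1) ∧ H = decompositionStabilizer D ⊓ omegaGL Q) ∨
  (Odd (Fintype.card F) ∧ ∃ K : Subalgebra F (Mat 10 F), IsFieldSubalgebra 2 K ∧
      IsSelfAdjointFor (polar Q) K ∧ H = subalgebraNormalizer K ⊓ omegaGL Q) ∨
  (¬ IsPlusTypeOn Q ⊤ ∧ ∃ K : Subalgebra F (Mat 10 F), IsFieldSubalgebra 2 K ∧
      IsAdjointClosedFor (polar Q) K ∧ ¬ IsSelfAdjointFor (polar Q) K ∧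
      (∀ k ∈ K, ∃ c : F, ∀ v : Fin 10 → F, Q (k *ᵥ v) = c * Q v) ∧ H = subalgebraNormalizer K ⊓ omegaGL Q) ∨
  (∃ (F₀ : Subfield F) (r : ℕ) (P : GL (Fin 10) F) (ζ : F), r.Prime ∧ (¬ IsPlusTypeOn Q ⊤ → Odd r) ∧
      Fintype.card F = Nat.card F₀ ^ r ∧ ζ ≠ 0 ∧ IsQuadFormRationalStructure (fun v => ζ * Q v) F₀ P ∧
      H = subfieldSubgroup F₀ P ⊓ omegaGL Q) ∨
  InOrthogonalResidualClass H

variable {Q : (Fin 10 → F) → F} (hQ : IsNondegenerateQuadraticForm Q)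
  {H : Subgroup (GL (Fin 10) F)} (hH : IsMaximalIn (omegaGL Q) H)
include hQ hH

theorem ten_ts {U : Submodule F (Fin 10 → F)} (h0 : U ≠ ⊥) (hU : IsTotallySingularQuad Q U)
    (hle : H ≤ subspaceStabilizer U) : TenList Q H := by
  have hn : 7 ≤ 10 := by norm_num
  by_cases h : IsPlusTypeOn Q ⊤ ∧ Module.finrank F U = 4
  · obtain ⟨L, hL, hLd, hle'⟩ := exists_lag_of_sub hQ hH.1.le (k := 5) rfl (by norm_num) h.1 hU (by omega) hle
    have hL0 : L ≠ ⊥ := fun e => by rw [e, finrank_bot] at hLd; omega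
    exact .inl ⟨L, hL0, hL, fun _ => by omega, eq_stab_ts hQ hn hH hL0 hL hle'⟩
  · exact .inl ⟨U, h0, hU, fun hp e => h ⟨hp, e⟩, eq_stab_ts hQ hn hH h0 hU hle⟩

theorem ten_reduced (h : Reduced Q H) : TenList Q H := by
  have hn : 7 ≤ 10 := by norm_num
  rcases h with ⟨U, h0, hU, hle⟩ | ⟨hev, v, hv, hle⟩ | ⟨U, h0, hU, hd, hle⟩ | ⟨U, hU, hd, hle⟩
  · exact ten_ts hQ hH h0 hU hle
  · exact .inr (.inl (.inr (.inr (.inr (.inr ⟨hev, v, hv, eq_point hQ hn hH hv hle⟩)))))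
  · exact .inr (.inl (small_cases hQ hH hn (by norm_num) h0 hU hd hle))
  · obtain ⟨W, hc, hW, ho, hdim, hstab⟩ := exists_compl hQ hU
    have hD : IsNondegenerateMDecomposition (polar Q) 5 ![U, W] := by
      refine ⟨pair_decomp (by norm_num) (by omega) (by omega) hc, fun i => by fin_cases i <;> assumption,
        fun i j hij => ?_⟩
      fin_cases i <;> fin_cases j <;>
        first | exact absurd rfl hij | exact ho | exact fun x hx y hy => (b_comm hQ x y).trans (ho y hy x hx)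
    obtain ⟨hodd, hi, hni⟩ := odd_halves hQ (k := 5) (by decide) hD
    have heq := eq_decomp hQ hn hH hD.decomp (fun e => absurd e (by norm_num)) (fun e => absurd e (by norm_num))
      (le_pair_stab hle (hstab H hH.1.le hle))
    by_cases hiso : AreIsometricFor Q U W
    · refine .inr (.inr (.inr (.inr (.inl ⟨⟨hodd, hi hiso⟩, ![U, W], ⟨hD, fun i j => ?_⟩, heq⟩))))
      fin_cases i <;> fin_cases j <;>
        first | exact ⟨LinearEquiv.refl F _, fun w => rfl⟩ | exact hiso | exact areIsometric_symm hiso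
    · exact .inr (.inr (.inr (.inr (.inr (.inl ⟨⟨hodd, hni hiso⟩, ![U, W], hD, hiso, heq⟩)))))

theorem ten_quadratic {K : Subalgebra F (Mat 10 F)} (hK : IsFieldSubalgebra 2 K)
    (hadj : IsAdjointClosedFor (polar Q) K) (hns : ¬ IsSelfAdjointFor (polar Q) K)
    (hle : H ≤ subalgebraNormalizer K) : TenList Q H := by
  rcases similar_or_reduced hQ hH.1.le (by norm_num) hK hadj hns hle with hsim | h
  · exact .inr (.inr (.inr (.inr (.inr (.inr (.inr (.inl ⟨fun hp => not_similar_plus_ten hQ rfl hK hsim hp,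
      K, hK, hadj, hns, hsim, eq_field hQ (by norm_num) hH Nat.prime_two hK hle⟩)))))))
  · exact ten_reduced hQ hH h

theorem ten_halves {k : ℕ} {D : Fin 2 → Submodule F (Fin 10 → F)} (hk : 2 * k = 10) (hD : IsMDecomposition k D)
    (hts : ∀ i, IsTotallySingularQuad Q (D i)) (hle : H ≤ decompositionStabilizer D) : TenList Q H := by
  have h0 : D 0 ≠ ⊥ := fun e => by have := hD.finrank_eq 0; rw [e, finrank_bot] at this; omega
  exact ten_ts hQ hH h0 (hts 0) (fix_half hQ hH.1.le (k := k) hk.symm ⟨2, by omega⟩ hD hts hle)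

theorem ten_subfield {F₀ : Subfield F} {l : ℕ} {P : GL (Fin 10) F} {ζ : F} (hl : l.Prime) (hne : F₀ ≠ ⊤)
    (hcard : Fintype.card F = Nat.card F₀ ^ l) (hζ : ζ ≠ 0)
    (hP : IsQuadFormRationalStructure (fun v => ζ * Q v) F₀ P) (hle : H ≤ subfieldSubgroup F₀ P) :
    TenList Q H := by
  refine .inr (.inr (.inr (.inr (.inr (.inr (.inr (.inr (.inl ⟨F₀, l, P, ζ, hl, fun hm => ?_, hcard, hζ, hP,
    eq_subfield hQ (by norm_num) hH hne hle⟩))))))))
  rcases hl.eq_two_or_odd' with rfl | h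
  · exact absurd (plus_of_rational hQ (k := 5) rfl hcard hζ hP) hm
  · exact h

theorem ten_decomp {t m : ℕ} {D : Fin t → Submodule F (Fin 10 → F)} (hD : IsOrthogonalMDecomposition Q m D)
    (hle : H ≤ decompositionStabilizer D) : TenList Q H := by
  classical
  have hn : 7 ≤ 10 := by norm_num
  have htm := AschGen.decomp_card hD.decomp.decomp
  have hm := hD.decomp.decomp.pos
  have ht := hD.decomp.decomp.two_le
  have hm5 : m ≤ 5 := by nlinarith
  have heq : m ≠ 1 → H = decompositionStabilizer D ⊓ omegaGL Q := fun h1 =>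
    eq_decomp hQ hn hH hD.decomp.decomp (fun _ => hD.decomp.orthogonal) (fun e => absurd e h1) hle
  interval_cases m
  · obtain rfl : t = 10 := by omega
    rcases lines_cases hQ hH.1.le hD hle with ⟨p, hp, hodd, hq⟩ | ⟨F₀, l, P, ζ, hl, hne, hcard, hζ, hP, hle'⟩
    · obtain ⟨v, a, ha, h2, hv, hvo, -⟩ := exists_frame hQ hD
      refine .inr (.inr (.inl ⟨⟨p, hp, hq, hodd, ?_⟩, D, hD,
        eq_decomp hQ hn hH hD.decomp.decomp (fun _ => hD.decomp.orthogonal) (fun _ => h2) hle⟩))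
      rw [← hq]
      exact (frame_type hQ h2 (s := 5) rfl (by norm_num) ha hv hvo).2 ⟨2, rfl⟩
    · exact ten_subfield hQ hH hl hne hcard hζ hP hle'
  · obtain rfl : t = 5 := by omega
    have htype : IsPlusTypeOn Q ⊤ → ∀ i, IsPlusTypeOn Q (D i) := fun hp i =>
      ((plus_iff_members hQ hD.decomp ⟨1, rfl⟩ (fun i j => plus_iff_of_isometric (hD.isometric i j)) i).2
        ⟨2, rfl⟩).1 hp
    have hQf : ∀ v, Q v = qf hQ v := fun _ => rfl
    by_cases hp : IsPlusTypeOn Q ⊤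
    · by_cases h7 : 7 ≤ Fintype.card F
      · exact .inr (.inr (.inr (.inl ⟨⟨fun _ => h7, fun h => absurd hp h⟩, D, hD, heq (by norm_num)⟩)))
      · refine (false_of_between hQ hH hle ?_).elim
        have h6 := card_ne_six (F := F)
        have h1 := Fintype.one_lt_card (α := F)
        by_cases h3 : Fintype.card F = 3
        · exact RefineSet.lines_two hQf hD h3 le_rfl
        by_cases h5 : Fintype.card F = 5
        · exact RefineSet.lines_five hQf hD h5 le_rfl (htype hp)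
        exact RefineSet.planes_small hQf (qf_nondeg hQ) (good hQ (by norm_num)) (five_le hQ (by norm_num)) hD (by omega) le_rfl (htype hp)
    · by_cases h3 : Fintype.card F = 3
      · exact (false_of_between hQ hH hle (RefineSet.lines_two hQf hD h3 le_rfl)).elim
      · exact .inr (.inr (.inr (.inl ⟨⟨fun h => absurd h hp, fun _ => h3⟩, D, hD, heq (by norm_num)⟩)))
  · omega
  · omega
  · obtain rfl : t = 2 := by omega
    obtain ⟨hodd, hi, -⟩ := odd_halves hQ (k := 5) (by decide) hD.decomp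
    exact .inr (.inr (.inr (.inr (.inl ⟨⟨hodd, hi (hD.isometric 0 1)⟩, D, hD, heq (by norm_num)⟩))))

theorem ten_tensor {n₁ n₂ : ℕ} {e : Fin 10 ≃ Fin n₁ × Fin n₂} {P : GL (Fin 10) F}
    {f₁ : (Fin n₁ → F) → (Fin n₁ → F) → F} {f₂ : (Fin n₂ → F) → (Fin n₂ → F) → F}
    (T : Tens Q H e P f₁ f₂) : TenList Q H := by
  have hc := card_eq e
  have h1 := T.two_le₁
  have h2 := T.two_le₂
  have plane : ∀ {a b : ℕ} {e' : Fin 10 ≃ Fin a × Fin b} {g₁ : (Fin a → F) → (Fin a → F) → F}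
      {g₂ : (Fin b → F) → (Fin b → F) → F}, a = 2 → Tens Q H e' P g₁ g₂ → TenList Q H :=
    fun {a b e' g₁ g₂} ha T' => by
      rcases tens_plane hQ hH T' ha with h | ⟨K, hK, hadj, hns, hle⟩ | ⟨k, D, hk, hD, hts, hle⟩ | ⟨-, halt, -⟩
      · exact ten_reduced hQ hH h
      · exact ten_quadratic hQ hH hK hadj hns hle
      · exact ten_halves hQ hH hk hD hts hle
      · obtain ⟨c, hb⟩ := even_of_alternating T'.bil₂ T'.nd₂ halt
        have := card_eq e'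
        subst ha
        omega
  by_cases hn₁ : n₁ = 2
  · exact plane hn₁ T
  · refine plane ?_ T.swap
    have : n₁ ≤ 5 := by nlinarith
    interval_cases n₁ <;> omega

/-- The classes in dimension ten. -/
theorem ten_cases : TenList Q H := by
  classical
  have hn : 7 ≤ 10 := by norm_num
  have hHle : H ≤ omegaGL Q := hH.1.le
  rcases geometric hQ (by norm_num) hHle with h | ⟨t, m, D, hD, hle⟩ | ⟨k, D, hk, hD, hts, hle⟩ |
    ⟨r, K, hr, hrd, hK, hs, hle⟩ | ⟨K, hK, hadj, hns, -, hle⟩ | ⟨n₁, n₂, e, P, f₁, f₂, T⟩ |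
    ⟨m, t, e, P, ε₁, f₁, L, hm, ht, -, -, -, -, -, -⟩ |
    ⟨F₀, l, P, ζ, hl, hne, hcard, hζ, hP, hle⟩ | ⟨r, m, R, hm, hnm, hR, -⟩ | h
  · exact ten_reduced hQ hH h
  · exact ten_decomp hQ hH hD hle
  · exact ten_halves hQ hH hk hD hts hle
  · have hr' : r = 2 ∨ r = 5 := by
      rcases (Nat.Prime.dvd_mul hr).1 (show r ∣ 2 * 5 from hrd) with h | h
      · exact .inl ((Nat.prime_dvd_prime_iff_eq hr Nat.prime_two).1 h)
      · exact .inr ((Nat.prime_dvd_prime_iff_eq hr (by norm_num)).1 h)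
    rcases hr' with rfl | rfl
    · refine .inr (.inr (.inr (.inr (.inr (.inr (.inl ⟨odd_card_iff.2 fun h2 => ?_,
        K, hK, hs, eq_field hQ hn hH Nat.prime_two hK hle⟩))))))
      have := four_dvd_of_selfAdjoint hQ (by norm_num) h2 hK hs
      omega
    · rcases halves_or_quadratic hQ hK hs rfl (by norm_num) hHle hle (by decide) with ⟨D, hD, hts, hle'⟩ | ⟨K₂, hK₂, hadj, hns, hle'⟩
      · exact ten_halves hQ hH rfl hD hts hle'
      · exact ten_quadratic hQ hH hK₂ hadj hns hle'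
  · exact ten_quadratic hQ hH hK hadj hns hle
  · exact ten_tensor hQ hH T
  · exfalso
    have hc : 10 = m ^ t := by simpa using Fintype.card_congr e
    have h1 : m ^ 2 ≤ m ^ t := Nat.pow_le_pow_right (by omega) ht
    have hm3 : m ≤ 3 := by nlinarith
    have hp : Nat.Prime m := by interval_cases m <;> norm_num
    have := (Nat.prime_dvd_prime_iff_eq (by norm_num : Nat.Prime 5) hp).1
      (Nat.Prime.dvd_of_dvd_pow (by norm_num) (hc ▸ (by norm_num : (5 : ℕ) ∣ 10)))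
    omega
  · exact ten_subfield hQ hH hl hne hcard hζ hP hle
  · exfalso
    have h5 := (Nat.prime_dvd_prime_iff_eq (by norm_num : Nat.Prime 5) hR.prime).1
      (Nat.Prime.dvd_of_dvd_pow (by norm_num) (hnm ▸ (by norm_num : (5 : ℕ) ∣ 10)))
    have h2 := (Nat.prime_dvd_prime_iff_eq Nat.prime_two hR.prime).1
      (Nat.prime_two.dvd_of_dvd_pow (hnm ▸ (by norm_num : (2 : ℕ) ∣ 10)))
    omega
  · exact .inr (.inr (.inr (.inr (.inr (.inr (.inr (.inr (.inr h))))))))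

omit hH in
theorem ten_minus_cases (hminus : ¬ IsPlusTypeOn Q ⊤) (hH : IsMaximalIn (omegaGL Q) H) :
    (∃ W : Submodule F (Fin 10 → F), W ≠ ⊥ ∧ IsTotallySingularQuad Q W ∧ H = subspaceStabilizer W ⊓ omegaGL Q) ∨
    (Odd (Fintype.card F) ∧ ∃ W : Submodule F (Fin 10 → F), W ≠ ⊥ ∧ W ≠ ⊤ ∧ Odd (Module.finrank F W) ∧
      2 * Module.finrank F W ≠ 10 ∧ IsNondegenerateOn (polar Q) W ∧ H = subspaceStabilizer W ⊓ omegaGL Q) ∨
    (∃ W : Submodule F (Fin 10 → F), Module.finrank F W = 2 ∧ IsNondegenerateOn (polar Q) W ∧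
      ¬ IsPlusTypeOn Q W ∧ H = subspaceStabilizer W ⊓ omegaGL Q) ∨
    (4 ≤ Fintype.card F ∧ ∃ W : Submodule F (Fin 10 → F), Module.finrank F W = 2 ∧
      IsNondegenerateOn (polar Q) W ∧ IsPlusTypeOn Q W ∧ H = subspaceStabilizer W ⊓ omegaGL Q) ∨
    (∃ W : Submodule F (Fin 10 → F), Module.finrank F W = 4 ∧ IsNondegenerateOn (polar Q) W ∧
      H = subspaceStabilizer W ⊓ omegaGL Q) ∨
    (¬ Odd (Fintype.card F) ∧ ∃ v : Fin 10 → F, Q v ≠ 0 ∧
      H = subspaceStabilizer (Submodule.span F {v}) ⊓ omegaGL Q) ∨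
    ((∃ p : ℕ, p.Prime ∧ Fintype.card F = p ∧ (p % 4 = 3)) ∧ ∃ D : Fin 10 → Submodule F (Fin 10 → F),
      IsOrthogonalMDecomposition Q 1 D ∧ H = decompositionStabilizer D ⊓ omegaGL Q) ∨
    (Fintype.card F ≠ 3 ∧ ∃ D : Fin 5 → Submodule F (Fin 10 → F),
      IsOrthogonalMDecomposition Q 2 D ∧ H = decompositionStabilizer D ⊓ omegaGL Q) ∨
    (Fintype.card F % 4 = 3 ∧ ∃ D : Fin 2 → Submodule F (Fin 10 → F),
      IsOrthogonalMDecomposition Q 5 D ∧ H = decompositionStabilizer D ⊓ omegaGL Q) ∨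
    (Fintype.card F % 4 = 1 ∧ ∃ D : Fin 2 → Submodule F (Fin 10 → F),
      IsNondegenerateMDecomposition (polar Q) 5 D ∧ ¬ AreIsometricFor Q (D 0) (D 1) ∧
      H = decompositionStabilizer D ⊓ omegaGL Q) ∨
    (Odd (Fintype.card F) ∧ ∃ K : Subalgebra F (Mat 10 F), IsFieldSubalgebra 2 K ∧
      IsSelfAdjointFor (polar Q) K ∧ H = subalgebraNormalizer K ⊓ omegaGL Q) ∨
    (∃ K : Subalgebra F (Mat 10 F), IsFieldSubalgebra 2 K ∧ IsAdjointClosedFor (polar Q) K ∧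
      ¬ IsSelfAdjointFor (polar Q) K ∧ (∀ k ∈ K, ∃ c : F, ∀ v : Fin 10 → F, Q (k *ᵥ v) = c * Q v) ∧
      H = subalgebraNormalizer K ⊓ omegaGL Q) ∨
    (∃ (F₀ : Subfield F) (r : ℕ) (P : GL (Fin 10) F) (ζ : F), r.Prime ∧ Odd r ∧
      Fintype.card F = Nat.card F₀ ^ r ∧ ζ ≠ 0 ∧ IsQuadFormRationalStructure (fun v => ζ * Q v) F₀ P ∧
      H = subfieldSubgroup F₀ P ⊓ omegaGL Q) ∨
    InOrthogonalResidualClass H := by
  rcases ten_cases hQ hH with ⟨W, h0, hW, -, e⟩ | (h | h | h | h | h) | ⟨⟨p, hp, hq, hodd, ht⟩, h⟩ | ⟨⟨-, ht⟩, h⟩ |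
    ⟨⟨hodd, ht⟩, h⟩ | ⟨⟨hodd, ht⟩, h⟩ | h | ⟨-, h⟩ | ⟨F₀, r, P, ζ, hr, ho, h⟩ | h
  · exact .inl ⟨W, h0, hW, e⟩
  · exact .inr (.inl h)
  · exact .inr (.inr (.inl h))
  · exact .inr (.inr (.inr (.inl h)))
  · exact .inr (.inr (.inr (.inr (.inl h))))
  · exact .inr (.inr (.inr (.inr (.inr (.inl h)))))
  · refine .inr (.inr (.inr (.inr (.inr (.inr (.inl ⟨⟨p, hp, hq, ?_⟩, h⟩))))))
    by_contra h3; exact hminus (ht.2 h3)
  · exact .inr (.inr (.inr (.inr (.inr (.inr (.inr (.inl ⟨ht hminus, h⟩)))))))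
  · refine .inr (.inr (.inr (.inr (.inr (.inr (.inr (.inr (.inl ⟨?_, h⟩))))))))
    by_contra h3; exact hminus (ht.2 h3)
  · refine .inr (.inr (.inr (.inr (.inr (.inr (.inr (.inr (.inr (.inl ⟨?_, h⟩)))))))))
    have h3 : Fintype.card F % 4 ≠ 3 := fun h3 => hminus (ht.2 h3)
    obtain ⟨c, hc⟩ := hodd
    omega
  · exact .inr (.inr (.inr (.inr (.inr (.inr (.inr (.inr (.inr (.inr (.inl h))))))))))
  · exact .inr (.inr (.inr (.inr (.inr (.inr (.inr (.inr (.inr (.inr (.inr (.inl h)))))))))))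
  · exact .inr (.inr (.inr (.inr (.inr (.inr (.inr (.inr (.inr (.inr (.inr (.inr (.inl ⟨F₀, r, P, ζ, hr, ho hminus, h⟩))))))))))))
  · exact .inr (.inr (.inr (.inr (.inr (.inr (.inr (.inr (.inr (.inr (.inr (.inr (.inr h))))))))))))

omit hH in
theorem ten_plus_cases (hplus : IsPlusTypeOn Q ⊤) (hH : IsMaximalIn (omegaGL Q) H) :
    (∃ W : Submodule F (Fin 10 → F), W ≠ ⊥ ∧ IsTotallySingularQuad Q W ∧ Module.finrank F W ≠ 4 ∧
      H = subspaceStabilizer W ⊓ omegaGL Q) ∨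
    (Odd (Fintype.card F) ∧ ∃ W : Submodule F (Fin 10 → F), W ≠ ⊥ ∧ W ≠ ⊤ ∧ Odd (Module.finrank F W) ∧
      2 * Module.finrank F W ≠ 10 ∧ IsNondegenerateOn (polar Q) W ∧ H = subspaceStabilizer W ⊓ omegaGL Q) ∨
    (∃ W : Submodule F (Fin 10 → F), Module.finrank F W = 2 ∧ IsNondegenerateOn (polar Q) W ∧
      ¬ IsPlusTypeOn Q W ∧ H = subspaceStabilizer W ⊓ omegaGL Q) ∨
    (4 ≤ Fintype.card F ∧ ∃ W : Submodule F (Fin 10 → F), Module.finrank F W = 2 ∧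
      IsNondegenerateOn (polar Q) W ∧ IsPlusTypeOn Q W ∧ H = subspaceStabilizer W ⊓ omegaGL Q) ∨
    (∃ W : Submodule F (Fin 10 → F), Module.finrank F W = 4 ∧ IsNondegenerateOn (polar Q) W ∧
      H = subspaceStabilizer W ⊓ omegaGL Q) ∨
    (¬ Odd (Fintype.card F) ∧ ∃ v : Fin 10 → F, Q v ≠ 0 ∧
      H = subspaceStabilizer (Submodule.span F {v}) ⊓ omegaGL Q) ∨
    ((∃ p : ℕ, p.Prime ∧ Fintype.card F = p ∧ (p % 4 = 1)) ∧ ∃ D : Fin 10 → Submodule F (Fin 10 → F),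
      IsOrthogonalMDecomposition Q 1 D ∧ H = decompositionStabilizer D ⊓ omegaGL Q) ∨
    (7 ≤ Fintype.card F ∧ ∃ D : Fin 5 → Submodule F (Fin 10 → F),
      IsOrthogonalMDecomposition Q 2 D ∧ H = decompositionStabilizer D ⊓ omegaGL Q) ∨
    (Fintype.card F % 4 = 1 ∧ ∃ D : Fin 2 → Submodule F (Fin 10 → F),
      IsOrthogonalMDecomposition Q 5 D ∧ H = decompositionStabilizer D ⊓ omegaGL Q) ∨
    (Fintype.card F % 4 = 3 ∧ ∃ D : Fin 2 → Submodule F (Fin 10 → F),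
      IsNondegenerateMDecomposition (polar Q) 5 D ∧ ¬ AreIsometricFor Q (D 0) (D 1) ∧
      H = decompositionStabilizer D ⊓ omegaGL Q) ∨
    (Odd (Fintype.card F) ∧ ∃ K : Subalgebra F (Mat 10 F), IsFieldSubalgebra 2 K ∧
      IsSelfAdjointFor (polar Q) K ∧ H = subalgebraNormalizer K ⊓ omegaGL Q) ∨
    (∃ (F₀ : Subfield F) (r : ℕ) (P : GL (Fin 10) F) (ζ : F), r.Prime ∧
      Fintype.card F = Nat.card F₀ ^ r ∧ ζ ≠ 0 ∧ IsQuadFormRationalStructure (fun v => ζ * Q v) F₀ P ∧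
      H = subfieldSubgroup F₀ P ⊓ omegaGL Q) ∨
    InOrthogonalResidualClass H := by
  rcases ten_cases hQ hH with ⟨W, h0, hW, hd, e⟩ | (h | h | h | h | h) | ⟨⟨p, hp, hq, hodd, ht⟩, h⟩ | ⟨⟨ht, -⟩, h⟩ |
    ⟨⟨hodd, ht⟩, h⟩ | ⟨⟨hodd, ht⟩, h⟩ | h | ⟨hm, h⟩ | ⟨F₀, r, P, ζ, hr, -, h⟩ | h
  · exact .inl ⟨W, h0, hW, hd hplus, e⟩
  · exact .inr (.inl h)
  · exact .inr (.inr (.inl h))
  · exact .inr (.inr (.inr (.inl h)))
  · exact .inr (.inr (.inr (.inr (.inl h))))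
  · exact .inr (.inr (.inr (.inr (.inr (.inl h)))))
  · refine .inr (.inr (.inr (.inr (.inr (.inr (.inl ⟨⟨p, hp, hq, ?_⟩, h⟩))))))
    have h3 := ht.1 hplus
    obtain ⟨c, hc⟩ := hodd
    omega
  · exact .inr (.inr (.inr (.inr (.inr (.inr (.inr (.inl ⟨ht hplus, h⟩)))))))
  · refine .inr (.inr (.inr (.inr (.inr (.inr (.inr (.inr (.inl ⟨?_, h⟩))))))))
    have h3 := ht.1 hplus
    obtain ⟨c, hc⟩ := hodd
    omega
  · exact .inr (.inr (.inr (.inr (.inr (.inr (.inr (.inr (.inr (.inl ⟨ht.1 hplus, h⟩)))))))))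
  · exact .inr (.inr (.inr (.inr (.inr (.inr (.inr (.inr (.inr (.inr (.inl h))))))))))
  · exact absurd hplus hm
  · exact .inr (.inr (.inr (.inr (.inr (.inr (.inr (.inr (.inr (.inr (.inr (.inl ⟨F₀, r, P, ζ, hr, h⟩)))))))))))
  · exact .inr (.inr (.inr (.inr (.inr (.inr (.inr (.inr (.inr (.inr (.inr (.inr h)))))))))))

end CfsgLib.Classical.OrthEven
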