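import Cfsg.Agent.Lib.Classical.OrthEven.Common
import Cfsg.Agent.Lib.Classical.OrthEven.Absorb
import Cfsg.Agent.Lib.Classical.TensorOrth
import Cfsg.Agent.Lib.Classical.TensorTwo

/-!
# The maximal subgroups in dimension twelve
-/

set_option autoImplicit false
set_option linter.unusedSectionVars false

namespace CfsgLib.Classical.OrthEven

open Matrix Cfsg Cfsg.Geo QuadraticMap CfsgLib.Orth CfsgLib.Classical CfsgLib.Classical.AschPrime
  CfsgLib.Classical.AschForm CfsgLib.Classical.TensorNonMax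
open scoped MatrixGroups

variable {F : Type*} [Field F] [Fintype F]

/-- Over three elements a decomposition into four spaces of dimension three refines into twelve lines. -/
theorem lines_twelve {Q : (Fin 12 → F) → F} (hQ : IsNondegenerateQuadraticForm Q)
    {D : Fin 4 → Submodule F (Fin 12 → F)} (hD : IsOrthogonalMDecomposition Q 3 D) (hq : Fintype.card F = 3)
    {H : Subgroup (GL (Fin 12) F)} (hH : H ≤ omegaGL Q) (hle : H ≤ decompositionStabilizer D) :
    ∃ D' : Fin 12 → Submodule F (Fin 12 → F), IsOrthogonalMDecomposition Q 1 D' ∧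
      H ≤ decompositionStabilizer D' := by
  classical
  have hb := hQ.polar_bilinear
  obtain ⟨-, h3, h2⟩ := TensorNonMax.three_cases hq (0 : F)
  let φ : (Fin 3 → F) ≃ₗ[F] D 0 :=
    (Module.finBasisOfFinrankEq F (D 0) (hD.decomp.decomp.finrank_eq 0)).equivFun.symm
  let g : (Fin 3 → F) → (Fin 3 → F) → F := fun u w => polar Q (φ u : Fin 12 → F) (φ w : Fin 12 → F)
  have hnd : IsNondegenerateForm g := fun u hu => by
    obtain ⟨⟨z, hz, hzu⟩, ⟨z', hz', huz⟩⟩ := hD.decomp.nondegenerate 0 _ (φ u).2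
      (fun h => hu ((LinearEquiv.map_eq_zero_iff φ).1 (Subtype.ext h)))
    refine ⟨⟨φ.symm ⟨z, hz⟩, ?_⟩, ⟨φ.symm ⟨z', hz'⟩, ?_⟩⟩
    · show polar Q _ _ ≠ 0
      rw [LinearEquiv.apply_symm_apply]; exact hzu
    · show polar Q _ _ ≠ 0
      rw [LinearEquiv.apply_symm_apply]; exact huz
  have hg : IsSymmetricForm g := ⟨⟨fun u w z => by simp [g, hb.add_left],
    fun c u z => by simp [g, hb.smul_left], fun z u w => by simp [g, hb.add_right],
    fun c z u => by simp [g, hb.smul_right]⟩, fun u w => b_comm hQ _ _, hnd⟩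
  obtain ⟨w, d, hd, hw⟩ := TensorNonMax.exists_orth3 hq hg
  let v : Fin 3 → D 0 := fun j => φ (w j)
  have hv : ∀ a b, polar Q (v a : Fin 12 → F) (v b : Fin 12 → F) = if a = b then d else 0 := hw
  have hvQ : ∀ j, 2 * Q (v j : Fin 12 → F) = d := fun j => by rw [← b_self hQ, hv, if_pos rfl]
  set a := Q (v 0 : Fin 12 → F) with hadef
  have hQeq : ∀ j, Q (v j : Fin 12 → F) = a := fun j => mul_left_cancel₀ h2 ((hvQ j).trans (hvQ 0).symm)
  have ha : a ≠ 0 := fun h => hd (by rw [← hvQ 0, ← hadef, h, mul_zero])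
  have hexp : ∀ z ∈ D 0, ∃ α β γ : F,
      z = α • (v 0 : Fin 12 → F) + β • (v 1 : Fin 12 → F) + γ • (v 2 : Fin 12 → F) := fun z hz => by
    have hz' := RefineSet.expand (Q := qf hQ) (b := fun j => (v j : Fin 12 → F))
      (c := fun j => d⁻¹ • (v j : Fin 12 → F)) (W := D 0) (fun j => (v j).2)
      (fun a b => by rw [coe_qf hQ, hb.smul_left, hv, mul_ite, inv_mul_cancel₀ hd, mul_zero])
      (by rw [hD.decomp.decomp.finrank_eq 0]; simp) hz
    rw [Fin.sum_univ_three] at hz'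
    exact ⟨_, _, _, hz'⟩
  have hkey : ∀ z ∈ D 0, Q z = a → ∃ j, z = (v j : Fin 12 → F) ∨ z = -(v j : Fin 12 → F) := by
    intro z hz hzQ
    obtain ⟨α, β, γ, rfl⟩ := hexp z hz
    simp only [q_add hQ, q_smul hQ, hb.add_left, hb.smul_left, hb.smul_right, hv, hQeq] at hzQ
    simp at hzQ
    rcases RefineSet.sq_three hq α with eα | eα <;> rcases RefineSet.sq_three hq β with eβ | eβ <;>
      rcases RefineSet.sq_three hq γ with eγ | eγ
    all_goals first
      | (rcases RefineSet.sq_cases eα with e | e <;> refine ⟨0, ?_⟩ <;> simp [eβ, eγ, e]; done)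
      | (rcases RefineSet.sq_cases eβ with e | e <;> refine ⟨1, ?_⟩ <;> simp [eα, eγ, e]; done)
      | (rcases RefineSet.sq_cases eγ with e | e <;> refine ⟨2, ?_⟩ <;> simp [eα, eβ, e]; done)
      | (exfalso; simp only [eα, eβ, eγ] at hzQ; refine ha ?_
         first
           | linear_combination -hzQ
           | linear_combination hzQ
           | linear_combination -hzQ + a * h3)
  choose ε hε using fun i => hD.isometric 0 i
  let W : Fin 4 × Fin 3 → (Fin 12 → F) := fun p => (ε p.1 (v p.2) : D p.1)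
  have hWQ : ∀ p, Q (W p) = a := fun p => (hε p.1 _).trans (hQeq _)
  have hW0 : ∀ p, W p ≠ 0 := fun p h => ha (by rw [← hWQ p, h, q_zero hQ])
  have hWo : ∀ p r, p ≠ r → polar Q (W p) (W r) = 0 := by
    rintro ⟨i, j⟩ ⟨i', j'⟩ hne
    by_cases hii : i = i'
    · subst hii
      have hjj : j ≠ j' := fun h => hne (by rw [h])
      have hpol : ∀ x y : D 0, polar Q (ε i x : Fin 12 → F) (ε i y : Fin 12 → F) =
          polar Q (x : Fin 12 → F) (y : Fin 12 → F) := fun x y => by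
        simp only [QuadraticMap.polar, ← Submodule.coe_add, ← map_add, hε]
      show polar Q (ε i (v j) : Fin 12 → F) (ε i (v j') : Fin 12 → F) = 0
      rw [hpol, hv, if_neg hjj]
    · exact hD.decomp.orthogonal i i' hii _ (Subtype.coe_prop _) _ (Subtype.coe_prop _)
  let σ : Fin 12 ≃ Fin 4 × Fin 3 := (finProdFinEquiv (m := 4) (n := 3)).symm
  let D' : Fin 12 → Submodule F (Fin 12 → F) := fun i => Submodule.span F {W (σ i)}
  have hnd' : ∀ i, IsNondegenerateOn (polar Q) (D' i) := fun i =>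
    nondegenerateOn_line hQ h2 (by rw [hWQ]; exact ha)
  have ho' : ∀ i j, i ≠ j → AreOrthogonalFor (polar Q) (D' i) (D' j) := by
    intro i j hij x hx y hy
    obtain ⟨c, rfl⟩ := Submodule.mem_span_singleton.1 hx
    obtain ⟨c', rfl⟩ := Submodule.mem_span_singleton.1 hy
    rw [hb.smul_left, hb.smul_right, hWo _ _ (σ.injective.ne hij), mul_zero, mul_zero]
  have htop : iSup D' = ⊤ := by
    rw [eq_top_iff, ← hD.decomp.decomp.iSup_eq_top]
    refine iSup_le fun i z hz => ?_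
    obtain ⟨α, β, γ, hz'⟩ := hexp _ ((ε i).symm ⟨z, hz⟩).2
    have hmem : ∀ j, W (i, j) ∈ iSup D' := fun j => le_iSup D' (σ.symm (i, j))
      (by simp only [D', Equiv.apply_symm_apply]; exact Submodule.mem_span_singleton_self _)
    have e1 : (ε i).symm ⟨z, hz⟩ = α • v 0 + β • v 1 + γ • v 2 := Subtype.ext hz'
    have e2 : z = α • W (i, 0) + β • W (i, 1) + γ • W (i, 2) := by
      have := congrArg (fun x => (ε i x : Fin 12 → F)) e1
      simpa [W, map_add, map_smul] using this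
    rw [e2]
    exact add_mem (add_mem (Submodule.smul_mem _ _ (hmem 0)) (Submodule.smul_mem _ _ (hmem 1)))
      (Submodule.smul_mem _ _ (hmem 2))
  refine ⟨D', ⟨⟨⟨by norm_num, one_pos, fun i => finrank_span_singleton (hW0 _), indep_of_orth hQ hnd' ho', htop⟩,
    hnd', ho'⟩, fun i j => ?_⟩, fun h hh => ?_⟩
  · refine ⟨(LinearEquiv.toSpanNonzeroSingleton F _ _ (hW0 (σ i))).symm.trans
      (LinearEquiv.toSpanNonzeroSingleton F _ _ (hW0 (σ j))), fun x => ?_⟩
    obtain ⟨c, rfl⟩ := (LinearEquiv.toSpanNonzeroSingleton F _ _ (hW0 (σ i))).surjective x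
    rw [LinearEquiv.trans_apply, LinearEquiv.symm_apply_apply]
    show Q (c • W (σ j)) = Q (c • W (σ i))
    rw [q_smul hQ, q_smul hQ, hWQ, hWQ]
  obtain ⟨π, hπ⟩ := hle hh
  have himg : ∀ p, ∃ r, (h : Mat 12 F) *ᵥ W p = W r ∨ (h : Mat 12 F) *ᵥ W p = -W r := by
    rintro ⟨i, j⟩
    have hm : (h : Mat 12 F) *ᵥ W (i, j) ∈ D (π i) := by
      rw [← hπ i]
      exact Submodule.mem_map.2 ⟨_, (ε i (v j)).2, Matrix.toLin'_apply _ _⟩
    have hQh : Q ((h : Mat 12 F) *ᵥ W (i, j)) = a := (omega_isometry (hH hh) _).trans (hWQ _)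
    set z : D 0 := (ε (π i)).symm ⟨_, hm⟩ with hz
    have hez : ε (π i) z = ⟨_, hm⟩ := (ε (π i)).apply_symm_apply _
    obtain ⟨j', hj'⟩ := hkey z z.2 (by rw [← hε (π i) z, hez]; exact hQh)
    refine ⟨(π i, j'), hj'.imp (fun e => ?_) fun e => ?_⟩
    · rw [show W (π i, j') = (ε (π i) z : Fin 12 → F) by rw [show z = v j' from Subtype.ext e], hez]
    · rw [show W (π i, j') = -(ε (π i) z : Fin 12 → F) by
        rw [show z = -v j' from Subtype.ext (by rw [Submodule.coe_neg]; exact e), map_neg, Submodule.coe_neg,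
          neg_neg], hez, neg_neg]
  choose r hr using himg
  have hspan : ∀ p, (Submodule.span F {W p}).map (Matrix.toLin' (h : Mat 12 F)) = Submodule.span F {W (r p)} := by
    intro p
    rw [Submodule.map_span, Set.image_singleton, Matrix.toLin'_apply]
    rcases hr p with e | e <;> rw [e]
    rw [← neg_one_smul F (W (r p))]
    exact Submodule.span_singleton_smul_eq (isUnit_one.neg) _
  have hinj : Function.Injective r := fun p p' e => by
    by_contra hne
    have hinjh : Function.Injective (Matrix.toLin' (h : Mat 12 F)) :=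
      Function.LeftInverse.injective (g := Matrix.toLin' ((h⁻¹ : GL (Fin 12) F) : Mat 12 F)) fun x => by
        simp [Matrix.toLin'_apply, Matrix.mulVec_mulVec, ← Units.val_mul]
    have hs := Submodule.map_injective_of_injective hinjh ((hspan p).trans (e ▸ (hspan p').symm))
    obtain ⟨c, hc⟩ := Submodule.mem_span_singleton.1 (hs ▸ Submodule.mem_span_singleton_self (W p))
    have h0 : polar Q (W p) (W p) = 0 := by
      nth_rewrite 2 [← hc]
      rw [hb.smul_right, hWo p p' hne, mul_zero]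
    rw [b_self hQ, hWQ] at h0
    exact mul_ne_zero h2 ha h0
  let R : Equiv.Perm (Fin 4 × Fin 3) := Equiv.ofBijective r hinj.bijective_of_finite
  refine ⟨σ.trans (R.trans σ.symm), fun i => ?_⟩
  simp only [D', hspan, Equiv.trans_apply, Equiv.apply_symm_apply]
  rfl

/-- The classes of maximal subgroups in dimension twelve, either type. -/
def TwelveList (Q : (Fin 12 → F) → F) (H : Subgroup (GL (Fin 12) F)) : Prop :=
  (∃ W : Submodule F (Fin 12 → F), W ≠ ⊥ ∧ IsTotallySingularQuad Q W ∧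
      (IsPlusTypeOn Q ⊤ → Module.finrank F W ≠ 5) ∧ H = subspaceStabilizer W ⊓ omegaGL Q) ∨
  SmallList Q H ∨
  (¬ IsPlusTypeOn Q ⊤ ∧ ∃ W : Submodule F (Fin 12 → F), Module.finrank F W = 6 ∧
      IsNondegenerateOn (polar Q) W ∧ H = subspaceStabilizer W ⊓ omegaGL Q) ∨
  ((IsPlusTypeOn Q ⊤ ∧ ∃ p : ℕ, p.Prime ∧ Odd p ∧ Fintype.card F = p) ∧
      ∃ D : Fin 12 → Submodule F (Fin 12 → F), IsOrthogonalMDecomposition Q 1 D ∧
        H = decompositionStabilizer D ⊓ omegaGL Q) ∨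
  ((IsPlusTypeOn Q ⊤ ∧ 7 ≤ Fintype.card F) ∧ ∃ D : Fin 6 → Submodule F (Fin 12 → F),
      IsOrthogonalMDecomposition Q 2 D ∧ (∀ i, IsPlusTypeOn Q (D i)) ∧
      H = decompositionStabilizer D ⊓ omegaGL Q) ∨
  ((IsPlusTypeOn Q ⊤ ∧ Fintype.card F ≠ 3) ∧ ∃ D : Fin 6 → Submodule F (Fin 12 → F),
      IsOrthogonalMDecomposition Q 2 D ∧ (∀ i, ¬ IsPlusTypeOn Q (D i)) ∧
      H = decompositionStabilizer D ⊓ omegaGL Q) ∨
  ((IsPlusTypeOn Q ⊤ ∧ Odd (Fintype.card F) ∧ 5 ≤ Fintype.card F) ∧ ∃ D : Fin 4 → Submodule F (Fin 12 → F),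
      IsOrthogonalMDecomposition Q 3 D ∧ H = decompositionStabilizer D ⊓ omegaGL Q) ∨
  ((IsPlusTypeOn Q ⊤ → 3 ≤ Fintype.card F) ∧ ∃ D : Fin 3 → Submodule F (Fin 12 → F),
      IsOrthogonalMDecomposition Q 4 D ∧ (¬ IsPlusTypeOn Q ⊤ → ∀ i, ¬ IsPlusTypeOn Q (D i)) ∧
      H = decompositionStabilizer D ⊓ omegaGL Q) ∨
  (IsPlusTypeOn Q ⊤ ∧ ∃ D : Fin 2 → Submodule F (Fin 12 → F), IsOrthogonalMDecomposition Q 6 D ∧
      H = decompositionStabilizer D ⊓ omegaGL Q) ∨
  (IsPlusTypeOn Q ⊤ ∧ ∃ D : Fin 2 → Submodule F (Fin 12 → F), IsMDecomposition 6 D ∧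
      (∀ i, IsTotallySingularQuad Q (D i)) ∧ H = decompositionStabilizer D ⊓ omegaGL Q) ∨
  (∃ K : Subalgebra F (Mat 12 F), IsFieldSubalgebra 2 K ∧ H = subalgebraNormalizer K ⊓ omegaGL Q) ∨
  (∃ K : Subalgebra F (Mat 12 F), IsFieldSubalgebra 3 K ∧ H = subalgebraNormalizer K ⊓ omegaGL Q) ∨
  ((IsPlusTypeOn Q ⊤ ∧ 3 ≤ Fintype.card F) ∧ ∃ (e : Fin 12 ≃ Fin 2 × Fin 6) (P : GL (Fin 12) F)
      (f₁ : (Fin 2 → F) → (Fin 2 → F) → F) (f₂ : (Fin 6 → F) → (Fin 6 → F) → F), IsSymplecticForm f₁ ∧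
      IsSymplecticForm f₂ ∧ IsTensorFormStructure id (polar Q) f₁ f₂ e P ∧
      (∀ (x₁ : Fin 2 → F) (x₂ : Fin 6 → F),
        Q ((P : Mat 12 F) *ᵥ ((fun a : Fin 2 × Fin 6 => x₁ a.1 * x₂ a.2) ∘ e)) = 0) ∧
      H = tensorProductSubgroup 2 6 e P ⊓ omegaGL Q) ∨
  ((¬ IsPlusTypeOn Q ⊤ ∧ Odd (Fintype.card F) ∧ 5 ≤ Fintype.card F) ∧
      ∃ (e : Fin 12 ≃ Fin 3 × Fin 4) (P : GL (Fin 12) F) (f₁ : (Fin 3 → F) → (Fin 3 → F) → F)
      (f₂ : (Fin 4 → F) → (Fin 4 → F) → F), IsSymmetricForm f₁ ∧ IsSymmetricForm f₂ ∧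
      ¬ IsPlusTypeOn (fun v : Fin 4 → F => f₂ v v) ⊤ ∧ IsTensorFormStructure id (polar Q) f₁ f₂ e P ∧
      H = tensorProductSubgroup 3 4 e P ⊓ omegaGL Q) ∨
  (∃ (F₀ : Subfield F) (r : ℕ) (P : GL (Fin 12) F) (ζ : F), r.Prime ∧ (¬ IsPlusTypeOn Q ⊤ → Odd r) ∧
      Fintype.card F = Nat.card F₀ ^ r ∧ ζ ≠ 0 ∧ IsQuadFormRationalStructure (fun v => ζ * Q v) F₀ P ∧
      H = subfieldSubgroup F₀ P ⊓ omegaGL Q) ∨
  InOrthogonalResidualClass H

variable {Q : (Fin 12 → F) → F} (hQ : IsNondegenerateQuadraticForm Q)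
  {H : Subgroup (GL (Fin 12) F)} (hH : IsMaximalIn (omegaGL Q) H)
include hQ hH

theorem twelve_ts {U : Submodule F (Fin 12 → F)} (h0 : U ≠ ⊥) (hU : IsTotallySingularQuad Q U)
    (hle : H ≤ subspaceStabilizer U) : TwelveList Q H := by
  have hn : 7 ≤ 12 := by norm_num
  by_cases h : IsPlusTypeOn Q ⊤ ∧ Module.finrank F U = 5
  · obtain ⟨L, hL, hLd, hle'⟩ := exists_lag_of_sub hQ hH.1.le (k := 6) rfl (by norm_num) h.1 hU (by omega) hle
    have hL0 : L ≠ ⊥ := fun e => by rw [e, finrank_bot] at hLd; omega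
    exact .inl ⟨L, hL0, hL, fun _ => by omega, eq_stab_ts hQ hn hH hL0 hL hle'⟩
  · exact .inl ⟨U, h0, hU, fun hp e => h ⟨hp, e⟩, eq_stab_ts hQ hn hH h0 hU hle⟩

theorem twelve_reduced (h : Reduced Q H) : TwelveList Q H := by
  have hn : 7 ≤ 12 := by norm_num
  rcases h with ⟨U, h0, hU, hle⟩ | ⟨hev, v, hv, hle⟩ | ⟨U, h0, hU, hd, hle⟩ | ⟨U, hU, hd, hle⟩
  · exact twelve_ts hQ hH h0 hU hle
  · exact .inr (.inl (.inr (.inr (.inr (.inr ⟨hev, v, hv, eq_point hQ hn hH hv hle⟩)))))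
  · exact .inr (.inl (small_cases hQ hH hn le_rfl h0 hU hd hle))
  · have hd6 : Module.finrank F U = 6 := by omega
    have hU0 : U ≠ ⊥ := fun e => by rw [e, finrank_bot] at hd6; omega
    by_cases hp : IsPlusTypeOn Q ⊤
    · obtain ⟨W, hc, hW, ho, hdim, hstab⟩ := exists_compl hQ hU
      have hD : IsNondegenerateMDecomposition (polar Q) 6 ![U, W] := by
        refine ⟨pair_decomp (by norm_num) hd6 (by omega) hc, fun i => by fin_cases i <;> assumption,
          fun i j hij => ?_⟩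
        fin_cases i <;> fin_cases j <;>
          first | exact absurd rfl hij | exact ho | exact fun x hx y hy => (b_comm hQ x y).trans (ho y hy x hx)
      have htype := (plus_top_iff hQ hU hW hc ho ⟨3, hd6⟩ ⟨3, by omega⟩).1 hp
      have hiso := isometric_of_type hQ hU hW (d := 3) hd6 (by omega) htype
      refine .inr (.inr (.inr (.inr (.inr (.inr (.inr (.inr (.inl ⟨hp, ![U, W], ⟨hD, fun i j => ?_⟩, ?_⟩))))))))
      · fin_cases i <;> fin_cases j <;>
          first | exact ⟨LinearEquiv.refl F _, fun w => rfl⟩ | exact hiso | exact areIsometric_symm hiso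
      · exact eq_decomp hQ hn hH hD.decomp (fun e => absurd e (by norm_num)) (fun e => absurd e (by norm_num))
          (le_pair_stab hle (hstab H hH.1.le hle))
    · exact .inr (.inr (.inl ⟨hp, U, hd6, hU, eq_stab_of_lt hQ hn hH hU0 (by omega) hle⟩))

theorem twelve_halves {k : ℕ} {D : Fin 2 → Submodule F (Fin 12 → F)} (hk : 2 * k = 12) (hD : IsMDecomposition k D)
    (hts : ∀ i, IsTotallySingularQuad Q (D i)) (hle : H ≤ decompositionStabilizer D) : TwelveList Q H := by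
  obtain rfl : k = 6 := by omega
  refine .inr (.inr (.inr (.inr (.inr (.inr (.inr (.inr (.inr (.inl ⟨?_, D, hD, hts,
    eq_decomp hQ (by norm_num) hH hD (fun e => absurd e (by norm_num)) (fun e => absurd e (by norm_num)) hle⟩)))))))))
  exact ⟨D 0, le_top, hts 0, by rw [finrank_top, Module.finrank_fin_fun, hD.finrank_eq 0]⟩

theorem twelve_quadratic {K : Subalgebra F (Mat 12 F)} (hK : IsFieldSubalgebra 2 K)
    (hle : H ≤ subalgebraNormalizer K) : TwelveList Q H :=
  .inr (.inr (.inr (.inr (.inr (.inr (.inr (.inr (.inr (.inr (.inl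
    ⟨K, hK, eq_field hQ (by norm_num) hH Nat.prime_two hK hle⟩))))))))))

theorem twelve_subfield {F₀ : Subfield F} {l : ℕ} {P : GL (Fin 12) F} {ζ : F} (hl : l.Prime) (hne : F₀ ≠ ⊤)
    (hcard : Fintype.card F = Nat.card F₀ ^ l) (hζ : ζ ≠ 0)
    (hP : IsQuadFormRationalStructure (fun v => ζ * Q v) F₀ P) (hle : H ≤ subfieldSubgroup F₀ P) :
    TwelveList Q H := by
  refine .inr (.inr (.inr (.inr (.inr (.inr (.inr (.inr (.inr (.inr (.inr (.inr (.inr (.inr (.inl
    ⟨F₀, l, P, ζ, hl, fun hm => ?_, hcard, hζ, hP, eq_subfield hQ (by norm_num) hH hne hle⟩))))))))))))))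
  rcases hl.eq_two_or_odd' with rfl | h
  · exact absurd (plus_of_rational hQ (k := 6) rfl hcard hζ hP) hm
  · exact h

theorem twelve_lines {D : Fin 12 → Submodule F (Fin 12 → F)} (hD : IsOrthogonalMDecomposition Q 1 D)
    (hle : H ≤ decompositionStabilizer D) : TwelveList Q H := by
  rcases lines_cases hQ hH.1.le hD hle with hp | ⟨F₀, l, P, ζ, hl, hne, hcard, hζ, hP, hle'⟩
  · obtain ⟨v, a, ha, h2, hv, hvo, -⟩ := exists_frame hQ hD
    exact .inr (.inr (.inr (.inl ⟨⟨(frame_type hQ h2 (s := 6) rfl (by norm_num) ha hv hvo).1 ⟨3, rfl⟩, hp⟩, D, hD,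
      eq_decomp hQ (by norm_num) hH hD.decomp.decomp (fun _ => hD.decomp.orthogonal) (fun _ => h2) hle⟩)))
  · exact twelve_subfield hQ hH hl hne hcard hζ hP hle'

theorem twelve_decomp {t m : ℕ} {D : Fin t → Submodule F (Fin 12 → F)} (hD : IsOrthogonalMDecomposition Q m D)
    (hle : H ≤ decompositionStabilizer D) : TwelveList Q H := by
  classical
  have hn : 7 ≤ 12 := by norm_num
  have htm := AschGen.decomp_card hD.decomp.decomp
  have hm := hD.decomp.decomp.pos
  have ht := hD.decomp.decomp.two_le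
  have hm6 : m ≤ 6 := by nlinarith
  have heq : m ≠ 1 → H = decompositionStabilizer D ⊓ omegaGL Q := fun h1 =>
    eq_decomp hQ hn hH hD.decomp.decomp (fun _ => hD.decomp.orthogonal) (fun e => absurd e h1) hle
  have htype : ∀ i j, IsPlusTypeOn Q (D i) ↔ IsPlusTypeOn Q (D j) :=
    fun i j => plus_iff_of_isometric (hD.isometric i j)
  have hQf : ∀ v, Q v = qf hQ v := fun _ => rfl
  interval_cases m
  · obtain rfl : t = 12 := by omega
    exact twelve_lines hQ hH hD hle
  · obtain rfl : t = 6 := by omega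
    have hp := (plus_iff_members hQ hD.decomp ⟨1, rfl⟩ htype 0).1 ⟨3, rfl⟩
    by_cases hmem : IsPlusTypeOn Q (D 0)
    · have hall : ∀ i, IsPlusTypeOn Q (D i) := fun i => (htype 0 i).1 hmem
      by_cases h7 : 7 ≤ Fintype.card F
      · exact .inr (.inr (.inr (.inr (.inl ⟨⟨hp, h7⟩, D, hD, hall, heq (by norm_num)⟩))))
      · refine (false_of_between hQ hH hle ?_).elim
        have h6 := card_ne_six (F := F)
        have h1 := Fintype.one_lt_card (α := F)
        by_cases h3 : Fintype.card F = 3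
        · exact RefineSet.lines_two hQf hD h3 (by norm_num)
        by_cases h5 : Fintype.card F = 5
        · exact RefineSet.lines_five hQf hD h5 (by norm_num) hall
        exact RefineSet.planes_small hQf (qf_nondeg hQ) (good hQ (by norm_num)) (five_le hQ (by norm_num)) hD
          (by omega) (by norm_num) hall
    · have hall : ∀ i, ¬ IsPlusTypeOn Q (D i) := fun i h => hmem ((htype i 0).1 h)
      by_cases h3 : Fintype.card F = 3
      · exact (false_of_between hQ hH hle (RefineSet.lines_two hQf hD h3 (by norm_num))).elim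
      · exact .inr (.inr (.inr (.inr (.inr (.inl ⟨⟨hp, h3⟩, D, hD, hall, heq (by norm_num)⟩)))))
  · obtain rfl : t = 4 := by omega
    have h2 : (2 : F) ≠ 0 := fun h2 => Nat.not_even_iff_odd.2 (show Odd 3 by decide)
      (hD.decomp.decomp.finrank_eq 0 ▸ even_of_nondegenerateOn hQ h2 (hD.decomp.nondegenerate 0))
    have hodd := odd_card_iff.2 h2
    have hp := four_plus hQ h2 (k := 1) hD
    by_cases h5 : 5 ≤ Fintype.card F
    · exact .inr (.inr (.inr (.inr (.inr (.inr (.inl ⟨⟨hp, hodd, h5⟩, D, hD, heq (by norm_num)⟩))))))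
    · have h1 := Fintype.one_lt_card (α := F)
      have h3 : Fintype.card F = 3 := by obtain ⟨c, hc⟩ := hodd; omega
      obtain ⟨D', hD', hle'⟩ := lines_twelve hQ hD h3 hH.1.le hle
      exact twelve_lines hQ hH hD' hle'
  · obtain rfl : t = 3 := by omega
    have hmem := fun i => (plus_iff_members hQ hD.decomp ⟨2, rfl⟩ htype i).2 ⟨1, rfl⟩
    by_cases h3 : IsPlusTypeOn Q ⊤ → 3 ≤ Fintype.card F
    · exact .inr (.inr (.inr (.inr (.inr (.inr (.inr (.inl
        ⟨h3, D, hD, fun hp i h => hp ((hmem i).2 h), heq (by norm_num)⟩)))))))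
    · obtain ⟨hp, h3⟩ := Classical.not_imp.1 h3
      have h1 := Fintype.one_lt_card (α := F)
      exact (false_of_between hQ hH hle (RefineSet.quads_two hQf (qf_nondeg hQ) (good hQ (by norm_num))
        (five_le hQ (by norm_num)) hD (by omega) (by norm_num) fun i => (hmem i).1 hp)).elim
  · omega
  · obtain rfl : t = 2 := by omega
    exact .inr (.inr (.inr (.inr (.inr (.inr (.inr (.inr (.inl
      ⟨(plus_iff_members hQ hD.decomp ⟨3, rfl⟩ htype 0).1 ⟨1, rfl⟩, D, hD, heq (by norm_num)⟩))))))))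

/-- A plane factor. -/
theorem twelve_two_six {e : Fin 12 ≃ Fin 2 × Fin 6} {P : GL (Fin 12) F}
    {f₁ : (Fin 2 → F) → (Fin 2 → F) → F} {f₂ : (Fin 6 → F) → (Fin 6 → F) → F} (T : Tens Q H e P f₁ f₂) :
    TwelveList Q H := by
  rcases tens_plane hQ hH T rfl with h | ⟨K, hK, -, -, hle⟩ | ⟨k, D, hk, hD, hts, hle⟩ | ⟨halt₁, halt₂, hz⟩
  · exact twelve_reduced hQ hH h
  · exact twelve_quadratic hQ hH hK hle
  · exact twelve_halves hQ hH hk hD hts hle
  · have sk : ∀ {d : ℕ} {g : (Fin d → F) → (Fin d → F) → F}, IsBilinearForm g → IsNondegenerateForm g →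
        (∀ u, g u u = 0) → IsSymplecticForm g := fun {d g} hb hnd halt => ⟨hb, fun v w => by
      have h := halt (v + w)
      rw [hb.add_left, hb.add_right, hb.add_right, halt v, halt w] at h
      linear_combination h, halt, hnd⟩
    have hf₁ := sk T.bil₁ T.nd₁ halt₁
    have hf₂ := sk T.bil₂ T.nd₂ halt₂
    by_cases h3 : 3 ≤ Fintype.card F
    · exact .inr (.inr (.inr (.inr (.inr (.inr (.inr (.inr (.inr (.inr (.inr (.inr (.inl
        ⟨⟨plus_of_pure T rfl hz, h3⟩, e, P, f₁, f₂, hf₁, hf₂, T.struct, fun u w => hz u w,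
          maximal_eq_inf hH T.le (not_le_tensor hQ (by norm_num) e P le_rfl (by norm_num))⟩))))))))))))
    · have h1 := Fintype.one_lt_card (α := F)
      exact (false_of_between hQ hH T.le (TensorNonMax.orth_two_nonmax (qf hQ) (fun _ => rfl) (qf_nondeg hQ)
        (good hQ (by norm_num)) (by simp) (by omega) (by norm_num) e P hf₁ hf₂ T.struct hz)).elim

theorem twelve_three_four {e : Fin 12 ≃ Fin 3 × Fin 4} {P : GL (Fin 12) F}
    {f₁ : (Fin 3 → F) → (Fin 3 → F) → F} {f₂ : (Fin 4 → F) → (Fin 4 → F) → F} (T : Tens Q H e P f₁ f₂) :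
    TwelveList Q H := by
  classical
  have hn₁ : ¬ ∀ u, f₁ u u = 0 := fun h => by
    have := even_of_alternating T.bil₁ T.nd₁ h
    exact absurd this (by decide)
  push Not at hn₁
  by_cases h2 : (2 : F) = 0
  · exact twelve_reduced hQ hH (T.swap.reduced_of_not_alt h2 hn₁)
  obtain ⟨ε, hε, hs₁, hs₂⟩ := T.sym
  obtain rfl : ε = 1 := hε.resolve_right fun h => by
    obtain ⟨u, hu⟩ := hn₁
    exact hu ((mul_eq_zero.1 (show (2 : F) * f₁ u u = 0 by
      have := hs₁ u u; rw [h] at this; linear_combination this)).resolve_left h2)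
  simp only [one_mul] at hs₁ hs₂
  have hf₁ : IsSymmetricForm f₁ := ⟨T.bil₁, fun u v => hs₁ v u, T.nd₁⟩
  have hf₂ : IsSymmetricForm f₂ := ⟨T.bil₂, fun u v => hs₂ v u, T.nd₂⟩
  by_cases hp : IsPlusTypeOn (fun v => f₂ v v) ⊤
  · obtain ⟨e', P', g₁, g₂, T', -⟩ := absorb_four T h2 hf₁.symm hf₂ hp
    exact twelve_two_six hQ hH T'
  have hQm : ¬ IsPlusTypeOn Q ⊤ := fun h => hp (four_factor_plus T h2 hf₁.symm hf₂.symm h)
  by_cases h5 : 5 ≤ Fintype.card F
  · exact .inr (.inr (.inr (.inr (.inr (.inr (.inr (.inr (.inr (.inr (.inr (.inr (.inr (.inl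
      ⟨⟨hQm, odd_card_iff.2 h2, h5⟩, e, P, f₁, f₂, hf₁, hf₂, hp, T.struct,
        maximal_eq_inf hH T.le (not_le_tensor hQ (by norm_num) e P (by norm_num) (by norm_num))⟩)))))))))))))
  · have h1 := Fintype.one_lt_card (α := F)
    obtain ⟨c, hc⟩ := odd_card_iff.2 h2
    exact (false_of_between hQ hH T.le (TensorNonMax.orth_tensor_nonmax (qf hQ) (fun _ => rfl) (qf_nondeg hQ)
      (good hQ (by norm_num)) (by simp) (by omega) (by norm_num) e P hf₁ hf₂ T.struct)).elim

theorem twelve_tensor {n₁ n₂ : ℕ} {e : Fin 12 ≃ Fin n₁ × Fin n₂} {P : GL (Fin 12) F}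
    {f₁ : (Fin n₁ → F) → (Fin n₁ → F) → F} {f₂ : (Fin n₂ → F) → (Fin n₂ → F) → F}
    (T : Tens Q H e P f₁ f₂) : TwelveList Q H := by
  have hc := card_eq e
  have h1 := T.two_le₁
  have h2 := T.two_le₂
  have : n₁ ≤ 6 := by nlinarith
  interval_cases n₁
  · obtain rfl : n₂ = 6 := by omega
    exact twelve_two_six hQ hH T
  · obtain rfl : n₂ = 4 := by omega
    exact twelve_three_four hQ hH T
  · obtain rfl : n₂ = 3 := by omega
    exact twelve_three_four hQ hH T.swap
  · omega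
  · obtain rfl : n₂ = 2 := by omega
    exact twelve_two_six hQ hH T.swap

/-- The classes in dimension twelve. -/
theorem twelve_cases : TwelveList Q H := by
  classical
  have hn : 7 ≤ 12 := by norm_num
  have hHle : H ≤ omegaGL Q := hH.1.le
  rcases geometric hQ (by norm_num) hHle with h | ⟨t, m, D, hD, hle⟩ | ⟨k, D, hk, hD, hts, hle⟩ |
    ⟨r, K, hr, hrd, hK, hs, hle⟩ | ⟨K, hK, -, -, -, hle⟩ | ⟨n₁, n₂, e, P, f₁, f₂, T⟩ |
    ⟨m, t, e, P, ε₁, f₁, L, hm, ht, -, -, -, -, -, -⟩ |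
    ⟨F₀, l, P, ζ, hl, hne, hcard, hζ, hP, hle⟩ | ⟨r, m, R, hm, hnm, hR, -⟩ | h
  · exact twelve_reduced hQ hH h
  · exact twelve_decomp hQ hH hD hle
  · exact twelve_halves hQ hH hk hD hts hle
  · have hr' : r = 2 ∨ r = 3 := by
      have hle12 := Nat.le_of_dvd (by norm_num) hrd
      interval_cases r <;> first | omega | (exfalso; revert hr; norm_num)
    rcases hr' with rfl | rfl
    · exact twelve_quadratic hQ hH hK hle
    · exact .inr (.inr (.inr (.inr (.inr (.inr (.inr (.inr (.inr (.inr (.inr (.inl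
        ⟨K, hK, eq_field hQ hn hH Nat.prime_three hK hle⟩)))))))))))
  · exact twelve_quadratic hQ hH hK hle
  · exact twelve_tensor hQ hH T
  · exfalso
    have hc : 12 = m ^ t := by simpa using Fintype.card_congr e
    have h1 : m ^ 2 ≤ m ^ t := Nat.pow_le_pow_right (by omega) ht
    have hm3 : m ≤ 3 := by nlinarith
    have hp : Nat.Prime m := by interval_cases m <;> norm_num
    have h3 := (Nat.prime_dvd_prime_iff_eq Nat.prime_three hp).1
      (Nat.prime_three.dvd_of_dvd_pow (hc ▸ (by norm_num : (3 : ℕ) ∣ 12)))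
    have h2 := (Nat.prime_dvd_prime_iff_eq Nat.prime_two hp).1
      (Nat.prime_two.dvd_of_dvd_pow (hc ▸ (by norm_num : (2 : ℕ) ∣ 12)))
    omega
  · exact twelve_subfield hQ hH hl hne hcard hζ hP hle
  · exfalso
    have h3 := (Nat.prime_dvd_prime_iff_eq Nat.prime_three hR.prime).1
      (Nat.prime_three.dvd_of_dvd_pow (hnm ▸ (by norm_num : (3 : ℕ) ∣ 12)))
    have h2 := (Nat.prime_dvd_prime_iff_eq Nat.prime_two hR.prime).1
      (Nat.prime_two.dvd_of_dvd_pow (hnm ▸ (by norm_num : (2 : ℕ) ∣ 12)))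
    omega
  · exact .inr (.inr (.inr (.inr (.inr (.inr (.inr (.inr (.inr (.inr (.inr (.inr (.inr (.inr (.inr h))))))))))))))

end CfsgLib.Classical.OrthEven
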