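import Cfsg.Agent.Lib.Classical.OrthEven.Reducible
import Cfsg.Agent.Lib.Classical.SubfieldOrth.QuadFrame

/-!
# Types of non-degenerate subspaces and of orthogonal decompositions
-/

set_option autoImplicit false
set_option linter.unusedSectionVars false

namespace CfsgLib.Classical.OrthEven

open Matrix Cfsg Cfsg.Geo QuadraticMap CfsgLib.Orth CfsgLib.Classical CfsgLib.Classical.AschPrime
  CfsgLib.Classical.AschForm CfsgLib.Derangements.OrthInv
open scoped MatrixGroups

variable {F : Type*} [Field F] [Fintype F] {n : ℕ} {Q : (Fin n → F) → F} (hQ : IsNondegenerateQuadraticForm Q)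
include hQ

theorem nd_iff (W : Submodule F (Fin n → F)) :
    IsNondegenerateOn (polar Q) W ↔ NondegOn (polarBilin (qf hQ)) W :=
  isNondegenerateOn_iff (qf hQ) (fun _ => rfl) W

theorem pl_iff (W : Submodule F (Fin n → F)) : IsPlusTypeOn Q W ↔ PlusOn (qf hQ) W :=
  CfsgLib.Derangements.OrthInv.isPlusTypeOn_iff (qf hQ) (fun _ => rfl) W

theorem orth_iff (U W : Submodule F (Fin n → F)) :
    AreOrthogonalFor (polar Q) U W ↔ ∀ x ∈ U, ∀ y ∈ W, polarBilin (qf hQ) x y = 0 := Iff.rfl

/-- In characteristic two non-degenerate subspaces have even dimension. -/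
theorem even_of_nondegenerateOn (h2 : (2 : F) = 0) {W : Submodule F (Fin n → F)}
    (hW : IsNondegenerateOn (polar Q) W) : Even (Module.finrank F W) := by
  obtain ⟨m, U, A, -, -, -, -, hA2, -, -, hdim, hAn⟩ := exists_core ((nd_iff hQ W).1 hW)
  by_contra hodd
  have hA : Module.finrank F A = 1 := by
    rw [← hdim, Nat.even_add] at hodd
    by_contra hA
    refine hodd ⟨fun _ => even_two_mul m, fun _ => ?_⟩
    rcases Nat.eq_zero_or_pos (Module.finrank F A) with h | h
    · rw [h]; exact ⟨0, rfl⟩
    · exact ⟨1, by omega⟩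
  obtain ⟨v, hv, hspan⟩ := finrank_eq_one_iff'.1 hA
  refine hv (Subtype.ext ((nondegOn_iff.1 hAn) v v.2 fun w hw => ?_))
  obtain ⟨c, hc⟩ := hspan ⟨w, hw⟩
  have hc' : c • (v : Fin n → F) = w := congrArg Subtype.val hc
  show polar Q w v = 0
  rw [← hc', hQ.polar_bilinear.smul_left, b_self hQ, h2, zero_mul, mul_zero]

theorem exists_singular_mem {W : Submodule F (Fin n → F)} (hW : 3 ≤ Module.finrank F W) :
    ∃ v ∈ W, v ≠ 0 ∧ Q v = 0 :=
  SubfieldOrth.exists_singular_sub (Q := qf hQ) hW

/-- The orthogonal complement of a non-degenerate subspace. -/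
theorem exists_compl {U : Submodule F (Fin n → F)} (hU : IsNondegenerateOn (polar Q) U) :
    ∃ W : Submodule F (Fin n → F), IsCompl U W ∧ IsNondegenerateOn (polar Q) W ∧
      AreOrthogonalFor (polar Q) U W ∧ Module.finrank F U + Module.finrank F W = n ∧
      ∀ H : Subgroup (GL (Fin n) F), H ≤ omegaGL Q → H ≤ subspaceStabilizer U → H ≤ subspaceStabilizer W := by
  have hf := herm hQ
  have hdisj : Disjoint U (hf.perp U) := by
    rw [Submodule.disjoint_def]
    intro u hu hu'
    by_contra h0
    obtain ⟨x, hx, hxu⟩ := (hU u hu h0).2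
    exact hxu (hu' x hx)
  have h1 := Submodule.finrank_sup_add_finrank_inf_eq U (hf.perp U)
  rw [hdisj.eq_bot, finrank_bot] at h1
  have h2 := hf.finrank_perp U
  have h3 := Submodule.finrank_le (U ⊔ hf.perp U)
  rw [Module.finrank_fin_fun] at h3
  have htop : U ⊔ hf.perp U = ⊤ := Submodule.eq_top_of_finrank_eq (by rw [Module.finrank_fin_fun]; omega)
  refine ⟨hf.perp U, ⟨hdisj, codisjoint_iff.2 htop⟩,
    hf.nondeg_of_sup (by rw [sup_comm]; exact htop) fun u hu w hw => hu w hw,
    fun u hu w hw => hf.zero_comm (hw u hu), by omega, fun H hH hle => le_subspaceStabilizer ?_⟩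
  exact hf.perp_invariant (fixesForm_omega hH) fun h hh v hv => ((hle hh) v).1 hv

theorem nondegenerateOn_sup {U W : Submodule F (Fin n → F)} (hU : IsNondegenerateOn (polar Q) U)
    (hW : IsNondegenerateOn (polar Q) W) (ho : AreOrthogonalFor (polar Q) U W) :
    IsNondegenerateOn (polar Q) (U ⊔ W) := by
  have hb := hQ.polar_bilinear
  intro x hx hx0
  obtain ⟨u, hu, w, hw, rfl⟩ := Submodule.mem_sup.1 hx
  suffices h : ∃ y ∈ U ⊔ W, polar Q y (u + w) ≠ 0 by
    obtain ⟨y, hy, hyx⟩ := h
    exact ⟨⟨y, hy, hyx⟩, y, hy, by rwa [b_comm hQ]⟩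
  by_cases hu0 : u = 0
  · subst hu0
    rw [zero_add] at hx0 ⊢
    obtain ⟨y, hy, h⟩ := (hW w hw hx0).1
    exact ⟨y, Submodule.mem_sup_right hy, h⟩
  · obtain ⟨y, hy, h⟩ := (hU u hu hu0).1
    exact ⟨y, Submodule.mem_sup_left hy, by rwa [hb.add_right, ho y hy w hw, add_zero]⟩

omit hQ in
theorem areIsometric_symm {U W : Submodule F (Fin n → F)} (h : AreIsometricFor Q U W) : AreIsometricFor Q W U := by
  obtain ⟨e, he⟩ := h
  exact ⟨e.symm, fun w => by rw [← he, e.apply_symm_apply]⟩

omit hQ in
theorem plus_of_isometric {U W : Submodule F (Fin n → F)} (h : AreIsometricFor Q U W) (hU : IsPlusTypeOn Q U) :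
    IsPlusTypeOn Q W := by
  obtain ⟨e, he⟩ := h
  obtain ⟨T, hTU, hT, hTd⟩ := hU
  refine ⟨(T.comap U.subtype).map (W.subtype.comp e.toLinearMap), ?_, ?_, ?_⟩
  · rintro _ ⟨u, -, rfl⟩; exact (e u).2
  · rintro _ ⟨u, hu, rfl⟩; exact (he u).trans (hT _ hu)
  · have hinj : Function.Injective (W.subtype.comp e.toLinearMap) := fun a b hab =>
      e.injective (W.injective_subtype hab)
    rw [← (Submodule.equivMapOfInjective _ hinj _).finrank_eq,
      (Submodule.comapSubtypeEquivOfLe hTU).finrank_eq, hTd]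
    exact e.finrank_eq

omit hQ in
theorem plus_iff_of_isometric {U W : Submodule F (Fin n → F)} (h : AreIsometricFor Q U W) :
    IsPlusTypeOn Q U ↔ IsPlusTypeOn Q W := ⟨plus_of_isometric h, plus_of_isometric (areIsometric_symm h)⟩

/-- Non-degenerate subspaces of one even dimension and one type are isometric. -/
theorem isometric_of_type {U W : Submodule F (Fin n → F)} (hU : IsNondegenerateOn (polar Q) U)
    (hW : IsNondegenerateOn (polar Q) W) {d : ℕ} (hUd : Module.finrank F U = 2 * d)
    (hWd : Module.finrank F W = 2 * d) (h : IsPlusTypeOn Q U ↔ IsPlusTypeOn Q W) : AreIsometricFor Q U W := by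
  rw [pl_iff hQ, pl_iff hQ, plusOn_iff hUd, plusOn_iff hWd] at h
  obtain ⟨e, he⟩ := CfsgLib.Derangements.EvenForms.exists_equiv (comp_nondeg ((nd_iff hQ U).1 hU))
    (comp_nondeg ((nd_iff hQ W).1 hW)) hUd hWd h
  exact ⟨e, fun u => he u⟩

/-- Two orthogonal subspaces of the same type add up to plus type. -/
theorem plus_sup {U W : Submodule F (Fin n → F)} (hU : IsNondegenerateOn (polar Q) U)
    (hW : IsNondegenerateOn (polar Q) W) (hd : Disjoint U W) (ho : AreOrthogonalFor (polar Q) U W)
    (hUe : Even (Module.finrank F U)) (hWe : Even (Module.finrank F W))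
    (h : IsPlusTypeOn Q U ↔ IsPlusTypeOn Q W) : IsPlusTypeOn Q (U ⊔ W) := by
  rw [pl_iff hQ] at h ⊢
  rw [pl_iff hQ] at h
  by_cases hp : PlusOn (qf hQ) U
  · exact plus_add hd ((orth_iff hQ U W).1 ho) hp (h.1 hp)
  · exact minus_add hd ((orth_iff hQ U W).1 ho) ((nd_iff hQ U).1 hU) ((nd_iff hQ W).1 hW) hUe hWe hp fun h' => hp (h.2 h')

/-- The type of an orthogonal decomposition in two parts. -/
theorem plus_top_iff {U W : Submodule F (Fin n → F)} (hU : IsNondegenerateOn (polar Q) U)
    (hW : IsNondegenerateOn (polar Q) W) (hc : IsCompl U W) (ho : AreOrthogonalFor (polar Q) U W)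
    (hUe : Even (Module.finrank F U)) (hWe : Even (Module.finrank F W)) :
    IsPlusTypeOn Q ⊤ ↔ (IsPlusTypeOn Q U ↔ IsPlusTypeOn Q W) := by
  rw [pl_iff hQ, pl_iff hQ, pl_iff hQ]
  exact plus_sum_iff (qf_nondeg hQ) hc ((orth_iff hQ U W).1 ho) ((nd_iff hQ U).1 hU) ((nd_iff hQ W).1 hW) hUe hWe

/-! ### Decompositions with an even member dimension -/

variable {t m : ℕ} {D : Fin t → Submodule F (Fin n → F)}

/-- The sum of some of the members. -/
theorem part_facts (hD : IsNondegenerateMDecomposition (polar Q) m D) (S : Finset (Fin t)) :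
    IsNondegenerateOn (polar Q) (S.sup D) ∧ Module.finrank F (S.sup D : Submodule F (Fin n → F)) = S.card * m ∧
      ∀ a ∉ S, Disjoint (D a) (S.sup D) ∧ AreOrthogonalFor (polar Q) (D a) (S.sup D) := by
  classical
  have hdis : ∀ S : Finset (Fin t), ∀ a ∉ S, Disjoint (D a) (S.sup D) ∧ AreOrthogonalFor (polar Q) (D a) (S.sup D) := by
    intro S a ha
    refine ⟨(hD.decomp.indep a).mono_right (Finset.sup_le fun j hj =>
      le_iSup₂ (f := fun j (_ : j ≠ a) => D j) j (fun e => ha (e ▸ hj))), fun u hu v hv => ?_⟩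
    have : S.sup D ≤ LinearMap.ker (polarBilin (qf hQ) u) := Finset.sup_le fun j hj w hw =>
      hD.orthogonal a j (fun e => ha (e ▸ hj)) u hu w hw
    exact this hv
  refine ⟨?_, ?_, hdis S⟩
  · induction S using Finset.induction_on with
    | empty => exact fun w hw h0 => absurd ((Submodule.mem_bot F).1 (Finset.sup_empty (f := D) ▸ hw)) h0
    | insert a S ha ih =>
      rw [Finset.sup_insert]
      exact nondegenerateOn_sup hQ (hD.nondegenerate a) ih (hdis S a ha).2
  · induction S using Finset.induction_on with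
    | empty => rw [Finset.sup_empty, finrank_bot]; simp
    | insert a S ha ih =>
      rw [Finset.sup_insert, Finset.card_insert_of_notMem ha]
      have := Submodule.finrank_sup_add_finrank_inf_eq (D a) (S.sup D)
      rw [(hdis S a ha).1.eq_bot, finrank_bot, ih, hD.decomp.finrank_eq a, add_zero] at this
      rw [this]; ring

theorem plus_of_even_card (hD : IsNondegenerateMDecomposition (polar Q) m D) (hm : Even m)
    (htype : ∀ i j, IsPlusTypeOn Q (D i) ↔ IsPlusTypeOn Q (D j)) :
    ∀ S : Finset (Fin t), Even S.card → IsPlusTypeOn Q (S.sup D) := by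
  classical
  intro S
  induction hk : S.card using Nat.strong_induction_on generalizing S with
  | _ k ih =>
    intro he
    rcases S.eq_empty_or_nonempty with rfl | ⟨a, ha⟩
    · rw [Finset.sup_empty]
      exact ⟨⊥, le_rfl, fun w hw => by rw [(Submodule.mem_bot F).1 hw, q_zero hQ], by rw [finrank_bot]⟩
    · have h1 : 1 < S.card := by
        have := Finset.card_pos.2 ⟨a, ha⟩
        obtain ⟨c, hc⟩ := he
        omega
      obtain ⟨b, hb, hba⟩ := Finset.exists_mem_ne h1 a
      have hb' : b ∈ S.erase a := Finset.mem_erase.2 ⟨hba, hb⟩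
      set S' := (S.erase a).erase b
      have hcard : S'.card + 2 = S.card := by
        rw [← Finset.card_erase_add_one ha, ← Finset.card_erase_add_one hb']
      have hS'e : Even S'.card := by
        rw [← hk, ← hcard, Nat.even_add] at he
        exact he.2 even_two
      have hplus' := ih _ (by omega) S' rfl hS'e
      have hS : S.sup D = (D a ⊔ D b) ⊔ S'.sup D := by
        conv_lhs => rw [← Finset.insert_erase ha, Finset.sup_insert, ← Finset.insert_erase hb', Finset.sup_insert]
        rw [sup_assoc]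
      obtain ⟨hnS', hdS', hoS'⟩ := part_facts hQ hD S'
      have hne : ∀ i, i = a ∨ i = b → i ∉ S' := by
        rintro i (rfl | rfl) <;> simp [S']
      obtain ⟨-, hd2, -⟩ := part_facts hQ hD {a, b}
      rw [Finset.sup_insert, Finset.sup_singleton, Finset.card_pair hba.symm] at hd2
      have hev : ∀ i, Even (Module.finrank F (D i)) := fun i => by rw [hD.decomp.finrank_eq i]; exact hm
      have hab : IsPlusTypeOn Q (D a ⊔ D b) := plus_sup hQ (hD.nondegenerate a) (hD.nondegenerate b)
        (hD.decomp.indep.pairwiseDisjoint hba.symm) (hD.orthogonal a b hba.symm) (hev a) (hev b) (htype a b)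
      have hdab : Disjoint (D a ⊔ D b) (S'.sup D) := by
        have h3 : Module.finrank F ((D a ⊔ D b) ⊔ S'.sup D : Submodule F (Fin n → F)) = S.card * m := by
          rw [← hS]; exact (part_facts hQ hD S).2.1
        have h4 := Submodule.finrank_sup_add_finrank_inf_eq (D a ⊔ D b) (S'.sup D)
        rw [h3, hd2, hdS'] at h4
        rw [disjoint_iff, ← Submodule.finrank_eq_zero]
        rw [← hcard, add_mul] at h4
        omega
      have hoab : AreOrthogonalFor (polar Q) (D a ⊔ D b) (S'.sup D) := by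
        intro u hu v hv
        obtain ⟨x, hx, y, hy, rfl⟩ := Submodule.mem_sup.1 hu
        rw [hQ.polar_bilinear.add_left, (hoS' a (hne a (.inl rfl))).2 x hx v hv,
          (hoS' b (hne b (.inr rfl))).2 y hy v hv, add_zero]
      rw [hS, pl_iff hQ]
      exact plus_add hdab ((orth_iff hQ _ _).1 hoab) ((pl_iff hQ _).1 hab) ((pl_iff hQ _).1 hplus')

/-- The type of a decomposition into parts of one even dimension and one type. -/
theorem plus_iff_members (hD : IsNondegenerateMDecomposition (polar Q) m D) (hm : Even m)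
    (htype : ∀ i j, IsPlusTypeOn Q (D i) ↔ IsPlusTypeOn Q (D j)) (i : Fin t) :
    (Even t → IsPlusTypeOn Q ⊤) ∧ (Odd t → (IsPlusTypeOn Q ⊤ ↔ IsPlusTypeOn Q (D i))) := by
  classical
  have htop : (Finset.univ.sup D) = (⊤ : Submodule F (Fin n → F)) := by
    rw [Finset.sup_univ_eq_iSup, hD.decomp.iSup_eq_top]
  refine ⟨fun he => htop ▸ plus_of_even_card hQ hD hm htype Finset.univ (by simpa using he), fun ho => ?_⟩
  set S := Finset.univ.erase i
  have he : Even S.card := by
    obtain ⟨c, hc⟩ := ho
    exact ⟨c, by rw [Finset.card_erase_of_mem (Finset.mem_univ i), Finset.card_univ, Fintype.card_fin]; omega⟩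
  obtain ⟨hn', hd', ho'⟩ := part_facts hQ hD S
  have hc : IsCompl (D i) (S.sup D) := ⟨(ho' i (Finset.notMem_erase _ _)).1, codisjoint_iff.2 (by
    rw [← Finset.sup_insert, Finset.insert_erase (Finset.mem_univ i), htop])⟩
  rw [plus_top_iff hQ (hD.nondegenerate i) hn' hc (ho' i (Finset.notMem_erase _ _)).2
    (by rw [hD.decomp.finrank_eq i]; exact hm) (by rw [hd']; exact hm.mul_left _)]
  exact iff_true_right (plus_of_even_card hQ hD hm htype S he)

end CfsgLib.Classical.OrthEven
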